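import Groth.Agent.FibCodepth.SuppComp

/-!
# Consequences on the base of a proper morphism; loci inside the flat locus
-/

set_option autoImplicit false
set_option linter.style.haveILetI false

universe u

open CategoryTheory Limits AlgebraicGeometry IsLocalRing TensorProduct Topology
open Groth.Agent.AssSch.Stalk

namespace Groth.Agent.FibCodepth

variable {X Y : Scheme.{u}} (f : X ⟶ Y)

theorem isQuasicoherent_of_isFP {F : X.Modules} (hF : CohB1.IsFP F) : F.IsQuasicoherent := by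
  have : SheafOfModules.IsFinitePresentation.{u} F := hF
  obtain ⟨σ, -⟩ := SheafOfModules.IsFinitePresentation.exists_quasicoherentData.{u} F
  exact { nonempty_quasicoherentData := ⟨σ⟩ }

/-- A fibrewise condition with open locus upstairs gives an open condition downstairs. -/
theorem isOpen_forall_fiber [IsProper f] (P : (y : Y) → ↥(f.fiber y) → Prop)
    (hopen : IsOpen {x : X | P (f.base x) (f.asFiber x)})
    (htr : ∀ (y : Y) (w : ↥(f.fiber y)), P (f.base (f.fiberι y w)) (f.asFiber (f.fiberι y w)) → P y w) :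
    IsOpen {y : Y | ∀ w, P y w} := by
  have h : {y : Y | ∀ w, P y w} = (f.base '' {x : X | P (f.base x) (f.asFiber x)}ᶜ)ᶜ := by
    ext y
    simp only [Set.mem_compl_iff, Set.mem_image, Set.mem_ofPred_eq, not_exists, not_and]
    constructor
    · intro hy x hx hxy
      subst hxy
      exact hx (hy _)
    · intro hy w
      by_contra hw
      exact hy (f.fiberι y w) (fun hP => hw (htr y w hP)) (fiber_fiberι f y w)
  rw [h, isOpen_compl_iff]
  exact f.isClosedMap _ hopen.isClosed_compl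

variable [LocallyOfFinitePresentation f] (F : X.Modules) (hF : CohB1.IsFP F)

include hF in
theorem chart_data (x : X) : ∃ (V : Y.Opens) (U : X.Opens) (_ : IsAffineOpen V) (_ : IsAffineOpen U)
    (_ : U ≤ f ⁻¹ᵁ V), x ∈ U ∧ Module.Finite Γ(X, U) Γ(F, U) ∧ F.IsQuasicoherent := by
  haveI := isQuasicoherent_of_isFP hF
  obtain ⟨V, U, hV, hU, e, hxU⟩ := FlatSect.exists_chart f x
  haveI : Module.FinitePresentation Γ(X, U) Γ(F, U) := Props.QFP.finitePresentation_sections_of_isFP F hU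
  exact ⟨V, U, hV, hU, e, hxU, inferInstance, inferInstance⟩

variable (hflat : FlatMod.IsFlatOver f F) [IsProper f]

include hF hflat in
theorem isOpen_base_codepth (k : ℕ) :
    IsOpen {y : Y | ∀ x : ↥(f.fiber y), Module.supportDim ((f.fiber y).presheaf.stalk x)
        (((Scheme.Modules.pullback (f.fiberι y)).obj F).presheaf.stalk x) ≤
      ((LocCoh.depth ((f.fiber y).presheaf.stalk x)
        (((Scheme.Modules.pullback (f.fiberι y)).obj F).presheaf.stalk x) : ℕ∞) : WithBot ℕ∞) + k} := by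
  refine isOpen_forall_fiber f _ (isOpen_codepth f F hF hflat k) fun y w h => ?_
  obtain ⟨V, U, hV, hU, e, hxU, hfin, _⟩ := chart_data f F hF (f.fiberι y w)
  exact (codepth_iff_chart f hV hU e F hfin k y w _ rfl hxU).2
    ((codepth_iff_chart f hV hU e F hfin k _ _ _ (f.fiberι_asFiber _) hxU).1 h)

include hF hflat in
theorem isOpen_base_equidim_sk (k : ℕ) (hk : 1 ≤ k) :
    IsOpen {y : Y | ∀ x : ↥(f.fiber y),
      EGA4.IsEquidimModule ((f.fiber y).presheaf.stalk x) (((Scheme.Modules.pullback (f.fiberι y)).obj F).presheaf.stalk x) ∧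
        LocCoh.HasSk k ((f.fiber y).presheaf.stalk x) (((Scheme.Modules.pullback (f.fiberι y)).obj F).presheaf.stalk x)} := by
  refine isOpen_forall_fiber f _ (isOpen_equidim_and_sk f F hF hflat k hk) fun y w h => ?_
  obtain ⟨V, U, hV, hU, e, hxU, hfin, _⟩ := chart_data f F hF (f.fiberι y w)
  exact (equidim_and_sk_iff_chart f hV hU e F hfin k hk y w _ rfl hxU).2
    ((equidim_and_sk_iff_chart f hV hU e F hfin k hk _ _ _ (f.fiberι_asFiber _) hxU).1 h)

include hF hflat in
theorem isOpen_base_rectifiedDepth (m : ℕ) :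
    IsOpen {y : Y | ∀ x : ↥(f.fiber y), (m : WithBot ℕ∞) ≤
      ((LocCoh.depth ((f.fiber y).presheaf.stalk x) (((Scheme.Modules.pullback (f.fiberι y)).obj F).presheaf.stalk x) : ℕ∞) : WithBot ℕ∞) +
        topologicalKrullDim ↥(closure ({x} : Set ↥(f.fiber y)))} := by
  refine isOpen_forall_fiber f _ (isOpen_rectifiedDepth f F hF hflat m) fun y w h => ?_
  obtain ⟨V, U, hV, hU, e, hxU, hfin, _⟩ := chart_data f F hF (f.fiberι y w)
  exact (rectGE_iff_chart f hV hU e F hfin m y w _ rfl hxU).2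
    ((rectGE_iff_chart f hV hU e F hfin m _ _ _ (f.fiberι_asFiber _) hxU).1 h)

include hF hflat in
theorem isOpen_base_assDims (Φ : Finset ℕ) :
    IsOpen {y : Y | ∀ z ∈ AssSch.Ass ((Scheme.Modules.pullback (f.fiberι y)).obj F), ∃ n ∈ Φ,
      topologicalKrullDim ↥(closure ({z} : Set ↥(f.fiber y))) = (n : WithBot ℕ∞)} := by
  let P : (y : Y) → ↥(f.fiber y) → Prop := fun y w =>
    ∀ z ∈ AssSch.Ass ((Scheme.Modules.pullback (f.fiberι y)).obj F), w ∈ closure {z} →
      ∃ n ∈ Φ, topologicalKrullDim ↥(closure ({z} : Set ↥(f.fiber y))) = (n : WithBot ℕ∞)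
  convert isOpen_forall_fiber f P (isOpen_assDims f F hF hflat Φ) (fun y w h => ?_) using 1
  · ext y
    exact ⟨fun h w z hz _ => h z hz, fun h z hz => h z z hz (subset_closure rfl)⟩
  · obtain ⟨V, U, hV, hU, e, hxU, hfin, _⟩ := chart_data f F hF (f.fiberι y w)
    exact (assDims_iff_chart f hV hU e F hfin Φ y w _ rfl hxU).2
      ((assDims_iff_chart f hV hU e F hfin Φ _ _ _ (f.fiberι_asFiber _) hxU).1 h)

include hF hflat in
theorem isOpen_base_noEmbedded :
    IsOpen {y : Y | AssSch.NoEmbedded ((Scheme.Modules.pullback (f.fiberι y)).obj F)} := by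
  let P : (y : Y) → ↥(f.fiber y) → Prop := fun y w =>
    ∀ z ∈ AssSch.Ass ((Scheme.Modules.pullback (f.fiberι y)).obj F), w ∈ closure {z} →
      ∀ z' ∈ AssSch.Ass ((Scheme.Modules.pullback (f.fiberι y)).obj F), z ∈ closure {z'} → z' = z
  convert isOpen_forall_fiber f P (isOpen_noEmb f F hF hflat) (fun y w h => ?_) using 1
  · ext y
    refine ⟨fun h w z hz _ z' hz' hzz' => (h z hz z' hz' (specializes_iff_mem_closure.2 hzz')).symm,
      fun h z hz z' hz' hzz' => (h z z hz (subset_closure rfl) z' hz' hzz'.mem_closure).symm⟩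
  · obtain ⟨V, U, hV, hU, e, hxU, hfin, _⟩ := chart_data f F hF (f.fiberι y w)
    exact (noEmb_iff_chart f hV hU e F hfin y w _ rfl hxU).2
      ((noEmb_iff_chart f hV hU e F hfin _ _ _ (f.fiberι_asFiber _) hxU).1 h)

omit [IsProper f] in
include hF hflat in
/-- Having a component of given dimension in the support is open on the base. -/
theorem isOpen_base_component_dim (n : ℕ) :
    IsOpen {y : Y | ∃ Z ∈ irreducibleComponents ↥(suppFib f F y),
      topologicalKrullDim ↥Z = (n : WithBot ℕ∞)} := by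
  let W := {x : X | ∀ z ∈ AssSch.Ass ((Scheme.Modules.pullback (f.fiberι (f.base x))).obj F),
      f.asFiber x ∈ closure {z} →
      ∃ m ∈ ({n} : Finset ℕ), topologicalKrullDim ↥(closure ({z} : Set ↥(f.fiber (f.base x)))) = (m : WithBot ℕ∞)}
  convert isOpen_image_inter_supp f F hF hflat (isOpen_assDims f F hF hflat {n}) using 1
  ext y
  constructor
  · intro hy
    obtain ⟨ξ, hξ, hd⟩ := (exists_component_dim_iff f F hF y _).1 hy
    refine ⟨f.fiberι y ξ, ⟨?_, ?_⟩, fiber_fiberι f y ξ⟩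
    all_goals obtain ⟨V, U, hV, hU, e, hxU, hfin, _⟩ := chart_data f F hF (f.fiberι y ξ)
    · refine (assDims_iff_chart f hV hU e F hfin {n} _ _ _ (f.fiberι_asFiber _) hxU).2
        ((assDims_iff_chart f hV hU e F hfin {n} y ξ _ rfl hxU).1 fun z hz hξz => ?_)
      obtain rfl := hξ.2 z (mem_suppFib_of_mem_ass hz) (specializes_iff_mem_closure.2 hξz)
      exact ⟨n, Finset.mem_singleton_self n, hd⟩
    · exact (mem_suppFib_iff_chart f F hV hU e hfin _ _ _ (f.fiberι_asFiber _) hxU).2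
        ((mem_suppFib_iff_chart f F hV hU e hfin y ξ _ rfl hxU).1 hξ.1)
  · rintro ⟨x, ⟨hW, hx⟩, rfl⟩
    obtain ⟨ξ, hξ, hξx⟩ := exists_isGenSupp_specializes f F hF hx
    refine (exists_component_dim_iff f F hF _ _).2 ⟨ξ, hξ, ?_⟩
    obtain ⟨m, hm, hd⟩ := hW ξ (mem_ass_of_isGenSupp f F hF hξ) hξx.mem_closure
    rwa [Finset.mem_singleton.1 hm] at hd

include hF hflat in
theorem isOpen_base_component_dims (Φ : Finset ℕ) :
    IsOpen {y : Y | ∀ n ∈ Φ, ∃ Z ∈ irreducibleComponents ↥(suppFib f F y),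
      topologicalKrullDim ↥Z = (n : WithBot ℕ∞)} := by
  have h : {y : Y | ∀ n ∈ Φ, ∃ Z ∈ irreducibleComponents ↥(suppFib f F y),
      topologicalKrullDim ↥Z = (n : WithBot ℕ∞)} = ⋂ n ∈ (Φ : Set ℕ), {y : Y | ∃ Z ∈ irreducibleComponents ↥(suppFib f F y),
      topologicalKrullDim ↥Z = (n : WithBot ℕ∞)} := by
    ext y; simp
  rw [h]
  exact Φ.finite_toSet.isOpen_biInter fun n _ => isOpen_base_component_dim f F hF hflat n

include hF hflat in
theorem isOpen_base_noEmbedded_componentDims_eq (Φ : Finset ℕ) :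
    IsOpen {y : Y | AssSch.NoEmbedded ((Scheme.Modules.pullback (f.fiberι y)).obj F) ∧
      (fun Z : Set ↥(suppFib f F y) => topologicalKrullDim ↥Z) '' irreducibleComponents ↥(suppFib f F y) =
        (fun n : ℕ => (n : WithBot ℕ∞)) '' (Φ : Set ℕ)} := by
  convert ((isOpen_base_noEmbedded f F hF hflat).inter (isOpen_base_assDims f F hF hflat Φ)).inter
    (isOpen_base_component_dims f F hF hflat Φ) using 1
  ext y
  constructor
  · rintro ⟨hne, heq⟩
    refine ⟨⟨hne, fun z hz => ?_⟩, fun n hn => ?_⟩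
    · obtain ⟨ξ, hξ, hξz⟩ := exists_isGenSupp_specializes f F hF (mem_suppFib_of_mem_ass hz)
      obtain rfl : z = ξ := hne z hz ξ (mem_ass_of_isGenSupp f F hF hξ) hξz
      obtain ⟨Z, hZ, hd⟩ := (exists_component_dim_iff f F hF y _).2 ⟨z, hξ, rfl⟩
      have : topologicalKrullDim ↥(closure ({z} : Set ↥(f.fiber y))) ∈ (fun n : ℕ => (n : WithBot ℕ∞)) '' (Φ : Set ℕ) :=
        heq ▸ ⟨Z, hZ, hd⟩
      obtain ⟨n, hn, he⟩ := this
      exact ⟨n, hn, he.symm⟩
    · have : (n : WithBot ℕ∞) ∈ (fun Z : Set ↥(suppFib f F y) => topologicalKrullDim ↥Z) ''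
          irreducibleComponents ↥(suppFib f F y) := by
        rw [heq]; exact ⟨n, hn, rfl⟩
      obtain ⟨Z, hZ, hd⟩ := this
      exact ⟨Z, hZ, hd⟩
  · rintro ⟨⟨hne, hass⟩, hcomp⟩
    refine ⟨hne, Set.Subset.antisymm ?_ ?_⟩
    · rintro _ ⟨Z, hZ, rfl⟩
      obtain ⟨ξ, hξ, hd⟩ := (exists_component_dim_iff f F hF y _).1 ⟨Z, hZ, rfl⟩
      obtain ⟨n, hn, he⟩ := hass ξ (mem_ass_of_isGenSupp f F hF hξ)
      exact ⟨n, hn, (hd.symm.trans he).symm⟩
    · rintro _ ⟨n, hn, rfl⟩
      obtain ⟨Z, hZ, hd⟩ := hcomp n hn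
      exact ⟨Z, hZ, hd⟩

include hF hflat in
/-- The dimension of the support of the fibres is locally constant. -/
theorem isLocallyConstant_suppDim :
    IsLocallyConstant fun y : Y => topologicalKrullDim ↥(suppFib f F y) := by
  refine (IsLocallyConstant.iff_exists_open _).2 fun y => ?_
  obtain ⟨N, hN⟩ := exists_bound f F hF y
  by_cases hemp : suppFib f F y = ∅
  · refine ⟨{y' | ∀ z ∈ AssSch.Ass ((Scheme.Modules.pullback (f.fiberι y')).obj F), ∃ n ∈ (∅ : Finset ℕ),
      topologicalKrullDim ↥(closure ({z} : Set ↥(f.fiber y'))) = (n : WithBot ℕ∞)},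
      isOpen_base_assDims f F hF hflat ∅, fun z hz => ?_, fun y' hy' => ?_⟩
    · exact absurd (mem_suppFib_of_mem_ass hz) (by rw [hemp]; exact Set.notMem_empty z)
    · have he : ∀ y'' : Y, suppFib f F y'' = ∅ → topologicalKrullDim ↥(suppFib f F y'') = ⊥ := fun y'' h => by
        rw [h]
        haveI : IsEmpty (TopologicalSpace.IrreducibleCloseds ↥(∅ : Set ↥(f.fiber y''))) :=
          ⟨fun Z => (Z.isIrreducible.nonempty.some).2⟩
        exact Order.krullDim_eq_bot
      rw [he y hemp, he y' ?_]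
      by_contra hne
      obtain ⟨z, hz⟩ := Set.nonempty_iff_ne_empty.2 hne
      obtain ⟨ξ, hξ, -⟩ := exists_isGenSupp_specializes f F hF hz
      obtain ⟨n, hn, -⟩ := hy' ξ (mem_ass_of_isGenSupp f F hF hξ)
      exact Finset.notMem_empty n hn
  obtain ⟨z, hz⟩ := Set.nonempty_iff_ne_empty.2 hemp
  obtain ⟨ξ₀, hξ₀, -⟩ := exists_isGenSupp_specializes f F hF hz
  have hex : ∃ n ≤ N, ∃ ξ, IsGenSupp f F (y := y) ξ ∧ topologicalKrullDim ↥(closure ({ξ} : Set ↥(f.fiber y))) = (n : WithBot ℕ∞) := by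
    obtain ⟨n, hn⟩ := exists_dim_closure f y ξ₀
    exact ⟨n, hN ξ₀ hξ₀ n hn, ξ₀, hξ₀, hn⟩
  classical
  let P : ℕ → Prop := fun n => ∃ ξ, IsGenSupp f F (y := y) ξ ∧
    topologicalKrullDim ↥(closure ({ξ} : Set ↥(f.fiber y))) = (n : WithBot ℕ∞)
  obtain ⟨d, hdN, hd⟩ := hex
  have hmax : P (Nat.findGreatest P N) := Nat.findGreatest_spec hdN hd
  set m := Nat.findGreatest P N
  have hall : ∀ z ∈ AssSch.Ass ((Scheme.Modules.pullback (f.fiberι y)).obj F), ∃ n ∈ Finset.range (m + 1),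
      topologicalKrullDim ↥(closure ({z} : Set ↥(f.fiber y))) = (n : WithBot ℕ∞) := by
    intro z hz
    obtain ⟨n, hn⟩ := exists_dim_closure f y z
    obtain ⟨ξ, hξ, hξz⟩ := exists_isGenSupp_specializes f F hF (mem_suppFib_of_mem_ass hz)
    obtain ⟨n', hn'⟩ := exists_dim_closure f y ξ
    refine ⟨n, Finset.mem_range_succ_iff.2 (le_trans ?_ (Nat.le_findGreatest (hN ξ hξ n' hn') ⟨ξ, hξ, hn'⟩)), hn⟩
    rw [QSect.topDim_closure_singleton] at hn hn'
    have := Order.height_mono (show z ≤ ξ from hξz)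
    rw [← WithBot.coe_le_coe, hn, hn', Nat.cast_le] at this
    exact this
  refine ⟨{y' | ∀ z ∈ AssSch.Ass ((Scheme.Modules.pullback (f.fiberι y')).obj F), ∃ n ∈ Finset.range (m + 1),
      topologicalKrullDim ↥(closure ({z} : Set ↥(f.fiber y'))) = (n : WithBot ℕ∞)} ∩
      {y' | ∃ Z ∈ irreducibleComponents ↥(suppFib f F y'), topologicalKrullDim ↥Z = (m : WithBot ℕ∞)},
    (isOpen_base_assDims f F hF hflat _).inter (isOpen_base_component_dim f F hF hflat m),
    ⟨hall, (exists_component_dim_iff f F hF y _).2 hmax⟩, fun y' hy' => ?_⟩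
  have key : ∀ y'' : Y, (∀ z ∈ AssSch.Ass ((Scheme.Modules.pullback (f.fiberι y'')).obj F), ∃ n ∈ Finset.range (m + 1),
      topologicalKrullDim ↥(closure ({z} : Set ↥(f.fiber y''))) = (n : WithBot ℕ∞)) →
      (∃ Z ∈ irreducibleComponents ↥(suppFib f F y''), topologicalKrullDim ↥Z = (m : WithBot ℕ∞)) →
      topologicalKrullDim ↥(suppFib f F y'') = (m : WithBot ℕ∞) := by
    intro y'' h1 ⟨Z, hZ, hdZ⟩
    refine le_antisymm (topDim_suppFib_le f F hF y'' (m : ℕ∞) fun ξ hξ => ?_) ?_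
    · obtain ⟨n, hn, he⟩ := h1 ξ (mem_ass_of_isGenSupp f F hF hξ)
      rw [he]
      exact Nat.cast_le.2 (Finset.mem_range_succ_iff.1 hn)
    · rw [← hdZ]
      exact IsInducing.subtypeVal.topologicalKrullDim_le
  rw [key y' hy'.1 hy'.2, key y hall ((exists_component_dim_iff f F hF y _).2 hmax)]

end Groth.Agent.FibCodepth
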