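import Groth.Agent.FibCodepth.CompDimsScheme
import Groth.Agent.ConsPropLib.Noeth
import Groth.Agent.CohDev.Dim

/-!
# Top points of closed sets in the fibres near the generic point of the base
-/

set_option autoImplicit false
set_option linter.style.haveILetI false

universe u

open CategoryTheory Limits AlgebraicGeometry Topology TopologicalSpace

namespace Groth.Agent.FibCodepth

variable {X S : Scheme.{u}} (f : X ⟶ S) [IsNoetherian S] [IrreducibleSpace S] [LocallyOfFiniteType f]
  [QuasiCompact f]

omit [LocallyOfFiniteType f] [QuasiCompact f] in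
/-- A locally constructible set containing the generic point contains a neighbourhood of it. -/
theorem exists_opens_of_mem {C : Set S} (hC : IsLocallyConstructible C) (h : genericPoint S ∈ C) :
    ∃ U : S.Opens, genericPoint S ∈ U ∧ (U : Set S) ⊆ C := by
  obtain ⟨U, hU, hη, hsub⟩ := ConsPropLib.exists_open_subset_of_generic hC.isConstructible h
  exact ⟨⟨U, hU⟩, hη, hsub⟩

include f in
omit [IrreducibleSpace S] in
/-- Closed subsets of a scheme of finite type over a Noetherian scheme are locally constructible. -/
theorem isLocallyConstructible_of_isClosed {W : Set X} (hW : IsClosed W) : IsLocallyConstructible W := by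
  haveI : IsLocallyNoetherian X := LocallyOfFiniteType.isLocallyNoetherian f
  haveI : CompactSpace X := QuasiCompact.compactSpace_of_compactSpace f
  haveI : AlgebraicGeometry.IsNoetherian X := {}
  rw [← compl_compl W]
  exact ((NoetherianSpace.isCompact _).isConstructible hW.isOpen_compl).compl.isLocallyConstructible

omit [AlgebraicGeometry.IsNoetherian S] [IrreducibleSpace S] [LocallyOfFiniteType f] [QuasiCompact f] in
theorem isTopIn_closure_self (s : S) (x : ↥(f.fiber s)) :
    IsTopIn f (closure {f.fiberι s x}) x := by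
  refine ⟨subset_closure rfl, fun w hw hsp => ?_⟩
  exact (hsp.antisymm ((f.fiberι s).isEmbedding.specializes_iff.1 (specializes_iff_mem_closure.2 hw))).eq

omit [AlgebraicGeometry.IsNoetherian S] [IrreducibleSpace S] [LocallyOfFiniteType f] [QuasiCompact f] in
theorem eq_of_isTopIn_closure (s : S) (x w : ↥(f.fiber s)) (hw : IsTopIn f (closure {f.fiberι s x}) w) :
    w = x :=
  (hw.2 x (subset_closure rfl) ((f.fiberι s).isEmbedding.specializes_iff.1 (specializes_iff_mem_closure.2 hw.1))).symm

/-- Near the generic point the components of the closure of a point of the generic fibre keep their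
dimension. -/
theorem exists_nhd_topIn_dim (x : ↥(f.fiber (genericPoint S))) :
    ∃ U : S.Opens, genericPoint S ∈ U ∧ ∀ s ∈ U, ∀ w : ↥(f.fiber s),
      IsTopIn f (closure {f.fiberι (genericPoint S) x}) w →
        topologicalKrullDim ↥(closure ({w} : Set ↥(f.fiber s))) =
          topologicalKrullDim ↥(closure ({x} : Set ↥(f.fiber (genericPoint S)))) := by
  have hcons := isLocallyConstructible_topDims_eq f
    (isLocallyConstructible_of_isClosed f (isClosed_closure (s := {f.fiberι (genericPoint S) x})))
    {topologicalKrullDim ↥(closure ({x} : Set ↥(f.fiber (genericPoint S))))}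
  obtain ⟨U, hη, hU⟩ := exists_opens_of_mem hcons (Set.Subset.antisymm
    (by rintro _ ⟨w, hw, rfl⟩; rw [eq_of_isTopIn_closure f _ x w hw]; rfl)
    (by rintro _ rfl; exact ⟨x, isTopIn_closure_self f _ x, rfl⟩))
  exact ⟨U, hη, fun s hs w hw => (hU hs).subset ⟨w, hw, rfl⟩⟩

/-- Near the generic point the components of the closure of a point of the generic fibre avoid any
closed set avoiding that point. -/
theorem exists_nhd_topIn_avoid (x : ↥(f.fiber (genericPoint S))) {C : Set X} (hC : IsClosed C)
    (hx : f.fiberι (genericPoint S) x ∉ C) :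
    ∃ U : S.Opens, genericPoint S ∈ U ∧ ∀ s ∈ U, ∀ w : ↥(f.fiber s),
      IsTopIn f (closure {f.fiberι (genericPoint S) x}) w → f.fiberι s w ∉ C := by
  set W := closure {f.fiberι (genericPoint S) x}
  obtain ⟨d, hd⟩ := exists_dim_closure f (genericPoint S) x
  obtain ⟨U₁, hη₁, hU₁⟩ := exists_nhd_topIn_dim f x
  have hcons := isLocallyConstructible_exists_topIn f (Z := W ∩ C)
    (isLocallyConstructible_of_isClosed f (isClosed_closure.inter hC)) d
  obtain ⟨U₂, hη₂, hU₂⟩ := exists_opens_of_mem (LimTop.isLocallyConstructible_compl hcons) (by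
    rintro ⟨w, hw, hdim⟩
    have hsp : x ⤳ w := (f.fiberι _).isEmbedding.specializes_iff.1 (specializes_iff_mem_closure.2 hw.1.1)
    have hne : w ≠ x := fun h => hx (h ▸ hw.1.2)
    have := CohDev.dim_closure_lt hsp.mem_closure hne hd.le
    exact this.ne hdim)
  refine ⟨U₁ ⊓ U₂, ⟨hη₁, hη₂⟩, fun s hs w hw hwC => hU₂ hs.2 ⟨w, ⟨⟨hw.1, hwC⟩, fun w' hw' hsp => hw.2 w' hw'.1 hsp⟩, ?_⟩⟩
  exact (hU₁ s hs.1 w hw).trans hd

/-- EGA IV 9.5.6: near the generic point all components of the fibres of an irreducible scheme have the
dimension of the generic fibre. -/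
theorem exists_nhd_forall_components_dim [IrreducibleSpace X] [IsDominant f] :
    ∃ U : S.Opens, genericPoint S ∈ U ∧ ∀ s ∈ U, ∀ T ∈ irreducibleComponents ↥(⇑f ⁻¹' {s}),
      topologicalKrullDim ↥T = topologicalKrullDim ↥(⇑f ⁻¹' {genericPoint S}) := by
  have hgen : f (genericPoint X) = genericPoint S := by
    refine IsGenericPoint.eq ?_ (genericPoint_spec S)
    have hr : closure (Set.range f) = Set.univ := f.denseRange.closure_range
    refine Set.eq_univ_of_univ_subset (hr ▸ closure_minimal ?_ isClosed_closure)
    rintro _ ⟨z, rfl⟩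
    exact ((genericPoint_specializes z).map f.continuous).mem_closure
  obtain ⟨x, hx⟩ : genericPoint X ∈ Set.range (f.fiberι (genericPoint S)).base := by
    rw [Scheme.Hom.range_fiberι]; exact hgen
  obtain ⟨U, hη, hU⟩ := exists_nhd_topIn_dim f x
  have hW : closure {f.fiberι (genericPoint S) x} = (Set.univ : Set X) := by
    rw [show f.fiberι (genericPoint S) x = genericPoint X from hx, genericPoint_closure]
  rw [hW] at hU
  have hfib : topologicalKrullDim ↥(⇑f ⁻¹' {genericPoint S}) =
      topologicalKrullDim ↥(closure ({x} : Set ↥(f.fiber (genericPoint S)))) := by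
    have huniv : closure ({x} : Set ↥(f.fiber (genericPoint S))) = Set.univ := Set.eq_univ_of_forall fun w =>
      ((f.fiberι _).isEmbedding.specializes_iff.1 (by
        rw [show f.fiberι (genericPoint S) x = genericPoint X from hx]
        exact genericPoint_specializes _)).mem_closure
    rw [huniv]
    exact (IsHomeomorph.topologicalKrullDim_eq _
      ((Homeomorph.Set.univ _).trans (f.fiberHomeo (genericPoint S))).isHomeomorph).symm
  refine ⟨U, hη, fun s hs T hT => ?_⟩
  let e : ↥(⇑f ⁻¹' {s}) ≃ₜ ↥((Set.univ : Set X) ∩ ⇑f ⁻¹' {s}) := Homeomorph.setCongr (Set.univ_inter _).symm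
  have hmem : topologicalKrullDim ↥T ∈
      (fun T : Set ↥(⇑f ⁻¹' {s}) => topologicalKrullDim ↥T) '' irreducibleComponents ↥(⇑f ⁻¹' {s}) := ⟨T, hT, rfl⟩
  rw [dims_components_homeo e, dims_components_inter_fibre f Set.univ s (by
    rw [Set.preimage_univ]; exact isClosed_univ.isLocallyClosed)] at hmem
  obtain ⟨w, hw, hdim⟩ := hmem
  rw [← hdim, hfib]
  exact hU s hs w hw

end Groth.Agent.FibCodepth
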