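import Groth.Prelude.Def_EGA4b
import Groth.Agent.FlatMor.FreeFibre
import Groth.Agent.RegLoc.PD
import Mathlib.RingTheory.Spectrum.Prime.FreeLocus
import Mathlib.RingTheory.Localization.AtPrime.Basic

/-!
# Modules flat over the base, restricted to the local ring of a fibre

For `A → B`, a prime `q` and `R = B_q / p B_q`: exact sequences with flat cokernel stay exact after
`R ⊗[B] -`, a finitely presented flat module is free at `q` iff its fibre is, and projective dimension
on the fibre shifts along presentations.
-/

set_option autoImplicit false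
set_option linter.style.haveILetI false

universe u

open TensorProduct IsLocalRing CategoryTheory

namespace Groth.Agent.FibCodepth

variable {A B : Type u} [CommRing A] [CommRing B] [Algebra A B] (q : Ideal B) [q.IsPrime]

local notation "R" => EGA4.FibLocRing A B q

theorem isLocalRing_fibLocRing : IsLocalRing R := by
  haveI : Nontrivial R := Ideal.Quotient.nontrivial_iff.mpr
    (ne_top_of_le_ne_top (maximalIdeal.isMaximal (Localization.AtPrime q)).ne_top (by
      rw [← Localization.AtPrime.map_eq_maximalIdeal, IsScalarTower.algebraMap_eq A B (Localization.AtPrime q),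
        ← Ideal.map_map]
      exact Ideal.map_mono (Ideal.map_comap_le)))
  exact IsLocalRing.of_surjective' (Ideal.Quotient.mk _) Ideal.Quotient.mk_surjective

section Exact

variable {X Y Z : Type u} [AddCommGroup X] [AddCommGroup Y] [AddCommGroup Z]
  [Module B X] [Module B Y] [Module B Z] [Module A X] [Module A Y] [Module A Z]
  [IsScalarTower A B X] [IsScalarTower A B Y] [IsScalarTower A B Z]

theorem smul_top_map (I : Ideal A) :
    ((I.map (algebraMap A B) • ⊤ : Submodule B X)).restrictScalars A = (I • ⊤ : Submodule A X) := by
  rw [Ideal.smul_restrictScalars, Submodule.restrictScalars_top]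

theorem lTensor_quot_injective (f : X →ₗ[B] Y) (hf : Function.Injective f) (g : Y →ₗ[B] Z)
    (hfg : Function.Exact f g) (hg : Function.Surjective g) [Module.Flat A Z] (I : Ideal A) :
    Function.Injective (f.lTensor (B ⧸ I.map (algebraMap A B))) := by
  refine (injective_iff_map_eq_zero _).mpr fun t ht => ?_
  obtain ⟨x, rfl⟩ := TensorProduct.mk_surjective B X (B ⧸ I.map (algebraMap A B)) Ideal.Quotient.mk_surjective t
  rw [TensorProduct.mk_apply, LinearMap.lTensor_tmul] at ht
  have h1 := congrArg (TensorProduct.quotTensorEquivQuotSMul Y (I.map (algebraMap A B))) ht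
  rw [map_zero, show (1 : B ⧸ I.map (algebraMap A B)) = Ideal.Quotient.mk _ 1 from rfl,
    TensorProduct.quotTensorEquivQuotSMul_mk_tmul, one_smul, Submodule.Quotient.mk_eq_zero,
    ← Submodule.restrictScalars_mem A, smul_top_map] at h1
  have h2 : ((1 : A ⧸ I) ⊗ₜ[A] x : (A ⧸ I) ⊗[A] X) = 0 := by
    refine LocFlat.lTensor_injective_of_flat_coker (f.restrictScalars A) (g.restrictScalars A)
      hfg hg hf _ ?_
    rw [map_zero, LinearMap.lTensor_tmul]
    apply (TensorProduct.quotTensorEquivQuotSMul Y I).injective
    rw [map_zero, show (1 : A ⧸ I) = Ideal.Quotient.mk _ 1 from rfl,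
      TensorProduct.quotTensorEquivQuotSMul_mk_tmul, one_smul, Submodule.Quotient.mk_eq_zero]
    exact h1
  have h3 := congrArg (TensorProduct.quotTensorEquivQuotSMul X I) h2
  rw [map_zero, show (1 : A ⧸ I) = Ideal.Quotient.mk _ 1 from rfl,
    TensorProduct.quotTensorEquivQuotSMul_mk_tmul, one_smul, Submodule.Quotient.mk_eq_zero,
    ← smul_top_map (B := B), Submodule.restrictScalars_mem] at h3
  apply (TensorProduct.quotTensorEquivQuotSMul X (I.map (algebraMap A B))).injective
  rw [map_zero, TensorProduct.mk_apply, show (1 : B ⧸ I.map (algebraMap A B)) = Ideal.Quotient.mk _ 1 from rfl,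
    TensorProduct.quotTensorEquivQuotSMul_mk_tmul, one_smul, Submodule.Quotient.mk_eq_zero]
  exact h3

/-- `B_q / p B_q = B_q ⊗_B (B / p B)`. -/
theorem nonempty_fibLocRing_equiv :
    Nonempty (R ≃ₗ[B] Localization.AtPrime q ⊗[B] (B ⧸ (q.comap (algebraMap A B)).map (algebraMap A B))) := by
  let J := (q.comap (algebraMap A B)).map (algebraMap A B)
  have h : ((J • ⊤ : Submodule B (Localization.AtPrime q))) =
      ((q.comap (algebraMap A B)).map (algebraMap A (Localization.AtPrime q))).restrictScalars B := by
    rw [Ideal.smul_top_eq_map, Ideal.map_map, ← IsScalarTower.algebraMap_eq]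
  exact ⟨((Submodule.quotEquivOfEq _ _ h).trans
    (Submodule.Quotient.restrictScalarsEquiv B _)).symm.trans
    (TensorProduct.tensorQuotEquivQuotSMul (Localization.AtPrime q) J).symm⟩

/-- An exact sequence with flat cokernel stays exact on the fibre. -/
theorem lTensor_fib_injective (f : X →ₗ[B] Y) (hf : Function.Injective f) (g : Y →ₗ[B] Z)
    (hfg : Function.Exact f g) (hg : Function.Surjective g) [Module.Flat A Z] :
    Function.Injective (f.lTensor R) := by
  obtain ⟨e⟩ := nonempty_fibLocRing_equiv (A := A) q
  let J := (q.comap (algebraMap A B)).map (algebraMap A B)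
  let L := Localization.AtPrime q
  haveI : Module.Flat B L := IsLocalization.flat L q.primeCompl
  let a := fun (W : Type u) [AddCommGroup W] [Module B W] =>
    (e.rTensor W).trans (TensorProduct.assoc B L (B ⧸ J) W)
  have hcomm : ∀ t, a Y (f.lTensor R t) = (f.lTensor (B ⧸ J)).lTensor L (a X t) := fun t => by
    induction t using TensorProduct.induction_on with
    | zero => simp only [map_zero]
    | tmul r x =>
      show TensorProduct.assoc B L (B ⧸ J) Y (e r ⊗ₜ f x) =
        (f.lTensor (B ⧸ J)).lTensor L (TensorProduct.assoc B L (B ⧸ J) X (e r ⊗ₜ x))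
      induction e r using TensorProduct.induction_on with
      | zero => simp only [TensorProduct.zero_tmul, map_zero]
      | tmul l c => rfl
      | add u v hu hv => simp only [TensorProduct.add_tmul, map_add, hu, hv]
    | add u v hu hv => simp only [map_add, hu, hv]
  intro s t hst
  refine (a X).injective (Module.Flat.lTensor_preserves_injective_linearMap (M := L) _
    (lTensor_quot_injective f hf g hfg hg _) ?_)
  rw [← hcomm, ← hcomm, hst]

end Exact

theorem free_quot_congr {L : Type u} [CommRing L] {I J : Ideal L} {M : Type u} [AddCommGroup M] [Module L M]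
    (h : I = J) (hf : Module.Free (L ⧸ I) ((L ⧸ I) ⊗[L] M)) : Module.Free (L ⧸ J) ((L ⧸ J) ⊗[L] M) := by
  subst h; exact hf

variable {N : Type u} [AddCommGroup N] [Module B N] [Module A N] [IsScalarTower A B N]

/-- The shift of projective dimension on the fibre along a presentation. -/
theorem pd_fib_shift [Module.Flat A N] {F : Type u} [AddCommGroup F] [Module B F]
    [Module.Projective B F] [Module A F] [IsScalarTower A B F] (f : F →ₗ[B] N)
    (hf : Function.Surjective f) (e : ℕ) :
    HasProjectiveDimensionLE (ModuleCat.of R (R ⊗[B] N)) (e + 1) ↔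
      HasProjectiveDimensionLE (ModuleCat.of R (R ⊗[B] LinearMap.ker f)) e := by
  have hinj : Function.Injective ((LinearMap.ker f).subtype.baseChange R) :=
    lTensor_fib_injective (A := A) q (LinearMap.ker f).subtype (Submodule.subtype_injective _) f
      (LinearMap.exact_subtype_ker_map f) hf
  have hsurj : Function.Surjective (f.baseChange R) := LinearMap.lTensor_surjective R hf
  have hex : Function.Exact ((LinearMap.ker f).subtype.baseChange R) (f.baseChange R) :=
    lTensor_exact R (LinearMap.exact_subtype_ker_map f) hf
  rw [RegLoc.PD.pd_shift (f.baseChange R) hsurj]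
  let k := (LinearEquiv.ofInjective _ hinj).trans (LinearEquiv.ofEq _ _ hex.linearMap_ker_eq.symm)
  exact ⟨RegLoc.PD.pd_congr k.symm e, RegLoc.PD.pd_congr k e⟩

/-- A finitely presented module, flat over the base, is free at `q` iff it is free on the fibre. -/
theorem free_fib_iff [Module.FinitePresentation B N] [Module.Flat A N] :
    Module.Free R (R ⊗[B] N) ↔ (⟨q, ‹_›⟩ : PrimeSpectrum B) ∈ Module.freeLocus B N := by
  let p := q.comap (algebraMap A B)
  let L := Localization.AtPrime q
  let Lp := Localization.AtPrime p
  haveI : q.LiesOver p := ⟨rfl⟩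
  letI := Localization.AtPrime.algebraOfLiesOver p q
  rw [Module.freeLocus, Set.mem_ofPred_eq]
  have e : LocalizedModule q.primeCompl N ≃ₗ[L] L ⊗[B] N :=
    LocalizedModule.equivTensorProduct q.primeCompl N
  have hiff : Module.Free (Localization.AtPrime q) (LocalizedModule q.primeCompl N) ↔
      Module.Free L (L ⊗[B] N) :=
    ⟨fun h => Module.Free.of_equiv e, fun h => Module.Free.of_equiv e.symm⟩
  rw [hiff]
  constructor
  · intro h
    haveI : Module.Flat B L := IsLocalization.flat L q.primeCompl
    haveI hflat : Module.Flat A (L ⊗[B] N) := FDesc.Stalk.flat_baseChange N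
    haveI : Module.Flat Lp (L ⊗[B] N) :=
      (Module.flat_iff_of_isLocalization Lp p.primeCompl (L ⊗[B] N)).mpr hflat
    have hI : (maximalIdeal Lp).map (algebraMap Lp L) = p.map (algebraMap A L) := by
      rw [← Localization.AtPrime.map_eq_maximalIdeal, Ideal.map_map, ← IsScalarTower.algebraMap_eq]
    refine FlatMor.FreeFibre.free_of_free_fibre Lp L _ (free_quot_congr hI.symm ?_)
    exact Module.Free.of_equiv (AlgebraTensorModule.cancelBaseChange B L R R N).symm
  · intro h
    exact Module.Free.of_equiv (AlgebraTensorModule.cancelBaseChange B L R R N)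

end Groth.Agent.FibCodepth
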