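import Groth.Agent.FibCodepth.Sk
import Groth.Agent.EGA4Lib.Stalks

/-!
# Openness of fibrewise codepth and (S_k) loci for finitely presented algebras
-/

set_option autoImplicit false
set_option linter.style.haveILetI false

universe u

open TensorProduct IsLocalRing CategoryTheory

namespace Groth.Agent.FibCodepth

theorem exists_fibLocRing_map {A P B : Type u} [CommRing A] [CommRing P] [CommRing B] [Algebra A P]
    [Algebra A B] [Algebra P B] [IsScalarTower A P B] (hs : Function.Surjective (algebraMap P B))
    (q' : Ideal B) [q'.IsPrime] (q : Ideal P) [q.IsPrime] (hq : q'.comap (algebraMap P B) = q) :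
    ∃ φ : EGA4.FibLocRing A P q →+* EGA4.FibLocRing A B q', Function.Surjective φ ∧
      (∀ x : P, φ (algebraMap P _ x) = algebraMap B _ (algebraMap P B x)) ∧
      RingHom.ker φ = (RingHom.ker (algebraMap P B)).map (algebraMap P (EGA4.FibLocRing A P q)) := by
  subst hq
  let L := Localization.AtPrime (q'.comap (algebraMap P B))
  let L' := Localization.AtPrime q'
  let g : L →+* L' := Localization.localRingHom _ q' (algebraMap P B) rfl
  let K := ((q'.comap (algebraMap P B)).comap (algebraMap A P)).map (algebraMap A L)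
  let K' := (q'.comap (algebraMap A B)).map (algebraMap A L')
  have hg : ∀ b, g (algebraMap P L b) = algebraMap B L' (algebraMap P B b) := fun b =>
    Localization.localRingHom_to_map _ _ _ rfl b
  have hgs : Function.Surjective g := fun z => by
    obtain ⟨⟨x, ⟨s, hs'⟩⟩, rfl⟩ := IsLocalization.mk'_surjective q'.primeCompl z
    obtain ⟨x, rfl⟩ := hs x
    obtain ⟨s, rfl⟩ := hs s
    exact ⟨IsLocalization.mk' L x (⟨s, hs'⟩ : (q'.comap (algebraMap P B)).primeCompl),
      Localization.localRingHom_mk' _ _ _ rfl _ _⟩
  have hker : RingHom.ker g = (RingHom.ker (algebraMap P B)).map (algebraMap P L) := by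
    refine le_antisymm (fun z hz => ?_) (Ideal.map_le_iff_le_comap.2 fun b hb => ?_)
    · obtain ⟨⟨x, s⟩, rfl⟩ := IsLocalization.mk'_surjective (q'.comap (algebraMap P B)).primeCompl z
      rw [RingHom.mem_ker] at hz
      have hx : algebraMap B L' (algebraMap P B x) = 0 := by
        rw [← hg, ← IsLocalization.mk'_spec L x s, map_mul, hz, zero_mul]
      obtain ⟨⟨c, hc⟩, hcx⟩ := (IsLocalization.map_eq_zero_iff q'.primeCompl L' _).1 hx
      obtain ⟨c, rfl⟩ := hs c
      have hcJ : c * x ∈ RingHom.ker (algebraMap P B) := (map_mul _ c x).trans hcx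
      exact (IsLocalization.mk'_mem_map_algebraMap_iff _ L _ _ _).2 ⟨c, hc, hcJ⟩
    · rw [Ideal.mem_comap, RingHom.mem_ker, hg, RingHom.mem_ker.1 hb, map_zero]
  have hK : K.map g = K' := by
    show Ideal.map g (Ideal.map (algebraMap A L) _) = _
    rw [Ideal.map_map]
    have h1 : g.comp (algebraMap A L) = algebraMap A L' := RingHom.ext fun a => by
      rw [RingHom.comp_apply, IsScalarTower.algebraMap_apply A P L, hg,
        ← IsScalarTower.algebraMap_apply A P B, ← IsScalarTower.algebraMap_apply A B L']
    rw [h1, Ideal.comap_comap, ← IsScalarTower.algebraMap_eq A P B]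
  let ψ : (L ⧸ K) →+* (L' ⧸ K') := Ideal.quotientMap K' g (Ideal.map_le_iff_le_comap.1 hK.le)
  have hψ : Function.Surjective ψ := Ideal.quotientMap_surjective hgs
  refine ⟨ψ, hψ, fun x => ?_, ?_⟩
  · show ψ (Ideal.Quotient.mk K (algebraMap P L x)) = _
    rw [Ideal.quotientMap_mk, hg]
    rfl
  · rw [IsScalarTower.algebraMap_eq P L (L ⧸ K), ← Ideal.map_map, ← hker, Ideal.Quotient.algebraMap_eq]
    refine le_antisymm (fun z hz => ?_) (Ideal.map_le_iff_le_comap.2 fun x hx => ?_)
    · obtain ⟨z, rfl⟩ := Ideal.Quotient.mk_surjective z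
      rw [RingHom.mem_ker, Ideal.quotientMap_mk, Ideal.Quotient.eq_zero_iff_mem, ← hK,
        ← Ideal.mem_comap, Ideal.comap_map_of_surjective' g hgs, Submodule.mem_sup] at hz
      obtain ⟨a, ha, b, hb, rfl⟩ := hz
      rw [map_add, Ideal.Quotient.eq_zero_iff_mem.2 ha, zero_add]
      exact Ideal.mem_map_of_mem _ hb
    · rw [Ideal.mem_comap, RingHom.mem_ker, Ideal.quotientMap_mk, RingHom.mem_ker.1 hx, map_zero]

/-- Change of rings along a surjection whose kernel comes from a surjection of the base. -/
theorem depth_supportDim_tensor_of_surjective {P B RP RB : Type u} [CommRing P] [CommRing B] [CommRing RP]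
    [CommRing RB] [IsLocalRing RP] [IsLocalRing RB] [Algebra P B] [Algebra P RP] [Algebra B RB] [Algebra P RB]
    [IsScalarTower P B RB] [Algebra RP RB] [IsScalarTower P RP RB]
    (hs : Function.Surjective (algebraMap P B)) (hφ : Function.Surjective (algebraMap RP RB))
    (hφk : RingHom.ker (algebraMap RP RB) = (RingHom.ker (algebraMap P B)).map (algebraMap P RP))
    (N : Type u) [AddCommGroup N] [Module B N] [Module P N] [IsScalarTower P B N] [Module.Finite B N] :
    LocCoh.depth RB (RB ⊗[B] N) = LocCoh.depth RP (RP ⊗[P] N) ∧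
      Module.supportDim RB (RB ⊗[B] N) = Module.supportDim RP (RP ⊗[P] N) := by
  obtain ⟨h1, h2⟩ := EGA4Lib.depth_supportDim_of_surjective (R := RP) (S := RB) hφ (RB ⊗[B] N)
  rw [h1, h2]
  let ι : RP →ₗ[RP] RB := Algebra.linearMap RP RB
  let g : RP ⊗[P] N →ₗ[RP] RB ⊗[P] N := AlgebraTensorModule.map ι LinearMap.id
  haveI : TensorProduct.CompatibleSMul P B RB N := ⟨fun b r m => by
    obtain ⟨x, rfl⟩ := hs b
    rw [algebraMap_smul, algebraMap_smul, TensorProduct.smul_tmul]⟩
  let e : RB ⊗[B] N ≃ₗ[RB] RB ⊗[P] N := TensorProduct.equivOfCompatibleSMul P B RB RB N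
  have hgs : Function.Surjective g := fun y => by
    obtain ⟨x, hx⟩ := LinearMap.rTensor_surjective N (g := ι.restrictScalars P) hφ y
    exact ⟨x, hx⟩
  have hgi : Function.Injective g := by
    refine (injective_iff_map_eq_zero g).2 fun x hx => ?_
    have hex := rTensor_exact N
      (f := (LinearMap.ker (ι.restrictScalars P)).subtype) (g := ι.restrictScalars P)
      (LinearMap.exact_subtype_ker_map _) hφ
    obtain ⟨y, rfl⟩ := (hex x).1 hx
    clear hx
    induction y using TensorProduct.induction_on with
    | zero => rw [map_zero]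
    | tmul r m =>
      obtain ⟨r, hr0⟩ := r
      rw [LinearMap.rTensor_tmul]
      show r ⊗ₜ[P] m = 0
      have hr : r ∈ (RingHom.ker (algebraMap P B)).map (algebraMap P RP) :=
        hφk ▸ (show r ∈ RingHom.ker (algebraMap RP RB) from hr0)
      clear hr0
      induction hr using Submodule.span_induction with
      | mem z hz =>
        obtain ⟨c, hc, rfl⟩ := hz
        rw [Algebra.algebraMap_eq_smul_one, TensorProduct.smul_tmul, ← algebraMap_smul B c m,
          RingHom.mem_ker.1 hc, zero_smul, TensorProduct.tmul_zero]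
      | zero => rw [TensorProduct.zero_tmul]
      | add a b _ _ ha hb => rw [TensorProduct.add_tmul, ha, hb, add_zero]
      | smul a b _ hb =>
        rw [← TensorProduct.smul_tmul', hb, smul_zero]
    | add a b ha hb => rw [map_add, ha, hb, add_zero]
  exact EGA4Lib.depth_supportDim_congr ((e.restrictScalars RP).trans (LinearEquiv.ofBijective g ⟨hgi, hgs⟩).symm)


/-- Depth and dimension of fibre stalks do not change along a surjection of algebras. -/
theorem depth_supportDim_fib_of_surjective {A P B : Type u} [CommRing A] [CommRing P] [CommRing B]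
    [Algebra A P] [Algebra A B] [Algebra P B] [IsScalarTower A P B]
    (hs : Function.Surjective (algebraMap P B)) (N : Type u) [AddCommGroup N] [Module B N] [Module P N]
    [IsScalarTower P B N] [Module.Finite B N] (q' : Ideal B) [q'.IsPrime] (q : Ideal P) [q.IsPrime]
    (hq : q'.comap (algebraMap P B) = q) :
    haveI := isLocalRing_fibLocRing (A := A) q
    haveI := isLocalRing_fibLocRing (A := A) q'
    LocCoh.depth (EGA4.FibLocRing A B q') (EGA4.FibLocRing A B q' ⊗[B] N) =
        LocCoh.depth (EGA4.FibLocRing A P q) (EGA4.FibLocRing A P q ⊗[P] N) ∧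
      Module.supportDim (EGA4.FibLocRing A B q') (EGA4.FibLocRing A B q' ⊗[B] N) =
        Module.supportDim (EGA4.FibLocRing A P q) (EGA4.FibLocRing A P q ⊗[P] N) := by
  haveI := isLocalRing_fibLocRing (A := A) q
  haveI := isLocalRing_fibLocRing (A := A) q'
  obtain ⟨φ, hφ, hφc, hφk⟩ := exists_fibLocRing_map (A := A) hs q' q hq
  letI : Algebra (EGA4.FibLocRing A P q) (EGA4.FibLocRing A B q') := φ.toAlgebra
  haveI : IsScalarTower P (EGA4.FibLocRing A P q) (EGA4.FibLocRing A B q') :=
    IsScalarTower.of_algebraMap_eq (R := P) (S := EGA4.FibLocRing A P q) (A := EGA4.FibLocRing A B q') fun x =>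
      (IsScalarTower.algebraMap_apply P B (EGA4.FibLocRing A B q') x).trans (hφc x).symm
  exact depth_supportDim_tensor_of_surjective hs hφ hφk N

/-- The fibrewise `(S_k)` condition does not change along a surjection of algebras. -/
theorem fibSk_comap_iff {A P B : Type u} [CommRing A] [CommRing P] [CommRing B]
    [Algebra A P] [Algebra A B] [Algebra P B] [IsScalarTower A P B] [Algebra.FiniteType A P]
    (hπ : Function.Surjective (algebraMap P B)) (N : Type u) [AddCommGroup N] [Module B N] [Module P N]
    [IsScalarTower P B N] [Module.Finite B N] [Module.Finite P N] (k : ℕ) (x : PrimeSpectrum B) :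
    FibSk A B N x k ↔ FibSk A P N (PrimeSpectrum.comap (algebraMap P B) x) k := by
  have hc : ∀ z : PrimeSpectrum B, (PrimeSpectrum.comap (algebraMap P B) z).asIdeal.under A = z.asIdeal.under A := fun z => by
    show (z.asIdeal.comap (algebraMap P B)).comap (algebraMap A _) = _
    rw [Ideal.comap_comap, ← IsScalarTower.algebraMap_eq]
  refine ⟨fun hx w hwx hwp => ?_, fun hx z hzx hzp => ?_⟩
  · by_cases hw : RingHom.ker (algebraMap P B) ≤ w.asIdeal
    · obtain ⟨z, rfl⟩ : w ∈ Set.range (PrimeSpectrum.comap (algebraMap P B)) := by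
        show w ∈ Set.range (PrimeSpectrum.comap (algebraMap P B))
        rw [range_comap_of_surjective _ (algebraMap P B) hπ]; exact hw
      obtain ⟨h1, h2⟩ := depth_supportDim_fib_of_surjective (A := A) (P := P) hπ N
        z.asIdeal (PrimeSpectrum.comap (algebraMap P B) z).asIdeal rfl
      rw [← h1, ← h2]
      exact hx z ((Ideal.comap_le_comap_iff_of_surjective _ hπ _ _).1 hwx) (by rwa [← hc, ← hc])
    · have hsupp : w ∉ Module.support P N := by
        rw [Module.support_eq_zeroLocus]
        refine fun hle => hw (le_trans (fun a ha => Module.mem_annihilator.2 fun m => ?_) hle)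
        rw [← algebraMap_smul B a m, RingHom.mem_ker.1 ha, zero_smul]
      haveI := subsingleton_fib (A := A) N w.asIdeal hsupp
      rw [Module.supportDim_eq_bot_of_subsingleton]
      exact (min_le_right _ _).trans bot_le
  · obtain ⟨h1, h2⟩ := depth_supportDim_fib_of_surjective (A := A) (P := P) hπ N
      z.asIdeal (PrimeSpectrum.comap (algebraMap P B) z).asIdeal rfl
    rw [h1, h2]
    exact hx (PrimeSpectrum.comap (algebraMap P B) z) (Ideal.comap_mono hzx) (by rw [hc, hc, hzp])

section Open

variable {A B : Type u} [CommRing A] [CommRing B] [Algebra A B] [Algebra.FinitePresentation A B]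
variable (N : Type u) [AddCommGroup N] [Module B N] [Module A N] [IsScalarTower A B N]
  [Module.FinitePresentation B N] [Module.Flat A N]

/-- EGA IV 12.1.1 (v): the locus where the fibre stalks have codepth at most `k` is open. -/
theorem isOpen_codepthLE (k : ℕ) : IsOpen {q : PrimeSpectrum B | CodepthLE A B N q.asIdeal k} := by
  obtain ⟨n, π, hπ, -⟩ := (inferInstance : Algebra.FinitePresentation A B).out
  letI : Algebra (MvPolynomial (Fin n) A) B := π.toRingHom.toAlgebra
  haveI : IsScalarTower A (MvPolynomial (Fin n) A) B := IsScalarTower.of_algebraMap_eq fun a => (π.commutes a).symm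
  letI : Module (MvPolynomial (Fin n) A) N := Module.compHom N π.toRingHom
  haveI : IsScalarTower (MvPolynomial (Fin n) A) B N := IsScalarTower.of_algebraMap_smul fun _ _ => rfl
  haveI : IsScalarTower A (MvPolynomial (Fin n) A) N := IsScalarTower.of_algebraMap_smul fun a m => by
    show π (algebraMap A _ a) • m = a • m
    rw [π.commutes, algebraMap_smul]
  haveI : Module.FinitePresentation (MvPolynomial (Fin n) A) B :=
    Module.finitePresentation_of_surjective (Algebra.linearMap (MvPolynomial (Fin n) A) B) hπ (by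
      rw [show LinearMap.ker (Algebra.linearMap (MvPolynomial (Fin n) A) B) = RingHom.ker π.toRingHom
        from by ext x; rfl]
      exact Algebra.FinitePresentation.ker_fg_of_mvPolynomial π hπ)
  haveI : Module.FinitePresentation (MvPolynomial (Fin n) A) N :=
    Module.FinitePresentation.trans (MvPolynomial (Fin n) A) N B
  have h : {q : PrimeSpectrum B | CodepthLE A B N q.asIdeal k} =
      PrimeSpectrum.comap (algebraMap (MvPolynomial (Fin n) A) B) ⁻¹'
        {q | CodepthLE A (MvPolynomial (Fin n) A) N q.asIdeal k} := by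
    ext q
    obtain ⟨h1, h2⟩ := depth_supportDim_fib_of_surjective (A := A) (P := MvPolynomial (Fin n) A) hπ N q.asIdeal
      (PrimeSpectrum.comap (algebraMap (MvPolynomial (Fin n) A) B) q).asIdeal rfl
    simp only [Set.mem_ofPred_eq, Set.mem_preimage, CodepthLE]
    rw [h1, h2]
  rw [h]
  exact (isOpen_codepthLE_poly N k).preimage (PrimeSpectrum.continuous_comap _)

/-- EGA IV 12.1.6: the locus where the fibre stalks satisfy `(S_k)` is open. -/
theorem isOpen_fibSk (k : ℕ) : IsOpen {x : PrimeSpectrum B | FibSk A B N x k} := by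
  obtain ⟨n, π, hπ, -⟩ := (inferInstance : Algebra.FinitePresentation A B).out
  letI : Algebra (MvPolynomial (Fin n) A) B := π.toRingHom.toAlgebra
  haveI : IsScalarTower A (MvPolynomial (Fin n) A) B := IsScalarTower.of_algebraMap_eq fun a => (π.commutes a).symm
  letI : Module (MvPolynomial (Fin n) A) N := Module.compHom N π.toRingHom
  haveI : IsScalarTower (MvPolynomial (Fin n) A) B N := IsScalarTower.of_algebraMap_smul fun _ _ => rfl
  haveI : IsScalarTower A (MvPolynomial (Fin n) A) N := IsScalarTower.of_algebraMap_smul fun a m => by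
    show π (algebraMap A _ a) • m = a • m
    rw [π.commutes, algebraMap_smul]
  haveI : Module.FinitePresentation (MvPolynomial (Fin n) A) B :=
    Module.finitePresentation_of_surjective (Algebra.linearMap (MvPolynomial (Fin n) A) B) hπ (by
      rw [show LinearMap.ker (Algebra.linearMap (MvPolynomial (Fin n) A) B) = RingHom.ker π.toRingHom
        from by ext x; rfl]
      exact Algebra.FinitePresentation.ker_fg_of_mvPolynomial π hπ)
  haveI : Module.FinitePresentation (MvPolynomial (Fin n) A) N :=
    Module.FinitePresentation.trans (MvPolynomial (Fin n) A) N B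
  have h : {x : PrimeSpectrum B | FibSk A B N x k} = PrimeSpectrum.comap (algebraMap (MvPolynomial (Fin n) A) B) ⁻¹'
      {x | FibSk A (MvPolynomial (Fin n) A) N x k} := by
    ext x
    exact fibSk_comap_iff hπ N k x
  rw [h]
  exact (isOpen_fibSk_poly N k).preimage (PrimeSpectrum.continuous_comap _)

end Open

section HasSk

variable {A B : Type u} [CommRing A] [CommRing B] [Algebra A B] [Algebra.FiniteType A B]
  (N : Type u) [AddCommGroup N] [Module B N] [Module.Finite B N]

attribute [local instance] Algebra.TensorProduct.rightAlgebra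

omit [Algebra A B] [Algebra.FiniteType A B] [Module.Finite B N] in
/-- The localization of a base change. -/
theorem depth_supportDim_localized_baseChange {F : Type u} [CommRing F] [Algebra B F] (Q : Ideal F) [Q.IsPrime] :
    LocCoh.depth (Localization.AtPrime Q) (LocalizedModule Q.primeCompl (F ⊗[B] N)) =
        LocCoh.depth (Localization.AtPrime Q) (Localization.AtPrime Q ⊗[B] N) ∧
      Module.supportDim (Localization.AtPrime Q) (LocalizedModule Q.primeCompl (F ⊗[B] N)) =
        Module.supportDim (Localization.AtPrime Q) (Localization.AtPrime Q ⊗[B] N) := by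
  let e1 : LocalizedModule Q.primeCompl (F ⊗[B] N) ≃ₗ[Localization.AtPrime Q]
      Localization.AtPrime Q ⊗[F] (F ⊗[B] N) :=
    LocalizedModule.equivTensorProduct Q.primeCompl (F ⊗[B] N)
  let e2 := AlgebraTensorModule.cancelBaseChange B F (Localization.AtPrime Q) (Localization.AtPrime Q) N
  exact EGA4Lib.depth_supportDim_congr (L := Localization.AtPrime Q) (e1.trans e2)

/-- The stalk of the fibre module at a prime of the fibre ring. -/
theorem depth_supportDim_fiber (p : Ideal A) [p.IsPrime] (Q : PrimeSpectrum (p.Fiber B)) (z : Ideal B)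
    [z.IsPrime] (hz : Q.asIdeal.comap Algebra.TensorProduct.includeRight.toRingHom = z) :
    haveI := isLocalRing_fibLocRing (A := A) z
    LocCoh.depth (Localization.AtPrime Q.asIdeal)
        (LocalizedModule Q.asIdeal.primeCompl (p.Fiber B ⊗[B] N)) =
        LocCoh.depth (EGA4.FibLocRing A B z) (EGA4.FibLocRing A B z ⊗[B] N) ∧
      Module.supportDim (Localization.AtPrime Q.asIdeal)
        (LocalizedModule Q.asIdeal.primeCompl (p.Fiber B ⊗[B] N)) =
        Module.supportDim (EGA4.FibLocRing A B z) (EGA4.FibLocRing A B z ⊗[B] N) := by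
  haveI := isLocalRing_fibLocRing (A := A) z
  let F := p.Fiber B
  let L := Localization.AtPrime Q.asIdeal
  haveI : z.LiesOver p := ⟨by
    rw [← hz]
    exact (congrArg PrimeSpectrum.asIdeal
      ((PrimeSpectrum.preimageOrderIsoFiber A B ⟨p, inferInstance⟩).symm Q).2).symm⟩
  obtain ⟨ψ, hψs, hψk, hψc⟩ := RelDim.exists_localRingHom_fibre p z Q.asIdeal hz
  let e0 : EGA4.FibLocRing A B z ≃+* L :=
    (Ideal.quotEquivOfEq ((RelDim.map_fibre_eq p z).trans hψk.symm)).trans
      (RingHom.quotientKerEquivOfSurjective hψs)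
  let e : L ≃ₐ[B] EGA4.FibLocRing A B z := (AlgEquiv.ofRingEquiv (f := e0) fun b => by
    show e0 (Ideal.Quotient.mk _ (algebraMap B (Localization.AtPrime z) b)) = _
    show ψ (algebraMap B (Localization.AtPrime z) b) = _
    rw [hψc, IsScalarTower.algebraMap_apply B F L]
    rfl).symm
  obtain ⟨h1, h2⟩ := depth_supportDim_localized_baseChange (B := B) (F := F) N Q.asIdeal
  obtain ⟨h3, h4⟩ := EGA4Lib.depth_supportDim_tensor_algEquiv (L := L) (L' := EGA4.FibLocRing A B z) e N
  exact ⟨h1.trans h3, h2.trans h4⟩

/-- `FibSk` is the condition `(S_k)` of the fibre module at the point of the fibre ring. -/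
theorem fibSk_iff_hasSkAt (x : PrimeSpectrum B) (k : ℕ) (Q : PrimeSpectrum ((x.asIdeal.under A).Fiber B))
    (hQ : Q.asIdeal.comap Algebra.TensorProduct.includeRight.toRingHom = x.asIdeal) :
    FibSk A B N x k ↔
      EGA4.HasSkAt k ((x.asIdeal.under A).Fiber B) ((x.asIdeal.under A).Fiber B ⊗[B] N) Q.asIdeal := by
  rw [EGA4Lib.hasSkAt_iff]
  constructor
  · intro h w _ hw
    let z : PrimeSpectrum B :=
      ⟨w.comap Algebra.TensorProduct.includeRight.toRingHom, inferInstance⟩
    obtain ⟨h1, h2⟩ := depth_supportDim_fiber N (x.asIdeal.under A) ⟨w, inferInstance⟩ z.asIdeal rfl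
    rw [h1, h2]
    exact h z ((Ideal.comap_mono hw).trans hQ.le) (congrArg PrimeSpectrum.asIdeal
      ((PrimeSpectrum.preimageOrderIsoFiber A B ⟨x.asIdeal.under A, inferInstance⟩).symm ⟨w, inferInstance⟩).2)
  · intro h z hzx hzp
    obtain ⟨Qz, hQz⟩ := exists_fibre_pt z hzp
    have hle : Qz ≤ Q := fibre_le_of_le Qz Q ((hQz.le.trans hzx).trans hQ.ge)
    obtain ⟨h1, h2⟩ := depth_supportDim_fiber N (x.asIdeal.under A) Qz z.asIdeal hQz
    rw [← h1, ← h2]
    exact h Qz.asIdeal hle

end HasSk

end Groth.Agent.FibCodepth
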