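import Groth.Agent.FibCodepth.Alg
import Groth.Agent.Depth.Local

/-!
# Associated points of the fibres of a flat module and their dimensions; rectified depth
-/

set_option autoImplicit false
set_option linter.style.haveILetI false

universe u

open TensorProduct IsLocalRing CategoryTheory

namespace Groth.Agent.FibCodepth

section GSet

variable {A B : Type u} [CommRing A] [CommRing B] [Algebra A B]

variable (A) in
/-- The points having, in `W` and in their fibre, a generization of transcendence degree `≥ c`. -/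
def gset (W : Set (PrimeSpectrum B)) (c : ℕ) : Set (PrimeSpectrum B) :=
  if c = 0 then W else W ∩ (quotDimSet A (PrimeSpectrum.vanishingIdeal W) (c - 1))ᶜ

theorem isClosed_gset [Algebra.FiniteType A B] {W : Set (PrimeSpectrum B)} (hW : IsClosed W) (c : ℕ) :
    IsClosed (gset A W c) := by
  unfold gset
  split
  · exact hW
  · exact hW.inter (isOpen_quotDimSet _ _).isClosed_compl

theorem mem_gset_iff [Algebra.FiniteType A B] {W : Set (PrimeSpectrum B)} (hW : IsClosed W) (c : ℕ)
    (x : PrimeSpectrum B) :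
    x ∈ gset A W c ↔ ∃ z : PrimeSpectrum B, z.asIdeal ≤ x.asIdeal ∧
      z.asIdeal.under A = x.asIdeal.under A ∧ z ∈ W ∧ TrdegGE A z c := by
  have hspec : ∀ z ∈ W, z.asIdeal ≤ x.asIdeal → x ∈ W := fun z hz hzx =>
    ((PrimeSpectrum.le_iff_specializes z x).1 hzx).mem_closed hW hz
  rcases Nat.eq_zero_or_pos c with rfl | hc
  · rw [gset, if_pos rfl]
    exact ⟨fun hx => ⟨x, le_rfl, rfl, hx, trdegGE_zero x⟩, fun ⟨z, hzx, _, hz, _⟩ => hspec z hz hzx⟩
  rw [gset, if_neg hc.ne']
  set I := PrimeSpectrum.vanishingIdeal W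
  haveI : Algebra.FiniteType A (B ⧸ I) :=
    Algebra.FiniteType.of_surjective (Ideal.Quotient.mkₐ A I) Ideal.Quotient.mk_surjective
  constructor
  · intro hx
    obtain ⟨x', hx'x, hx'⟩ : ∃ x' : PrimeSpectrum (B ⧸ I),
        PrimeSpectrum.comap (Ideal.Quotient.mk I) x' = x ∧ x' ∉ RelDim.dimLeSet A (B ⧸ I) (c - 1) := by
      have := hx.2
      simp only [quotDimSet, Set.mem_compl_iff, Set.mem_ofPred_eq, not_forall, exists_prop] at this
      exact this
    obtain ⟨z', hz', hzp', ht⟩ := (not_mem_dimLeSet_iff x' (c - 1)).1 hx'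
    refine ⟨PrimeSpectrum.comap (Ideal.Quotient.mk I) z', ?_, ?_, ?_, ?_⟩
    · rw [← hx'x]; exact Ideal.comap_mono hz'
    · rw [← hx'x]
      exact (Ideal.comap_comap _ _).trans (hzp'.trans (Ideal.comap_comap _ _).symm)
    · rw [← hW.closure_eq, ← PrimeSpectrum.zeroLocus_vanishingIdeal_eq_closure,
        PrimeSpectrum.mem_zeroLocus]
      intro f hf
      show Ideal.Quotient.mk I f ∈ z'.asIdeal
      rw [Ideal.Quotient.eq_zero_iff_mem.2 hf]
      exact zero_mem _
    · rw [trdegGE_quot I z'] at ht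
      rwa [Nat.sub_add_cancel hc] at ht
  · rintro ⟨z, hzx, hzp, hz, ht⟩
    have hlift : ∀ w ∈ W, ∃ w' : PrimeSpectrum (B ⧸ I), PrimeSpectrum.comap (Ideal.Quotient.mk I) w' = w := by
      intro w hw
      have : w ∈ Set.range (PrimeSpectrum.comap (Ideal.Quotient.mk I)) := by
        rw [range_comap_of_surjective _ _ Ideal.Quotient.mk_surjective, Ideal.mk_ker]
        exact fun f hf => (PrimeSpectrum.mem_vanishingIdeal _ _).1 hf w hw
      exact this
    have hx := hspec z hz hzx
    refine ⟨hx, fun hdim => ?_⟩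
    obtain ⟨x', hx'⟩ := hlift x hx
    obtain ⟨z', hz'⟩ := hlift z hz
    refine (not_mem_dimLeSet_iff x' (c - 1)).2 ⟨z', ?_, ?_, ?_⟩ (hdim x' hx')
    · have h1 : PrimeSpectrum.comap (Ideal.Quotient.mk I) z' ≤ PrimeSpectrum.comap (Ideal.Quotient.mk I) x' := by
        rw [hz', hx']; exact hzx
      exact (Ideal.comap_le_comap_iff_of_surjective (Ideal.Quotient.mk I) Ideal.Quotient.mk_surjective _ _).1 h1
    · rw [← hz', ← hx'] at hzp
      exact (Ideal.comap_comap _ _).symm.trans (hzp.trans (Ideal.comap_comap _ _))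
    · rw [trdegGE_quot I z', hz', Nat.sub_add_cancel hc]
      exact ht

theorem tdeg_lt_of_lt {k F : Type u} [Field k] [CommRing F] [Algebra k F] [Algebra.FiniteType k F]
    (Q P : Ideal F) [Q.IsPrime] [P.IsPrime] (h : P < Q) (r t : ℕ) (hr : tdeg k Q = r)
    (ht : tdeg k P = t) : r < t := by
  have h1 := TrdegDim.ringKrullDim_quotient_eq_add Q P h.le r hr
  rw [TrdegDim.ringKrullDim_quotient_eq P t ht] at h1
  haveI : (Q.map (Ideal.Quotient.mk P)).IsPrime :=
    Ideal.map_isPrime_of_surjective Ideal.Quotient.mk_surjective (by rw [Ideal.mk_ker]; exact h.le)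
  have hne : (Q.map (Ideal.Quotient.mk P)).height ≠ 0 := by
    rw [Ne, Ideal.height_eq_zero_iff_eq_bot, Ideal.map_eq_bot_iff_le_ker, Ideal.mk_ker]
    exact h.not_ge
  generalize (Q.map (Ideal.Quotient.mk P)).height = m at h1 hne
  induction m with
  | top =>
    exfalso
    rw [show (r : WithBot ℕ∞) = ((r : ℕ∞) : WithBot ℕ∞) from rfl, ← WithBot.coe_add, top_add,
      show (t : WithBot ℕ∞) = ((t : ℕ∞) : WithBot ℕ∞) from rfl, WithBot.coe_inj] at h1
    exact ENat.natCast_ne_top t h1
  | coe m =>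
    have h2 : t = m + r := by exact_mod_cast h1
    have h3 : m ≠ 0 := fun h0 => hne (by rw [h0]; rfl)
    omega

/-- A proper generization in the fibre has larger transcendence degree. -/
theorem trdegGE_succ_of_lt [Algebra.FiniteType A B] {z z' : PrimeSpectrum B} (hlt : z'.asIdeal < z.asIdeal)
    (hp : z'.asIdeal.under A = z.asIdeal.under A) {c : ℕ} (h : TrdegGE A z c) : TrdegGE A z' (c + 1) := by
  obtain ⟨Q, hQ⟩ := exists_fibre_pt (A := A) z rfl
  obtain ⟨Q', hQ'⟩ := exists_fibre_pt z' hp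
  obtain ⟨r, hcr, hr⟩ := exists_trdeg_fibre z rfl Q hQ h
  refine trdegGE_of_fibre z' hp Q' hQ' fun t ht => ?_
  have hQlt : Q'.asIdeal < Q.asIdeal := by
    refine lt_of_le_of_ne (fibre_le_of_le Q' Q ((hQ'.le.trans hlt.le).trans hQ.ge)) fun he => hlt.ne ?_
    exact hQ'.symm.trans ((congrArg (Ideal.comap Algebra.TensorProduct.includeRight.toRingHom) he).trans hQ)
  exact le_trans (by omega) (Nat.succ_le_of_lt (tdeg_lt_of_lt Q.asIdeal Q'.asIdeal hQlt r t hr ht))

variable (A) in
/-- The transcendence degree of `z` over its image is `m`. -/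
def TrdegEQ (z : PrimeSpectrum B) (m : ℕ) : Prop := TrdegGE A z m ∧ ¬ TrdegGE A z (m + 1)

theorem TrdegGE.mono {z : PrimeSpectrum B} {c d : ℕ} (h : TrdegGE A z c) (hd : d ≤ c) : TrdegGE A z d := by
  obtain ⟨t, hct, ht⟩ := h
  exact ⟨t, hd.trans hct, ht⟩

theorem TrdegEQ.eq {z : PrimeSpectrum B} {m m' : ℕ} (h : TrdegEQ A z m) (h' : TrdegEQ A z m') : m = m' := by
  rcases lt_trichotomy m m' with hlt | he | hlt
  · exact absurd (h'.1.mono hlt) h.2
  · exact he
  · exact absurd (h.1.mono hlt) h'.2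

theorem trdegGE_of_surjective {P : Type u} [CommRing P] [Algebra A P] [Algebra P B] [IsScalarTower A P B]
    (hs : Function.Surjective (algebraMap P B)) (z : PrimeSpectrum B) (c : ℕ) :
    TrdegGE A z c ↔ TrdegGE A (PrimeSpectrum.comap (algebraMap P B) z) c := by
  let w := PrimeSpectrum.comap (algebraMap P B) z
  let p := w.asIdeal.under A
  have hp : z.asIdeal.under A = p := by
    show _ = (z.asIdeal.comap (algebraMap P B)).comap (algebraMap A P)
    rw [Ideal.comap_comap, ← IsScalarTower.algebraMap_eq]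
  haveI : w.asIdeal.LiesOver p := ⟨rfl⟩
  haveI : z.asIdeal.LiesOver p := ⟨hp.symm⟩
  letI := resAlg p w.asIdeal
  haveI := resAlg_tower p w.asIdeal
  letI := resAlg p z.asIdeal
  haveI := resAlg_tower p z.asIdeal
  refine (trdegGE_congr z hp c).trans (exists_congr fun t => and_congr_right fun _ => ?_)
  let m := Ideal.ResidueField.mapₐ w.asIdeal z.asIdeal (IsScalarTower.toAlgHom A P B) rfl
  have hm : ∀ b : P, m (algebraMap P w.asIdeal.ResidueField b) =
      algebraMap B z.asIdeal.ResidueField (algebraMap P B b) := fun b =>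
    Ideal.ResidueField.map_algebraMap _ _ _ _ b
  have hbij : Function.Bijective m := by
    refine ⟨m.toRingHom.injective, fun y => ?_⟩
    obtain ⟨x, s, hs', rfl⟩ := IsFractionRing.div_surjective (B ⧸ z.asIdeal) y
    obtain ⟨x, rfl⟩ := Ideal.Quotient.mk_surjective x
    obtain ⟨s, rfl⟩ := Ideal.Quotient.mk_surjective s
    obtain ⟨x, rfl⟩ := hs x
    obtain ⟨s, rfl⟩ := hs s
    refine ⟨algebraMap P _ x / algebraMap P _ s, ?_⟩
    rw [map_div₀, hm, hm]
    rfl
  have hc : m.toRingHom.comp (algebraMap p.ResidueField w.asIdeal.ResidueField) =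
      algebraMap p.ResidueField z.asIdeal.ResidueField := by
    refine Ideal.ResidueField.ringHom_ext (RingHom.ext fun a => ?_)
    simp only [RingHom.comp_apply]
    rw [← IsScalarTower.algebraMap_apply, ← IsScalarTower.algebraMap_apply]
    exact m.commutes a
  have e := (AlgEquiv.ofRingEquiv (f := RingEquiv.ofBijective m.toRingHom hbij)
    (fun c => RingHom.congr_fun hc c)).trdeg_eq
  rw [e]

end GSet

section Defs

variable (A B : Type u) [CommRing A] [CommRing B] [Algebra A B] (N : Type u) [AddCommGroup N] [Module B N]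

/-- `z` is an associated point of the fibre of `N`. -/
def IsAssFib (z : PrimeSpectrum B) : Prop :=
  haveI := isLocalRing_fibLocRing (A := A) z.asIdeal
  Module.supportDim (EGA4.FibLocRing A B z.asIdeal) (EGA4.FibLocRing A B z.asIdeal ⊗[B] N) ≠ ⊥ ∧
    LocCoh.depth (EGA4.FibLocRing A B z.asIdeal) (EGA4.FibLocRing A B z.asIdeal ⊗[B] N) = 0

/-- All associated points of the fibre through `x` have dimensions in `Φ`. -/
def AssDimsIn (Φ : Finset ℕ) (x : PrimeSpectrum B) : Prop :=
  ∀ z : PrimeSpectrum B, z.asIdeal ≤ x.asIdeal → z.asIdeal.under A = x.asIdeal.under A →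
    IsAssFib A B N z → ∃ m ∈ Φ, TrdegEQ A z m

/-- No embedded associated point of the fibre passes through `x`. -/
def NoEmbFib (x : PrimeSpectrum B) : Prop :=
  ∀ z : PrimeSpectrum B, z.asIdeal ≤ x.asIdeal → z.asIdeal.under A = x.asIdeal.under A →
    IsAssFib A B N z → ∀ z' : PrimeSpectrum B, z'.asIdeal ≤ z.asIdeal →
      z'.asIdeal.under A = z.asIdeal.under A → IsAssFib A B N z' → z' = z

/-- The rectified depth at `x` is at least `m`. -/
def RectGE (m : ℕ) (x : PrimeSpectrum B) : Prop :=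
  haveI := isLocalRing_fibLocRing (A := A) x.asIdeal
  ∀ t : ℕ, TrdegEQ A x t → (m : ℕ∞) ≤
    LocCoh.depth (EGA4.FibLocRing A B x.asIdeal) (EGA4.FibLocRing A B x.asIdeal ⊗[B] N) + t

end Defs

section Poly

variable {A : Type u} [CommRing A] {n : ℕ}
variable (N : Type u) [AddCommGroup N] [Module (MvPolynomial (Fin n) A) N]
  [Module A N] [IsScalarTower A (MvPolynomial (Fin n) A) N]
  [Module.FinitePresentation (MvPolynomial (Fin n) A) N] [Module.Flat A N]

variable (A n) in
/-- The points of the support at which the fibre has projective dimension at least `m`. -/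
def pdGESet (m : ℕ) : Set (PrimeSpectrum (MvPolynomial (Fin n) A)) :=
  Module.support (MvPolynomial (Fin n) A) N ∩
    (if m = 0 then Set.univ else (pdSet A (MvPolynomial (Fin n) A) N (m - 1))ᶜ)

theorem isClosed_pdGESet (m : ℕ) : IsClosed (pdGESet A n N m) := by
  refine Module.isClosed_support.inter ?_
  split
  · exact isClosed_univ
  · exact (isOpen_pdSet A _ _ N).isClosed_compl

omit [Module A N] [IsScalarTower A (MvPolynomial (Fin n) A) N] [Module.Flat A N] in
theorem supportDim_ne_bot_iff (z : PrimeSpectrum (MvPolynomial (Fin n) A)) :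
    Module.supportDim (EGA4.FibLocRing A (MvPolynomial (Fin n) A) z.asIdeal)
      (EGA4.FibLocRing A (MvPolynomial (Fin n) A) z.asIdeal ⊗[MvPolynomial (Fin n) A] N) ≠ ⊥ ↔
      z ∈ Module.support (MvPolynomial (Fin n) A) N := by
  refine ⟨fun h => by_contra fun hn => h (supportDim_fib_eq_bot N z hn), fun hz => ?_⟩
  obtain ⟨h, s, t, δ, -, -, -, hs, -⟩ := exists_numbers N z hz
  rw [hs]
  simp

omit [Module A N] [IsScalarTower A (MvPolynomial (Fin n) A) N] [Module.Flat A N] in
theorem trdegGE_le_of_mem_pdGESet {z : PrimeSpectrum (MvPolynomial (Fin n) A)} {j c : ℕ} (hj : j ≤ n)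
    (hz : z ∈ pdGESet A n N (n - j)) (hc : TrdegGE A z c) : c ≤ j := by
  obtain ⟨h, s, t, δ, hht, hst, hsh, hs, hdimset, hAB, htr⟩ := exists_numbers N z hz.1
  have hct := (htr c).1 hc
  by_contra hlt
  have h2 := hz.2
  rw [if_neg (by omega), Set.mem_compl_iff, hAB, show h - (n - j - 1) = 0 by omega] at h2
  exact h2 (by simp)

omit [Module A N] [IsScalarTower A (MvPolynomial (Fin n) A) N] [Module.Flat A N] in
theorem isAssFib_iff (z : PrimeSpectrum (MvPolynomial (Fin n) A)) :
    IsAssFib A (MvPolynomial (Fin n) A) N z ↔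
      ∃ j ≤ n, z ∈ pdGESet A n N (n - j) ∧ TrdegGE A z j := by
  haveI := isLocalRing_fibLocRing (A := A) z.asIdeal
  unfold IsAssFib
  rw [supportDim_ne_bot_iff]
  constructor
  · rintro ⟨hz, hd⟩
    obtain ⟨h, s, t, δ, hht, hst, hsh, hs, hdimset, hAB, htr⟩ := exists_numbers N z hz
    refine ⟨t, by omega, ⟨hz, ?_⟩, (htr t).2 le_rfl⟩
    split_ifs with h0
    · trivial
    · rw [Set.mem_compl_iff, hAB, hd, show h - (n - t - 1) = 1 by omega]
      simp
  · rintro ⟨j, hj, ⟨hz, hpd⟩, ht⟩
    refine ⟨hz, ?_⟩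
    obtain ⟨h, s, t, δ, hht, hst, hsh, hs, hdimset, hAB, htr⟩ := exists_numbers N z hz
    have hjt := (htr j).1 ht
    haveI : Nontrivial (EGA4.FibLocRing A (MvPolynomial (Fin n) A) z.asIdeal ⊗[MvPolynomial (Fin n) A] N) := by
      rw [← not_subsingleton_iff_nontrivial]
      intro hsub
      rw [Module.supportDim_eq_bot_of_subsingleton] at hs
      exact absurd hs.symm (by simp)
    haveI : IsNoetherianRing (EGA4.FibLocRing A (MvPolynomial (Fin n) A) z.asIdeal) := by
      haveI : z.asIdeal.LiesOver (z.asIdeal.under A) := ⟨rfl⟩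
      letI := resAlg (z.asIdeal.under A) z.asIdeal
      haveI := resAlg_tower (z.asIdeal.under A) z.asIdeal
      obtain ⟨r, hr⟩ := RelDim.exists_trdeg_eq (z.asIdeal.under A) z.asIdeal
      haveI := (regular_and_dim A n z.asIdeal (z.asIdeal.under A) r hr).1
      infer_instance
    have hle : LocCoh.depth (EGA4.FibLocRing A (MvPolynomial (Fin n) A) z.asIdeal)
        (EGA4.FibLocRing A (MvPolynomial (Fin n) A) z.asIdeal ⊗[MvPolynomial (Fin n) A] N) ≤ (s : ℕ∞) := by
      have := hs.le.trans' (Depth.depth_le_supportDim (R := EGA4.FibLocRing A (MvPolynomial (Fin n) A) z.asIdeal))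
      exact WithBot.coe_le_coe.1 this
    rcases Nat.eq_zero_or_pos (n - j) with h0 | hpos
    · rw [show s = 0 by omega] at hle
      exact le_antisymm (by simpa using hle) bot_le
    · rw [if_neg hpos.ne', Set.mem_compl_iff, hAB] at hpd
      generalize LocCoh.depth (EGA4.FibLocRing A (MvPolynomial (Fin n) A) z.asIdeal)
        (EGA4.FibLocRing A (MvPolynomial (Fin n) A) z.asIdeal ⊗[MvPolynomial (Fin n) A] N) = D at hpd hle
      induction D with
      | top => simp at hpd
      | coe d =>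
        rw [Nat.cast_le] at hpd
        have hd : d = 0 := by omega
        rw [hd]; rfl

theorem isOpen_assDimsIn_poly (Φ : Finset ℕ) :
    IsOpen {x : PrimeSpectrum (MvPolynomial (Fin n) A) | AssDimsIn A (MvPolynomial (Fin n) A) N Φ x} := by
  have h : {x : PrimeSpectrum (MvPolynomial (Fin n) A) | AssDimsIn A (MvPolynomial (Fin n) A) N Φ x} =
      (⋃ j ∈ {j | j ≤ n ∧ j ∉ Φ}, gset A (pdGESet A n N (n - j)) j)ᶜ := by
    ext x
    simp only [Set.mem_compl_iff, Set.mem_iUnion, Set.mem_ofPred_eq, exists_prop, not_exists, not_and,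
      mem_gset_iff (isClosed_pdGESet N _), AssDimsIn]
    constructor
    · intro hx j hj z hzx hzp hz ht
      obtain ⟨m, hm, hzm⟩ := hx z hzx hzp ((isAssFib_iff N z).2 ⟨j, hj.1, hz, ht⟩)
      have hzj : TrdegEQ A z j :=
        ⟨ht, fun h' => by have := trdegGE_le_of_mem_pdGESet N hj.1 hz h'; omega⟩
      exact hj.2 (hzj.eq hzm ▸ hm)
    · intro hx z hzx hzp hz
      obtain ⟨j, hj, hzj, ht⟩ := (isAssFib_iff N z).1 hz
      refine ⟨j, by_contra fun hjΦ => hx j ⟨hj, hjΦ⟩ z hzx hzp hzj ht, ht, fun h' => ?_⟩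
      have := trdegGE_le_of_mem_pdGESet N hj hzj h'
      omega
  rw [h, isOpen_compl_iff]
  exact ((Set.finite_Iic n).subset fun j hj => hj.1).isClosed_biUnion fun j _ =>
    isClosed_gset (isClosed_pdGESet N _) _

theorem isOpen_noEmbFib_poly :
    IsOpen {x : PrimeSpectrum (MvPolynomial (Fin n) A) | NoEmbFib A (MvPolynomial (Fin n) A) N x} := by
  have hcl : ∀ j j', IsClosed (pdGESet A n N (n - j) ∩ gset A (pdGESet A n N (n - j')) j') := fun j j' =>
    (isClosed_pdGESet N _).inter (isClosed_gset (isClosed_pdGESet N _) _)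
  have h : {x : PrimeSpectrum (MvPolynomial (Fin n) A) | NoEmbFib A (MvPolynomial (Fin n) A) N x} =
      (⋃ j' ∈ Set.Iic n, ⋃ j ∈ Set.Iio j',
        gset A (pdGESet A n N (n - j) ∩ gset A (pdGESet A n N (n - j')) j') j)ᶜ := by
    ext x
    simp only [Set.mem_compl_iff, Set.mem_iUnion, Set.mem_ofPred_eq, Set.mem_Iic, Set.mem_Iio, exists_prop,
      not_exists, not_and, mem_gset_iff (hcl _ _), NoEmbFib]
    constructor
    · rintro hx j' hj' j hjj' z hzx hzp ⟨hz, hz'⟩ ht
      obtain ⟨z', hz'z, hz'p, hz'W, ht'⟩ := (mem_gset_iff (isClosed_pdGESet N _) j' z).1 hz'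
      obtain rfl := hx z hzx hzp ((isAssFib_iff N z).2 ⟨j, hjj'.le.trans hj', hz, ht⟩) z' hz'z hz'p
        ((isAssFib_iff N z').2 ⟨j', hj', hz'W, ht'⟩)
      have := trdegGE_le_of_mem_pdGESet N (hjj'.le.trans hj') hz ht'
      omega
    · intro hx z hzx hzp hz z' hz'z hz'p hz'
      by_contra hne
      obtain ⟨j, hj, hzj, ht⟩ := (isAssFib_iff N z).1 hz
      obtain ⟨j', hj', hzj', ht'⟩ := (isAssFib_iff N z').1 hz'
      have hlt := trdegGE_le_of_mem_pdGESet N hj' hzj' (trdegGE_succ_of_lt
        (lt_of_le_of_ne hz'z fun he => hne (PrimeSpectrum.ext he)) hz'p ht)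
      exact hx j' hj' j (by omega) z hzx hzp
        ⟨hzj, (mem_gset_iff (isClosed_pdGESet N _) j' z).2 ⟨z', hz'z, hz'p, hzj', ht'⟩⟩ ht
  rw [h, isOpen_compl_iff]
  exact (Set.finite_Iic n).isClosed_biUnion fun j' _ =>
    (Set.finite_Iio j').isClosed_biUnion fun j _ => isClosed_gset (hcl _ _) _

omit [Module A N] [IsScalarTower A (MvPolynomial (Fin n) A) N] [Module.Flat A N] in
theorem rectGE_iff (m : ℕ) (x : PrimeSpectrum (MvPolynomial (Fin n) A)) :
    RectGE A (MvPolynomial (Fin n) A) N m x ↔ x ∉ Module.support (MvPolynomial (Fin n) A) N ∨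
      (m ≤ n ∧ x ∈ pdSet A (MvPolynomial (Fin n) A) N (n - m)) := by
  haveI := isLocalRing_fibLocRing (A := A) x.asIdeal
  unfold RectGE
  by_cases hsupp : x ∈ Module.support (MvPolynomial (Fin n) A) N
  swap
  · refine iff_of_true (fun t _ => ?_) (Or.inl hsupp)
    haveI := subsingleton_fib (A := A) N x.asIdeal hsupp
    rw [show LocCoh.depth (EGA4.FibLocRing A (MvPolynomial (Fin n) A) x.asIdeal)
      (EGA4.FibLocRing A (MvPolynomial (Fin n) A) x.asIdeal ⊗[MvPolynomial (Fin n) A] N) = ⊤ from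
        Depth.idealDepth_eq_top_of_smul_top_eq_top (Subsingleton.elim _ _), top_add]
    exact le_top
  obtain ⟨h, s, t, δ, hht, hst, hsh, hs, hdimset, hAB, htr⟩ := exists_numbers N x hsupp
  have hxt : TrdegEQ A x t := ⟨(htr t).2 le_rfl, fun h' => by have := (htr _).1 h'; omega⟩
  simp only [hsupp, not_true_eq_false, false_or, hAB]
  haveI : Nontrivial (EGA4.FibLocRing A (MvPolynomial (Fin n) A) x.asIdeal ⊗[MvPolynomial (Fin n) A] N) := by
    rw [← not_subsingleton_iff_nontrivial]
    intro hsub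
    rw [Module.supportDim_eq_bot_of_subsingleton] at hs
    exact absurd hs.symm (by simp)
  haveI : IsNoetherianRing (EGA4.FibLocRing A (MvPolynomial (Fin n) A) x.asIdeal) := by
    haveI : x.asIdeal.LiesOver (x.asIdeal.under A) := ⟨rfl⟩
    letI := resAlg (x.asIdeal.under A) x.asIdeal
    haveI := resAlg_tower (x.asIdeal.under A) x.asIdeal
    obtain ⟨r, hr⟩ := RelDim.exists_trdeg_eq (x.asIdeal.under A) x.asIdeal
    haveI := (regular_and_dim A n x.asIdeal (x.asIdeal.under A) r hr).1
    infer_instance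
  have hle : LocCoh.depth (EGA4.FibLocRing A (MvPolynomial (Fin n) A) x.asIdeal)
      (EGA4.FibLocRing A (MvPolynomial (Fin n) A) x.asIdeal ⊗[MvPolynomial (Fin n) A] N) ≤ (s : ℕ∞) := by
    have := hs.le.trans' (Depth.depth_le_supportDim (R := EGA4.FibLocRing A (MvPolynomial (Fin n) A) x.asIdeal))
    exact WithBot.coe_le_coe.1 this
  generalize LocCoh.depth (EGA4.FibLocRing A (MvPolynomial (Fin n) A) x.asIdeal)
    (EGA4.FibLocRing A (MvPolynomial (Fin n) A) x.asIdeal ⊗[MvPolynomial (Fin n) A] N) = D at hle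
  induction D with
  | top => simp at hle
  | coe d =>
    rw [Nat.cast_le] at hle
    constructor
    · intro h1
      have h2 := h1 t hxt
      rw [← Nat.cast_add, Nat.cast_le] at h2
      refine ⟨by omega, Nat.cast_le.2 ?_⟩
      omega
    · rintro ⟨hm, h1⟩ t' ht'
      obtain rfl := ht'.eq hxt
      rw [Nat.cast_le] at h1
      rw [← Nat.cast_add, Nat.cast_le]
      omega

theorem isOpen_rectGE_poly (m : ℕ) :
    IsOpen {x : PrimeSpectrum (MvPolynomial (Fin n) A) | RectGE A (MvPolynomial (Fin n) A) N m x} := by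
  have h : {x : PrimeSpectrum (MvPolynomial (Fin n) A) | RectGE A (MvPolynomial (Fin n) A) N m x} =
      (Module.support (MvPolynomial (Fin n) A) N)ᶜ ∪
        (if m ≤ n then pdSet A (MvPolynomial (Fin n) A) N (n - m) else ∅) := by
    ext x
    split_ifs with hm <;> simp [rectGE_iff, hm]
  rw [h]
  refine (isOpen_compl_iff.2 Module.isClosed_support).union ?_
  split
  · exact isOpen_pdSet A _ _ N
  · exact isOpen_empty

end Poly

section Alg

variable {A B : Type u} [CommRing A] [CommRing B] [Algebra A B] [Algebra.FinitePresentation A B]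
variable (N : Type u) [AddCommGroup N] [Module B N] [Module A N] [IsScalarTower A B N]
  [Module.FinitePresentation B N] [Module.Flat A N]

/-- The three loci are open, for any finitely presented algebra. -/
theorem isOpen_assLoci (Φ : Finset ℕ) (m : ℕ) :
    IsOpen {x : PrimeSpectrum B | AssDimsIn A B N Φ x} ∧
      IsOpen {x : PrimeSpectrum B | NoEmbFib A B N x} ∧
        IsOpen {x : PrimeSpectrum B | RectGE A B N m x} := by
  obtain ⟨n, π, hπ, -⟩ := (inferInstance : Algebra.FinitePresentation A B).out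
  letI : Algebra (MvPolynomial (Fin n) A) B := π.toRingHom.toAlgebra
  haveI : IsScalarTower A (MvPolynomial (Fin n) A) B := IsScalarTower.of_algebraMap_eq fun a => (π.commutes a).symm
  letI : Module (MvPolynomial (Fin n) A) N := Module.compHom N π.toRingHom
  haveI : IsScalarTower (MvPolynomial (Fin n) A) B N := IsScalarTower.of_algebraMap_smul fun _ _ => rfl
  haveI : IsScalarTower A (MvPolynomial (Fin n) A) N := IsScalarTower.of_algebraMap_smul fun a m => by
    show π (algebraMap A _ a) • m = a • m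
    rw [π.commutes, algebraMap_smul]
  haveI : Module.FinitePresentation (MvPolynomial (Fin n) A) B :=
    Module.finitePresentation_of_surjective (Algebra.linearMap (MvPolynomial (Fin n) A) B) hπ (by
      rw [show LinearMap.ker (Algebra.linearMap (MvPolynomial (Fin n) A) B) = RingHom.ker π.toRingHom
        from by ext x; rfl]
      exact Algebra.FinitePresentation.ker_fg_of_mvPolynomial π hπ)
  haveI : Module.FinitePresentation (MvPolynomial (Fin n) A) N :=
    Module.FinitePresentation.trans (MvPolynomial (Fin n) A) N B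
  let c := PrimeSpectrum.comap (algebraMap (MvPolynomial (Fin n) A) B)
  have hc : ∀ z : PrimeSpectrum B, (c z).asIdeal.under A = z.asIdeal.under A := fun z => by
    show (z.asIdeal.comap (algebraMap (MvPolynomial (Fin n) A) B)).comap (algebraMap A _) = _
    rw [Ideal.comap_comap, ← IsScalarTower.algebraMap_eq]
  have hdd := fun z : PrimeSpectrum B =>
    depth_supportDim_fib_of_surjective (A := A) (P := MvPolynomial (Fin n) A) hπ N z.asIdeal (c z).asIdeal rfl
  have hass : ∀ z : PrimeSpectrum B, IsAssFib A B N z ↔ IsAssFib A (MvPolynomial (Fin n) A) N (c z) := fun z => by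
    obtain ⟨h1, h2⟩ := hdd z
    unfold IsAssFib
    rw [h1, h2]
  have hout : ∀ w, IsAssFib A (MvPolynomial (Fin n) A) N w → ∃ z, c z = w := by
    intro w hw
    by_contra hne
    refine hw.1 (supportDim_fib_eq_bot N w ?_)
    rw [Module.support_eq_zeroLocus]
    refine fun hle => hne ?_
    have hle' : RingHom.ker (algebraMap (MvPolynomial (Fin n) A) B) ≤ w.asIdeal :=
      le_trans (fun a ha => Module.mem_annihilator.2 fun m => by
        rw [← algebraMap_smul B a m, RingHom.mem_ker.1 ha, zero_smul]) hle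
    show w ∈ Set.range (PrimeSpectrum.comap (algebraMap (MvPolynomial (Fin n) A) B))
    rw [range_comap_of_surjective _ (algebraMap (MvPolynomial (Fin n) A) B) hπ]
    exact hle'
  have hle : ∀ z z' : PrimeSpectrum B, z'.asIdeal ≤ z.asIdeal ↔ (c z').asIdeal ≤ (c z).asIdeal :=
    fun z z' => (Ideal.comap_le_comap_iff_of_surjective _ hπ _ _).symm
  have hinj : Function.Injective c := PrimeSpectrum.comap_injective_of_surjective _ hπ
  have htr : ∀ z t, TrdegEQ A z t ↔ TrdegEQ A (c z) t := fun z t =>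
    and_congr (trdegGE_of_surjective hπ z t) (not_congr (trdegGE_of_surjective hπ z (t + 1)))
  refine ⟨?_, ?_, ?_⟩
  · convert (isOpen_assDimsIn_poly N Φ).preimage (PrimeSpectrum.continuous_comap
      (algebraMap (MvPolynomial (Fin n) A) B)) using 1
    ext x
    refine ⟨fun h w hwx hwp hw => ?_, fun h z hzx hzp hz => ?_⟩
    · obtain ⟨z, rfl⟩ := hout w hw
      obtain ⟨m, hm, ht⟩ := h z ((hle _ _).2 hwx) (by rw [← hc z, ← hc x]; exact hwp) ((hass z).2 hw)
      exact ⟨m, hm, (htr z m).1 ht⟩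
    · obtain ⟨m, hm, ht⟩ := h (c z) ((hle _ _).1 hzx) (by rw [hc z, hzp]; exact (hc x).symm) ((hass z).1 hz)
      exact ⟨m, hm, (htr z m).2 ht⟩
  · convert (isOpen_noEmbFib_poly N).preimage (PrimeSpectrum.continuous_comap
      (algebraMap (MvPolynomial (Fin n) A) B)) using 1
    ext x
    refine ⟨fun h w hwx hwp hw w' hw'w hw'p hw' => ?_, fun h z hzx hzp hz z' hz'z hz'p hz' => ?_⟩
    · obtain ⟨z, rfl⟩ := hout w hw
      obtain ⟨z', rfl⟩ := hout w' hw'
      rw [h z ((hle _ _).2 hwx) (by rw [← hc z, ← hc x]; exact hwp) ((hass z).2 hw) z' ((hle _ _).2 hw'w)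
        (by rw [← hc z', ← hc z]; exact hw'p) ((hass z').2 hw')]
    · exact hinj (h (c z) ((hle _ _).1 hzx) (by rw [hc z, hzp]; exact (hc x).symm) ((hass z).1 hz) (c z')
        ((hle _ _).1 hz'z) (by rw [hc z', hc z, hz'p]) ((hass z').1 hz'))
  · convert (isOpen_rectGE_poly N m).preimage (PrimeSpectrum.continuous_comap
      (algebraMap (MvPolynomial (Fin n) A) B)) using 1
    ext x
    obtain ⟨h1, -⟩ := hdd x
    refine ⟨fun h t ht => ?_, fun h t ht => ?_⟩
    · rw [← h1]; exact h t ((htr x t).2 ht)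
    · rw [h1]; exact h t ((htr x t).1 ht)

end Alg

end Groth.Agent.FibCodepth
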