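import Groth.Agent.FibCodepth.GenAss
import Groth.Agent.AssSch.TensorFlat

/-!
# The fibres whose associated points lie in a given constructible set
-/

set_option autoImplicit false
set_option linter.style.haveILetI false

universe u

open CategoryTheory Limits AlgebraicGeometry Topology TopologicalSpace
open scoped Set.Notation

namespace Groth.Agent.FibCodepth

variable {X S : Scheme.{u}} (f : X ⟶ S) [LocallyOfFinitePresentation f] [QuasiCompact f] (F : X.Modules)

/-- EGA IV 9.8.1: the base points over which all associated points of the fibre module lie in a locally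
constructible set. -/
theorem isLocallyConstructible_ass_subset (hF : CohB1.IsFP F) {E : Set X} (hE : IsLocallyConstructible E) :
    IsLocallyConstructible {s : S | ∀ z ∈ AssSch.Ass ((Scheme.Modules.pullback (f.fiberι s)).obj F),
      f.fiberι s z ∈ E} := by
  let P : ℕ → Set S := fun d => {s : S | ∃ w : ↥(f.fiber s), IsTopIn f (rdLocus f F d ∩ Eᶜ) w ∧
      topologicalKrullDim ↥(closure ({w} : Set ↥(f.fiber s))) = (d : WithBot ℕ∞)}
  have h := isLocallyConstructible_level P (fun d => isLocallyConstructible_exists_topIn f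
    ((isLocallyConstructible_rdLocus f F hF d).inter (LimTop.isLocallyConstructible_compl hE)) d) (fun s₀ => by
      obtain ⟨V, N, hs₀, hN⟩ := exists_nhd_bound f s₀
      exact ⟨V, N, V.2, hs₀, fun s hs j ⟨w, _, hdim⟩ => hN s hs w j hdim⟩) ∅
  convert h using 1
  ext s
  rw [Set.mem_ofPred_eq, Set.mem_ofPred_eq, Set.eq_empty_iff_forall_notMem]
  constructor
  · rintro hs d ⟨w, hw, hd⟩
    exact hw.1.2 (hs w ((mem_ass_and_dim_iff f F hF).2 ⟨(hasRd_iff f F d s w).2 hw.1.1, hd⟩).1)
  · intro hs z hz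
    by_contra hzE
    obtain ⟨d, hd⟩ := exists_dim_closure f s z
    have hr := ((mem_ass_and_dim_iff f F hF).1 ⟨hz, hd⟩).1
    refine hs d ⟨z, ⟨⟨(hasRd_iff f F d s z).1 hr, hzE⟩, fun w hw hsp => by_contra fun hne => ?_⟩, hd⟩
    obtain ⟨n, hn⟩ := exists_dim_closure f s w
    have h1 := dim_le_of_hasRd f F ((hasRd_iff f F d s w).2 hw.1)
    have h2 := CohDev.dim_closure_lt hsp.mem_closure (fun h => hne h.symm) hn.le
    rw [hd, ← hn] at h2
    exact h1.not_gt h2

omit [LocallyOfFinitePresentation f] [QuasiCompact f] in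
/-- An open subset quasi-compact over the base is locally constructible. -/
theorem isLocallyConstructible_opens [QuasiSeparated f] (U : X.Opens) [QuasiCompact (U.ι ≫ f)] :
    IsLocallyConstructible (U : Set X) := by
  intro x
  obtain ⟨V, W, hV, hW, e, hxW⟩ := FlatSect.exists_chart f x
  refine ⟨W, W.2.mem_nhds hxW, W.2, ?_⟩
  have hUV : IsCompact ((U ⊓ (f ⁻¹ᵁ V) : X.Opens) : Set X) := by
    have hc : IsCompact ((U.ι ≫ f).base ⁻¹' (V : Set S)) :=
      QuasiCompact.isCompact_preimage (f := U.ι ≫ f) (V : Set S) V.2 hV.isCompact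
    convert hc.image U.ι.continuous
    ext y
    constructor
    · rintro ⟨hyU, hyV⟩
      exact ⟨⟨y, hyU⟩, hyV, rfl⟩
    · rintro ⟨⟨y, hy⟩, hyV, rfl⟩
      exact ⟨hy, hyV⟩
  have hqs : IsQuasiSeparated ((f ⁻¹ᵁ V : X.Opens) : Set X) :=
    f.isQuasiSeparated_preimage hV.isQuasiSeparated
  have hc : IsCompact ((U : Set X) ∩ W) := by
    have h := hqs _ _ (show (W : Set X) ⊆ _ from e) W.2 hW.isCompact
      (show ((U ⊓ (f ⁻¹ᵁ V) : X.Opens) : Set X) ⊆ _ from fun _ h => h.2) (U ⊓ (f ⁻¹ᵁ V) : X.Opens).2 hUV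
    convert h using 1
    ext y
    exact ⟨fun hy => ⟨hy.2, hy.1, e hy.2⟩, fun hy => ⟨hy.2.1, hy.1⟩⟩
  haveI : IsAffine (W : Scheme.{u}) := hW
  haveI : QuasiSeparatedSpace ↥(W : Set X) := inferInstanceAs (QuasiSeparatedSpace (W : Scheme.{u}))
  refine IsCompact.isConstructible ?_ (U.2.preimage continuous_subtype_val)
  rw [Subtype.isCompact_iff]
  have : Subtype.val '' ((W : Set X) ↓∩ (U : Set X)) = (U : Set X) ∩ W := by
    rw [Subtype.image_preimage_coe, Set.inter_comm]
  rwa [this]

end Groth.Agent.FibCodepth
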