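import Groth.Agent.FibCodepth.SchemeAss
import Groth.Agent.RelDim.Open
import Mathlib.RingTheory.TensorProduct.Quotient

/-!
# Fibre invariants are unchanged by base change
-/

set_option autoImplicit false
set_option linter.style.haveILetI false

universe u

open TensorProduct IsLocalRing CategoryTheory

namespace Groth.Agent.FibCodepth

section PD

/-- Projective dimension of extended modules along a faithfully flat tower. -/
theorem pd_tensor_iff {B L L' : Type u} [CommRing B] [CommRing L] [CommRing L'] [Algebra B L] [Algebra B L']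
    [Algebra L L'] [IsScalarTower B L L'] [IsNoetherianRing L] [Module.FaithfullyFlat L L']
    (N : Type u) [AddCommGroup N] [Module B N] [Module.Finite B N] (b : ℕ) :
    HasProjectiveDimensionLE (ModuleCat.of L (L ⊗[B] N)) b ↔
      HasProjectiveDimensionLE (ModuleCat.of L' (L' ⊗[B] N)) b :=
  ⟨fun h => RegLoc.PD.pd_congr (AlgebraTensorModule.cancelBaseChange B L L' L' N) b
      (RegLoc.PD.pd_baseChange_of_flat (R := L) L' b _ h),
    fun h => RegLoc.PD.pd_of_faithfullyFlat (R := L) L' b _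
      (RegLoc.PD.pd_congr (AlgebraTensorModule.cancelBaseChange B L L' L' N).symm b h)⟩

theorem pd_tensor_algEquiv {B L L' : Type u} [CommRing B] [CommRing L] [CommRing L'] [Algebra B L] [Algebra B L']
    [IsNoetherianRing L] (e : L ≃ₐ[B] L')
    (N : Type u) [AddCommGroup N] [Module B N] [Module.Finite B N] (b : ℕ) :
    HasProjectiveDimensionLE (ModuleCat.of L (L ⊗[B] N)) b ↔
      HasProjectiveDimensionLE (ModuleCat.of L' (L' ⊗[B] N)) b := by
  letI : Algebra L L' := e.toRingHom.toAlgebra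
  haveI : IsScalarTower B L L' := IsScalarTower.of_algebraMap_eq fun c => (e.commutes c).symm
  haveI : Module.FaithfullyFlat L L' := RingHom.FaithfullyFlat.of_bijective e.bijective
  exact pd_tensor_iff N b

end PD

section Gen

variable {A B : Type u} [CommRing A] [CommRing B] [Algebra A B] [Algebra.FiniteType A B]

/-- The fibre dimension of `V(J)` at `q`, read on the generizations of `q`. -/
theorem not_mem_quotDimSet_iff (J : Ideal B) (q : PrimeSpectrum B) (a : ℕ) :
    q ∉ quotDimSet A J a ↔ J ≤ q.asIdeal ∧ ∃ z : PrimeSpectrum B, z.asIdeal ≤ q.asIdeal ∧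
      z.asIdeal.under A = q.asIdeal.under A ∧ J ≤ z.asIdeal ∧ TrdegGE A z (a + 1) := by
  haveI : Algebra.FiniteType A (B ⧸ J) :=
    Algebra.FiniteType.of_surjective (Ideal.Quotient.mkₐ A J) Ideal.Quotient.mk_surjective
  have hJ : ∀ w : PrimeSpectrum (B ⧸ J), J ≤ (PrimeSpectrum.comap (Ideal.Quotient.mk J) w).asIdeal := fun w f hf => by
    show Ideal.Quotient.mk J f ∈ w.asIdeal
    rw [Ideal.Quotient.eq_zero_iff_mem.2 hf]
    exact zero_mem _
  have hlift : ∀ w : PrimeSpectrum B, J ≤ w.asIdeal →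
      ∃ w' : PrimeSpectrum (B ⧸ J), PrimeSpectrum.comap (Ideal.Quotient.mk J) w' = w := by
    intro w hw
    have : w ∈ Set.range (PrimeSpectrum.comap (Ideal.Quotient.mk J)) := by
      rw [range_comap_of_surjective _ _ Ideal.Quotient.mk_surjective, Ideal.mk_ker]
      exact hw
    exact this
  constructor
  · intro h
    simp only [quotDimSet, Set.mem_ofPred_eq, not_forall, exists_prop] at h
    obtain ⟨q', rfl, hq'⟩ := h
    obtain ⟨z', hz', hzp, ht⟩ := (not_mem_dimLeSet_iff q' a).1 hq'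
    exact ⟨hJ q', _, Ideal.comap_mono hz',
      (Ideal.comap_comap _ _).trans (hzp.trans (Ideal.comap_comap _ _).symm), hJ z', (trdegGE_quot J z' _).1 ht⟩
  · rintro ⟨hq, z, hzq, hzp, hz, ht⟩ h
    obtain ⟨q', hq'⟩ := hlift q hq
    obtain ⟨z', hz'⟩ := hlift z hz
    refine (not_mem_dimLeSet_iff q' a).2 ⟨z', ?_, ?_, ?_⟩ (h q' hq')
    · have h1 : PrimeSpectrum.comap (Ideal.Quotient.mk J) z' ≤ PrimeSpectrum.comap (Ideal.Quotient.mk J) q' := by
        rw [hz', hq']; exact hzq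
      exact (Ideal.comap_le_comap_iff_of_surjective (Ideal.Quotient.mk J) Ideal.Quotient.mk_surjective _ _).1 h1
    · rw [← hz', ← hq'] at hzp
      exact (Ideal.comap_comap _ _).symm.trans (hzp.trans (Ideal.comap_comap _ _))
    · rw [trdegGE_quot J z', hz']
      exact ht

end Gen

theorem ff_fieldExt {k K F T : Type u} [Field k] [Field K] [CommRing F] [CommRing T] [Algebra k K]
    [Algebra k F] (E : T ≃+* F ⊗[k] K) :
    (E.symm.toRingHom.comp (algebraMap F (F ⊗[k] K))).FaithfullyFlat :=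
  RingHom.FaithfullyFlat.stableUnderComposition (algebraMap F (F ⊗[k] K)) E.symm.toRingHom
    (RingHom.faithfullyFlat_algebraMap_iff.2 inferInstance) (RingHom.FaithfullyFlat.of_bijective E.symm.bijective)

section BaseChange

variable (A₀ A : Type u) {P₀ P : Type u} [CommRing A₀] [CommRing A] [CommRing P₀] [CommRing P] [Algebra A₀ A]
  [Algebra A₀ P₀] [Algebra A P] [Algebra P₀ P] [Algebra A₀ P] [IsScalarTower A₀ A P] [IsScalarTower A₀ P₀ P]
  [Algebra.IsPushout A₀ A P₀ P] [Algebra.FiniteType A₀ P₀]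

theorem under_comap (z : PrimeSpectrum P) :
    (PrimeSpectrum.comap (algebraMap P₀ P) z).asIdeal.under A₀ = (z.asIdeal.under A).under A₀ := by
  show (z.asIdeal.comap (algebraMap P₀ P)).comap (algebraMap A₀ P₀) =
    (z.asIdeal.comap (algebraMap A P)).comap (algebraMap A₀ A)
  rw [Ideal.comap_comap, Ideal.comap_comap, ← IsScalarTower.algebraMap_eq, ← IsScalarTower.algebraMap_eq]

/-- The fibres form a faithfully flat extension. -/
theorem exists_fibre_map (p : Ideal A) [p.IsPrime] (p₀ : Ideal A₀) [p₀.IsPrime]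
    (hp : p.under A₀ = p₀) :
    ∃ φ : p₀.Fiber P₀ →+* p.Fiber P, φ.FaithfullyFlat ∧
      ∀ s : P₀, φ ((1 : p₀.ResidueField) ⊗ₜ[A₀] s) = (1 : p.ResidueField) ⊗ₜ[A] algebraMap P₀ P s := by
  letI : Algebra p₀.ResidueField p.ResidueField :=
    (Ideal.ResidueField.mapₐ p₀ p (Algebra.ofId A₀ A) hp.symm).toRingHom.toAlgebra
  haveI : IsScalarTower A₀ p₀.ResidueField p.ResidueField :=
    IsScalarTower.of_algebraMap_eq fun x =>
      ((Ideal.ResidueField.mapₐ p₀ p (Algebra.ofId A₀ A) hp.symm).commutes x).symm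
  let e := Algebra.IsPushout.equiv A₀ A P₀ P
  let E : p.Fiber P ≃+* (p₀.Fiber P₀) ⊗[p₀.ResidueField] p.ResidueField :=
    (((Algebra.TensorProduct.congr (AlgEquiv.refl : p.ResidueField ≃ₐ[p.ResidueField] p.ResidueField) e.symm).toRingEquiv.trans
      (Algebra.TensorProduct.cancelBaseChange A₀ A p.ResidueField p.ResidueField P₀).toRingEquiv).trans
      (Algebra.TensorProduct.cancelBaseChange A₀ p₀.ResidueField p.ResidueField p.ResidueField P₀).symm.toRingEquiv).trans
      (Algebra.TensorProduct.comm p₀.ResidueField p.ResidueField (p₀.Fiber P₀)).toRingEquiv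
  refine ⟨E.symm.toRingHom.comp (algebraMap (p₀.Fiber P₀) ((p₀.Fiber P₀) ⊗[p₀.ResidueField] p.ResidueField)),
    ff_fieldExt E, fun s => ?_⟩
  rw [RingHom.comp_apply]
  refine E.symm_apply_eq.2 ?_
  show _ = Algebra.TensorProduct.comm p₀.ResidueField p.ResidueField (p₀.Fiber P₀)
    ((Algebra.TensorProduct.cancelBaseChange A₀ p₀.ResidueField p.ResidueField p.ResidueField P₀).symm
    (Algebra.TensorProduct.cancelBaseChange A₀ A p.ResidueField p.ResidueField P₀
      ((1 : p.ResidueField) ⊗ₜ[A] e.symm (algebraMap P₀ P s))))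
  rw [Algebra.IsPushout.equiv_symm_algebraMap_right, Algebra.TensorProduct.cancelBaseChange_tmul, one_smul,
    Algebra.TensorProduct.cancelBaseChange_symm_tmul, Algebra.TensorProduct.comm_tmul]
  rfl

/-- Points over compatible points exist. -/
theorem exists_point_over (p : PrimeSpectrum A) (z₀ : PrimeSpectrum P₀)
    (h : p.asIdeal.under A₀ = z₀.asIdeal.under A₀) :
    ∃ z : PrimeSpectrum P, z.asIdeal.under A = p.asIdeal ∧ PrimeSpectrum.comap (algebraMap P₀ P) z = z₀ := by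
  obtain ⟨φ, hff, hφ⟩ := exists_fibre_map (P₀ := P₀) (P := P) A₀ A p.asIdeal (z₀.asIdeal.under A₀) h
  obtain ⟨Q₀, hQ₀⟩ := exists_fibre_pt (A := A₀) z₀ rfl
  letI := φ.toAlgebra
  haveI : Module.FaithfullyFlat ((z₀.asIdeal.under A₀).Fiber P₀) (p.asIdeal.Fiber P) := hff
  obtain ⟨Q, hQ⟩ := PrimeSpectrum.comap_surjective_of_faithfullyFlat (A := (z₀.asIdeal.under A₀).Fiber P₀)
    (B := p.asIdeal.Fiber P) Q₀
  refine ⟨⟨Q.asIdeal.comap Algebra.TensorProduct.includeRight.toRingHom, inferInstance⟩,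
    congrArg PrimeSpectrum.asIdeal ((PrimeSpectrum.preimageOrderIsoFiber A P p).symm Q).2, PrimeSpectrum.ext ?_⟩
  rw [← hQ₀, ← hQ]
  ext s
  show (1 : p.asIdeal.ResidueField) ⊗ₜ[A] algebraMap P₀ P s ∈ Q.asIdeal ↔
    φ ((1 : (z₀.asIdeal.under A₀).ResidueField) ⊗ₜ[A₀] s) ∈ Q.asIdeal
  rw [hφ]

attribute [local instance] Algebra.TensorProduct.rightAlgebra in
/-- The projective dimension of a fibre stalk is unchanged by base change. -/
theorem mem_pdSet_baseChange (N₀ : Type u) [AddCommGroup N₀] [Module P₀ N₀] [Module.Finite P₀ N₀]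
    (z : PrimeSpectrum P) (b : ℕ) :
    z ∈ pdSet A P (P ⊗[P₀] N₀) b ↔ PrimeSpectrum.comap (algebraMap P₀ P) z ∈ pdSet A₀ P₀ N₀ b := by
  set z₀ := PrimeSpectrum.comap (algebraMap P₀ P) z with hz₀
  let p := z.asIdeal.under A
  let p₀ := z₀.asIdeal.under A₀
  haveI : z.asIdeal.LiesOver p := ⟨rfl⟩
  haveI : z₀.asIdeal.LiesOver p₀ := ⟨rfl⟩
  haveI : Algebra.FiniteType A P :=
    Algebra.FiniteType.equiv inferInstance (Algebra.IsPushout.equiv A₀ A P₀ P)
  obtain ⟨φ, hff, hφ⟩ := exists_fibre_map (P₀ := P₀) (P := P) A₀ A p p₀ (under_comap A₀ A z).symm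
  obtain ⟨Q, hQ⟩ := exists_fibre_pt (A := A) z rfl
  let Q₀ : PrimeSpectrum (p₀.Fiber P₀) := PrimeSpectrum.comap φ Q
  have hQ₀ : Q₀.asIdeal.comap Algebra.TensorProduct.includeRight.toRingHom = z₀.asIdeal := by
    show _ = Ideal.comap (algebraMap P₀ P) z.asIdeal
    refine Eq.trans ?_ (congrArg (Ideal.comap (algebraMap P₀ P)) hQ)
    ext s
    show φ ((1 : p₀.ResidueField) ⊗ₜ[A₀] s) ∈ Q.asIdeal ↔ (1 : p.ResidueField) ⊗ₜ[A] algebraMap P₀ P s ∈ Q.asIdeal
    rw [hφ]
  obtain ⟨ψ⟩ := nonempty_fibre_algEquiv (A := A) p Q z.asIdeal hQ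
  obtain ⟨ψ₀⟩ := nonempty_fibre_algEquiv (A := A₀) p₀ Q₀ z₀.asIdeal hQ₀
  let L := Localization.AtPrime Q.asIdeal
  let L₀ := Localization.AtPrime Q₀.asIdeal
  haveI : IsNoetherianRing (p.Fiber P) := Algebra.FiniteType.isNoetherianRing p.ResidueField _
  haveI : IsNoetherianRing (p₀.Fiber P₀) := Algebra.FiniteType.isNoetherianRing p₀.ResidueField _
  haveI : IsNoetherianRing L := IsLocalization.isNoetherianRing Q.asIdeal.primeCompl _ inferInstance
  haveI : IsNoetherianRing L₀ := IsLocalization.isNoetherianRing Q₀.asIdeal.primeCompl _ inferInstance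
  show HasProjectiveDimensionLE (ModuleCat.of _ (EGA4.FibLocRing A P z.asIdeal ⊗[P] (P ⊗[P₀] N₀))) b ↔
    HasProjectiveDimensionLE (ModuleCat.of _ (EGA4.FibLocRing A₀ P₀ z₀.asIdeal ⊗[P₀] N₀)) b
  rw [← pd_tensor_algEquiv (L := L) (L' := EGA4.FibLocRing A P z.asIdeal) ψ (P ⊗[P₀] N₀) b,
    ← pd_tensor_algEquiv (L := L₀) (L' := EGA4.FibLocRing A₀ P₀ z₀.asIdeal) ψ₀ N₀ b]
  letI : Algebra L₀ L := (Localization.localRingHom Q₀.asIdeal Q.asIdeal φ rfl).toAlgebra
  haveI : Module.Flat L₀ L := RingHom.Flat.localRingHom hff.flat Q.asIdeal Q₀.asIdeal rfl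
  haveI : IsLocalHom (algebraMap L₀ L) := Localization.isLocalHom_localRingHom _ _ _ rfl
  haveI : Module.FaithfullyFlat L₀ L := Module.FaithfullyFlat.of_flat_of_isLocalHom (A := L₀) (B := L)
  letI : Algebra P₀ L := ((algebraMap P L).comp (algebraMap P₀ P)).toAlgebra
  haveI : IsScalarTower P₀ P L := IsScalarTower.of_algebraMap_eq' rfl
  haveI : IsScalarTower P₀ L₀ L := IsScalarTower.of_algebraMap_eq fun s => by
    show algebraMap P L (algebraMap P₀ P s) = Localization.localRingHom Q₀.asIdeal Q.asIdeal φ rfl (algebraMap P₀ L₀ s)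
    rw [IsScalarTower.algebraMap_apply P₀ (p₀.Fiber P₀) L₀]
    exact (IsScalarTower.algebraMap_apply P (p.Fiber P) L _).trans
      ((congrArg (algebraMap (p.Fiber P) L) (hφ s).symm).trans
        (Localization.localRingHom_to_map Q₀.asIdeal Q.asIdeal φ rfl _).symm)
  rw [pd_tensor_iff (L := L₀) (L' := L) N₀ b]
  exact ⟨fun h => RegLoc.PD.pd_congr (AlgebraTensorModule.cancelBaseChange P₀ P L L N₀) b h,
    fun h => RegLoc.PD.pd_congr (AlgebraTensorModule.cancelBaseChange P₀ P L L N₀).symm b h⟩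

theorem mem_support_baseChange (N₀ : Type u) [AddCommGroup N₀] [Module P₀ N₀] [Module.Finite P₀ N₀]
    (z : PrimeSpectrum P) :
    z ∈ Module.support P (P ⊗[P₀] N₀) ↔ PrimeSpectrum.comap (algebraMap P₀ P) z ∈ Module.support P₀ N₀ := by
  rw [Dim.support_tensor P₀ P P N₀]
  have h0 : z ∈ Module.support P P := by
    rw [Module.mem_support_iff']
    exact ⟨1, fun c hc h => hc (by rw [smul_eq_mul, mul_one] at h; exact h ▸ z.asIdeal.zero_mem)⟩
  simp [h0]

/-- Fibre dimensions of closed subschemes are unchanged by base change. -/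
theorem mem_quotDimSet_map (J₀ : Ideal P₀) (a : ℕ) (q : PrimeSpectrum P) :
    q ∈ quotDimSet A (J₀.map (algebraMap P₀ P)) a ↔
      PrimeSpectrum.comap (algebraMap P₀ P) q ∈ quotDimSet A₀ J₀ a := by
  haveI : Algebra.FiniteType A₀ (P₀ ⧸ J₀) :=
    Algebra.FiniteType.of_surjective (Ideal.Quotient.mkₐ A₀ J₀) Ideal.Quotient.mk_surjective
  let e := Algebra.IsPushout.equiv A₀ A P₀ P
  have hmap : J₀.map (algebraMap P₀ P) =
      (J₀.map (Algebra.TensorProduct.includeRight (R := A₀) (A := A) (B := P₀))).map (e : A ⊗[A₀] P₀ →+* P) := by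
    show _ = (J₀.map (Algebra.TensorProduct.includeRight (R := A₀) (A := A) (B := P₀)).toRingHom).map _
    rw [Ideal.map_map]
    congr 1
    ext s
    show _ = e ((1 : A) ⊗ₜ[A₀] s)
    rw [Algebra.IsPushout.equiv_tmul, map_one, one_mul]
  let eJ : A ⊗[A₀] (P₀ ⧸ J₀) ≃ₐ[A] (P ⧸ J₀.map (algebraMap P₀ P)) :=
    (Algebra.TensorProduct.tensorQuotientEquiv A P₀ A J₀).trans (Ideal.quotientEquivAlg _ _ e hmap)
  have hd := RelDim.dimLeSet_eq_preimage eJ a
  let j := eJ.toRingEquiv.toRingHom.comp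
    (Algebra.TensorProduct.includeRight (R := A₀) (A := A) (B := P₀ ⧸ J₀)).toRingHom
  have hj : j.comp (Ideal.Quotient.mk J₀) = (Ideal.Quotient.mk (J₀.map (algebraMap P₀ P))).comp (algebraMap P₀ P) := by
    ext s
    show Ideal.Quotient.mk _ (e ((1 : A) ⊗ₜ[A₀] s)) = _
    rw [Algebra.IsPushout.equiv_tmul, map_one, one_mul]
    rfl
  simp only [quotDimSet, Set.mem_ofPred_eq]
  constructor
  · intro h w₀ hw₀
    have hle : J₀.map (algebraMap P₀ P) ≤ q.asIdeal := by
      rw [Ideal.map_le_iff_le_comap]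
      intro f hf
      show f ∈ (PrimeSpectrum.comap (algebraMap P₀ P) q).asIdeal
      rw [← hw₀]
      show Ideal.Quotient.mk J₀ f ∈ w₀.asIdeal
      rw [Ideal.Quotient.eq_zero_iff_mem.2 hf]
      exact zero_mem _
    obtain ⟨w, hw⟩ : q ∈ Set.range (PrimeSpectrum.comap (Ideal.Quotient.mk (J₀.map (algebraMap P₀ P)))) := by
      rw [range_comap_of_surjective _ _ Ideal.Quotient.mk_surjective, Ideal.mk_ker]
      exact hle
    have h1 := h w hw
    rw [hd] at h1
    have : PrimeSpectrum.comap j w = w₀ := by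
      apply PrimeSpectrum.comap_injective_of_surjective _ Ideal.Quotient.mk_surjective
      rw [hw₀, ← hw, ← PrimeSpectrum.comap_comp_apply, ← PrimeSpectrum.comap_comp_apply, hj]
    rwa [Set.mem_preimage, this] at h1
  · intro h w hw
    rw [hd]
    refine h (PrimeSpectrum.comap j w) ?_
    rw [← hw, ← PrimeSpectrum.comap_comp_apply, ← PrimeSpectrum.comap_comp_apply, hj]

/-- Base change can only lower the transcendence degree. -/
theorem trdegGE_comap {z : PrimeSpectrum P} {c : ℕ} (h : TrdegGE A z c) :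
    TrdegGE A₀ (PrimeSpectrum.comap (algebraMap P₀ P) z) c := by
  rcases Nat.eq_zero_or_pos c with rfl | hc
  · exact trdegGE_zero _
  haveI : Algebra.FiniteType A P :=
    Algebra.FiniteType.equiv inferInstance (Algebra.IsPushout.equiv A₀ A P₀ P)
  set z₀ := PrimeSpectrum.comap (algebraMap P₀ P) z with hz₀
  have h1 : z ∉ quotDimSet A (z₀.asIdeal.map (algebraMap P₀ P)) (c - 1) :=
    (not_mem_quotDimSet_iff _ z _).2 ⟨Ideal.map_comap_le, z, le_rfl, rfl, Ideal.map_comap_le,
      by rwa [Nat.sub_add_cancel hc]⟩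
  rw [mem_quotDimSet_map A₀ A, not_mem_quotDimSet_iff] at h1
  obtain ⟨-, w, hw, -, hw', ht⟩ := h1
  rw [Nat.sub_add_cancel hc] at ht
  obtain rfl : w = z₀ := PrimeSpectrum.ext (le_antisymm hw hw')
  exact ht

/-- A generization downstairs lifts to one of the same transcendence degree. -/
theorem exists_gen_over (x : PrimeSpectrum P) (z₀ : PrimeSpectrum P₀)
    (hle : z₀.asIdeal ≤ (PrimeSpectrum.comap (algebraMap P₀ P) x).asIdeal)
    (hp : z₀.asIdeal.under A₀ = (PrimeSpectrum.comap (algebraMap P₀ P) x).asIdeal.under A₀)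
    {c : ℕ} (ht : TrdegGE A₀ z₀ c) :
    ∃ z : PrimeSpectrum P, z.asIdeal ≤ x.asIdeal ∧ z.asIdeal.under A = x.asIdeal.under A ∧
      PrimeSpectrum.comap (algebraMap P₀ P) z = z₀ ∧ TrdegGE A z c := by
  haveI : Algebra.FiniteType A P :=
    Algebra.FiniteType.equiv inferInstance (Algebra.IsPushout.equiv A₀ A P₀ P)
  obtain ⟨t, ht', htmax⟩ := trdegEQ_unique_exists (A := A₀) z₀
  have hct : c ≤ t := by
    by_contra hn
    exact htmax (ht.mono (by omega))
  rcases Nat.eq_zero_or_pos t with ht0 | hpos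
  · have hz : z₀ = PrimeSpectrum.comap (algebraMap P₀ P) x := by
      by_contra hne
      subst ht0
      exact htmax (trdegGE_succ_of_lt (lt_of_le_of_ne hle fun he => hne (PrimeSpectrum.ext he)) hp (trdegGE_zero _))
    have hc0 : c = 0 := by omega
    subst hc0
    exact ⟨x, le_rfl, rfl, hz.symm, trdegGE_zero x⟩
  have h1 : x ∉ quotDimSet A (z₀.asIdeal.map (algebraMap P₀ P)) (t - 1) := by
    rw [mem_quotDimSet_map A₀ A, not_mem_quotDimSet_iff]
    exact ⟨hle, z₀, hle, hp, le_rfl, by rwa [Nat.sub_add_cancel hpos]⟩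
  obtain ⟨-, z, hzx, hzp, hzJ, hzt⟩ := (not_mem_quotDimSet_iff _ x _).1 h1
  rw [Nat.sub_add_cancel hpos] at hzt
  refine ⟨z, hzx, hzp, ?_, hzt.mono hct⟩
  by_contra hne
  refine htmax (trdegGE_succ_of_lt (lt_of_le_of_ne (Ideal.map_le_iff_le_comap.1 hzJ)
    fun he => hne (PrimeSpectrum.ext he.symm)) ?_ (trdegGE_comap A₀ A hzt))
  show z₀.asIdeal.under A₀ = (PrimeSpectrum.comap (algebraMap P₀ P) z).asIdeal.under A₀
  rw [hp, under_comap A₀ A x, under_comap A₀ A z, hzp]

end BaseChange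

end Groth.Agent.FibCodepth
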