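import Groth.Agent.FibCodepth.ConsRk
import Mathlib.RingTheory.Spectrum.Prime.ConstructibleSet

/-!
# Dimensions of the components of the fibres of a constructible set
-/

set_option autoImplicit false
set_option linter.style.haveILetI false

universe u

open TensorProduct IsLocalRing Topology

namespace Groth.Agent.FibCodepth

variable (A : Type u) {B : Type u} [CommRing A] [CommRing B] [Algebra A B]

/-- A point of `Z` with no proper generization in `Z` in its fibre. -/
def IsTopPt (Z : Set (PrimeSpectrum B)) (z : PrimeSpectrum B) : Prop :=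
  z ∈ Z ∧ ∀ z' ∈ Z, z'.asIdeal ≤ z.asIdeal → z'.asIdeal.under A = z.asIdeal.under A → z' = z

/-- The points of the base over which the set has a component of dimension `j`. -/
def compDimSet (Z : Set (PrimeSpectrum B)) (j : ℕ) : Set (PrimeSpectrum A) :=
  {p | ∃ z, IsTopPt A Z z ∧ z.asIdeal.under A = p.asIdeal ∧ TrdegEQ A z j}

theorem exists_mem_le_of_mem_closure {R : Type u} [CommRing R] {E : Set (PrimeSpectrum R)}
    (hE : IsConstructible E) {y : PrimeSpectrum R} (h : y ∈ closure E) : ∃ q ∈ E, q.asIdeal ≤ y.asIdeal := by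
  obtain ⟨T, _, g, hg⟩ := PrimeSpectrum.exists_range_eq_of_isConstructible hE
  rw [← hg, PrimeSpectrum.closure_range_comap] at h
  haveI := y.isPrime
  obtain ⟨r, hr, hry⟩ := Ideal.exists_minimalPrimes_le (show RingHom.ker g ≤ y.asIdeal from h)
  have hr' : r ∈ ((⊥ : Ideal T).comap g).minimalPrimes := by rwa [← RingHom.ker_eq_comap_bot]
  obtain ⟨Q, hQp, hQ⟩ := Ideal.exists_comap_eq_of_mem_minimalPrimes g (I := ⊥) r hr'
  exact ⟨⟨r, hr.1.1⟩, hg ▸ ⟨⟨Q, hQp⟩, PrimeSpectrum.ext hQ.2⟩, hry⟩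

/-- Below a point of a closed set there is a top point of the fibre of the closed set. -/
theorem exists_isTopPt_le {W : Set (PrimeSpectrum B)} (hW : IsClosed W) {w : PrimeSpectrum B} (hw : w ∈ W) :
    ∃ z, IsTopPt A W z ∧ z.asIdeal ≤ w.asIdeal ∧ z.asIdeal.under A = w.asIdeal.under A := by
  let I := PrimeSpectrum.vanishingIdeal W
  have hWI : ∀ y : PrimeSpectrum B, y ∈ W ↔ I ≤ y.asIdeal := fun y => by
    conv_lhs => rw [← hW.closure_eq, ← PrimeSpectrum.zeroLocus_vanishingIdeal_eq_closure]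
    rfl
  obtain ⟨P, hP, hPw⟩ := Ideal.exists_minimalPrimes_le (I := I ⊔ (w.asIdeal.under A).map (algebraMap A B))
    (J := w.asIdeal) (sup_le ((hWI w).1 hw) Ideal.map_comap_le)
  haveI := hP.1.1
  have hp : P.under A = w.asIdeal.under A :=
    le_antisymm (Ideal.comap_mono hPw) (Ideal.map_le_iff_le_comap.1 (le_sup_right.trans hP.1.2))
  exact ⟨⟨P, inferInstance⟩, ⟨(hWI _).2 (le_sup_left.trans hP.1.2), fun y hy hyle hyp =>
    PrimeSpectrum.ext (le_antisymm hyle (hP.2 ⟨y.isPrime, sup_le ((hWI y).1 hy)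
      (Ideal.map_le_iff_le_comap.2 (hyp.trans hp).ge)⟩ hyle))⟩, hPw, hp⟩

/-- Over a nonempty open set, a constructible set and its closure have the same top points in every
fibre. -/
theorem exists_isTopPt_iff_closure [IsDomain A] [IsNoetherianRing A] [Algebra.FiniteType A B]
    {Z : Set (PrimeSpectrum B)} (hZ : IsConstructible Z) :
    ∃ g : A, g ≠ 0 ∧ ∀ z : PrimeSpectrum B, algebraMap A B g ∉ z.asIdeal →
      (IsTopPt A Z z ↔ IsTopPt A (closure Z) z) := by
  classical
  haveI : IsNoetherianRing B := Algebra.FiniteType.isNoetherianRing A B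
  have hWc : IsConstructible (closure Z) := by
    rw [← compl_compl (closure Z)]
    exact ((TopologicalSpace.NoetherianSpace.isCompact _).isConstructible isClosed_closure.isOpen_compl).compl
  let J := PrimeSpectrum.vanishingIdeal (closure Z)
  have hJW : ∀ y : PrimeSpectrum B, y ∈ closure Z ↔ J ≤ y.asIdeal := fun y => by
    conv_lhs => rw [← closure_closure (s := Z), ← PrimeSpectrum.zeroLocus_vanishingIdeal_eq_closure]
    rfl
  let K := PrimeSpectrum.vanishingIdeal (closure (closure Z \ Z))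
  have hK : ∀ y : PrimeSpectrum B, y ∈ closure (closure Z \ Z) ↔ K ≤ y.asIdeal := fun y => by
    conv_lhs => rw [← closure_closure (s := closure Z \ Z), ← PrimeSpectrum.zeroLocus_vanishingIdeal_eq_closure]
    rfl
  have hfin := Ideal.finite_minimalPrimes_of_isNoetherianRing B J
  obtain ⟨f, hfK, hf⟩ : ∃ f ∈ K, ∀ η ∈ J.minimalPrimes, f ∉ η := by
    by_contra hno
    push Not at hno
    have hsub : (K : Set B) ⊆ ⋃ η ∈ J.minimalPrimes, (η : Set B) := fun f hf => by
      obtain ⟨η, hη, hfη⟩ := hno f hf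
      exact Set.mem_biUnion hη hfη
    obtain ⟨η, hη, hle⟩ := (Ideal.subset_union_prime_finite hfin (f := id) 0 0 fun η hη _ _ => hη.1.1).1 hsub
    have hηC : (⟨η, hη.1.1⟩ : PrimeSpectrum B) ∈ closure (closure Z \ Z) := (hK _).2 hle
    have hηW : (⟨η, hη.1.1⟩ : PrimeSpectrum B) ∈ closure Z := (hJW _).2 hη.1.2
    obtain ⟨w, hw, hwη⟩ := exists_mem_le_of_mem_closure hZ hηW
    obtain ⟨v, hv, hvη⟩ := exists_mem_le_of_mem_closure (hWc.sdiff hZ) hηC
    have h1 : w.asIdeal = η := le_antisymm hwη (hη.2 ⟨w.isPrime, (hJW w).1 (subset_closure hw)⟩ hwη)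
    have h2 : v.asIdeal = η := le_antisymm hvη (hη.2 ⟨v.isPrime, (hJW v).1 hv.1⟩ hvη)
    exact hv.2 ((PrimeSpectrum.ext (h2.trans h1.symm) : v = w) ▸ hw)
  let f' : B ⧸ J := Ideal.Quotient.mk J f
  have hreg : IsSMulRegular (B ⧸ J) f' := by
    refine IsSMulRegular.of_right_eq_zero_of_smul fun b hb => ?_
    obtain ⟨b, rfl⟩ := Ideal.Quotient.mk_surjective b
    rw [smul_eq_mul, ← map_mul, Ideal.Quotient.eq_zero_iff_mem] at hb
    have hJr : J.IsRadical := PrimeSpectrum.isRadical_vanishingIdeal _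
    rw [Ideal.Quotient.eq_zero_iff_mem, ← hJr.radical, ← Ideal.sInf_minimalPrimes, Submodule.mem_sInf]
    intro η hη
    exact ((hη.1.1.mem_or_mem (hη.1.2 hb)).resolve_left (hf η hη))
  obtain ⟨g, hg, hfree, -, -, -⟩ :=
    S0389.result (R := A) (S := B) (M := (B ⧸ J) ⧸ Ideal.span {f'})
  haveI : Module.Flat A (Localization.Away g) := IsLocalization.flat _ (Submonoid.powers g)
  haveI : Module.Flat (Localization.Away g) (Localization.Away g ⊗[A] ((B ⧸ J) ⧸ Ideal.span {f'})) :=
    @Module.Flat.of_free _ _ _ _ _ hfree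
  haveI : Module.Flat A (Localization.Away g ⊗[A] ((B ⧸ J) ⧸ Ideal.span {f'})) :=
    Module.Flat.trans A (Localization.Away g) _
  have hgood : ∀ z : PrimeSpectrum B, algebraMap A B g ∉ z.asIdeal → IsTopPt A (closure Z) z → z ∈ Z := by
    rintro z hgz ⟨hzW, hmin⟩
    by_contra hzZ
    have hfz : f ∈ z.asIdeal := (hK z).1 (subset_closure ⟨hzW, hzZ⟩) hfK
    have hzJ : J ≤ z.asIdeal := (hJW z).1 hzW
    let zb : Ideal (B ⧸ J) := z.asIdeal.map (Ideal.Quotient.mk J)
    haveI hzb : zb.IsPrime := Ideal.map_isPrime_of_surjective Ideal.Quotient.mk_surjective (by rwa [Ideal.mk_ker])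
    have hcz : zb.comap (Ideal.Quotient.mk J) = z.asIdeal := by
      rw [Ideal.comap_map_of_surjective' _ Ideal.Quotient.mk_surjective, Ideal.mk_ker, sup_eq_left.2 hzJ]
    have hu : zb.under A = z.asIdeal.under A :=
      ((Ideal.comap_comap (algebraMap A B) (Ideal.Quotient.mk J)).symm.trans (congrArg _ hcz))
    refine notMem_of_minimal_fibre (A := A) f' hreg g zb ?_ ⟨⟨hzb, Ideal.map_comap_le⟩, fun r hr hle => ?_⟩
      (Ideal.mem_map_of_mem _ hfz)
    · rw [hu]
      exact hgz
    · haveI := hr.1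
      have h1 : r.under A = z.asIdeal.under A :=
        le_antisymm ((Ideal.comap_mono hle).trans hu.le) (hu.ge.trans (Ideal.map_le_iff_le_comap.1 hr.2))
      have h2 := hmin (PrimeSpectrum.comap (Ideal.Quotient.mk J) ⟨r, inferInstance⟩) (by
          rw [hJW]
          intro b hb
          show Ideal.Quotient.mk J b ∈ r
          rw [Ideal.Quotient.eq_zero_iff_mem.2 hb]
          exact zero_mem _)
        ((Ideal.comap_mono hle).trans hcz.le)
        ((Ideal.comap_comap (algebraMap A B) (Ideal.Quotient.mk J)).trans h1)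
      exact Ideal.map_le_iff_le_comap.2 (congrArg PrimeSpectrum.asIdeal h2).ge
  refine ⟨g, hg, fun z hgz => ⟨?_, fun h => ⟨hgood z hgz h, fun y hy => h.2 y (subset_closure hy)⟩⟩⟩
  rintro ⟨hzZ, hmax⟩
  refine ⟨subset_closure hzZ, fun w hwW hwz hwp => ?_⟩
  obtain ⟨v, hv, hvw, hvp⟩ := exists_isTopPt_le A isClosed_closure hwW
  have hgv : algebraMap A B g ∉ v.asIdeal := fun h => hgz ((hvw.trans hwz) h)
  obtain rfl := hmax v (hgood v hgv hv) (hvw.trans hwz) (hvp.trans hwp)
  exact PrimeSpectrum.ext (le_antisymm hwz hvw)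

/-- Over a nonempty open set, the set of points whose fibre has a component of given dimension is
constructible. -/
theorem exists_isConstructible_compDimSet [IsDomain A] [IsNoetherianRing A] [Algebra.FiniteType A B]
    {Z : Set (PrimeSpectrum B)} (hZ : IsConstructible Z) (j : ℕ) :
    ∃ g : A, g ≠ 0 ∧ IsConstructible (compDimSet A Z j ∩ PrimeSpectrum.basicOpen g) := by
  obtain ⟨g, hg, hiff⟩ := exists_isTopPt_iff_closure A hZ
  refine ⟨g, hg, ?_⟩
  haveI : IsNoetherianRing B := Algebra.FiniteType.isNoetherianRing A B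
  have hW : IsClosed (closure Z) := isClosed_closure
  have hcons : ∀ {s : Set (PrimeSpectrum B)}, IsClosed s → IsConstructible s := fun {s} hs => by
    rw [← compl_compl s]
    exact ((TopologicalSpace.NoetherianSpace.isCompact _).isConstructible hs.isOpen_compl).compl
  have hfp : (algebraMap A B).FinitePresentation :=
    RingHom.finitePresentation_algebraMap.2 (Algebra.FinitePresentation.of_finiteType.1 inferInstance)
  have h := (PrimeSpectrum.isConstructible_comap_image hfp
    ((hcons (isClosed_gset (A := A) hW j)).sdiff (hcons (isClosed_gset (A := A) hW (j + 1))))).inter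
    ((TopologicalSpace.NoetherianSpace.isCompact _).isConstructible
      (PrimeSpectrum.basicOpen g).2 : IsConstructible (PrimeSpectrum.basicOpen g : Set (PrimeSpectrum A)))
  convert h using 1
  ext p
  refine and_congr_left fun hgp => ⟨?_, ?_⟩
  · rintro ⟨z, hz, hzp, htj, htj1⟩
    have hgz : algebraMap A B g ∉ z.asIdeal := fun h => hgp (hzp ▸ h : g ∈ p.asIdeal)
    have hz' := (hiff z hgz).1 hz
    refine ⟨z, ⟨(mem_gset_iff hW j z).2 ⟨z, le_rfl, rfl, hz'.1, htj⟩, fun h => ?_⟩, PrimeSpectrum.ext hzp⟩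
    obtain ⟨w, hwz, hwp, hwW, hw⟩ := (mem_gset_iff hW (j + 1) z).1 h
    exact htj1 (hz'.2 w hwW hwz hwp ▸ hw)
  · rintro ⟨x, ⟨hx, hx1⟩, rfl⟩
    obtain ⟨w, hwx, hwp, hwW, hw⟩ := (mem_gset_iff hW j x).1 hx
    obtain ⟨z, hz, hzw, hzp⟩ := exists_isTopPt_le A hW hwW
    have hgz : algebraMap A B g ∉ z.asIdeal := fun h => hgp ((hzw.trans hwx) h)
    exact ⟨z, (hiff z hgz).2 hz, hzp.trans hwp, trdegGE_of_le hzw hzp hw, fun h =>
      hx1 ((mem_gset_iff hW (j + 1) x).2 ⟨z, hzw.trans hwx, hzp.trans hwp, hz.1, h⟩)⟩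

end Groth.Agent.FibCodepth

namespace Groth.Agent.FibCodepth

section Invariance

variable (A₀ A : Type u) {P₀ P : Type u} [CommRing A₀] [CommRing A] [CommRing P₀] [CommRing P] [Algebra A₀ A]
  [Algebra A₀ P₀] [Algebra A P] [Algebra P₀ P] [Algebra A₀ P] [IsScalarTower A₀ A P] [IsScalarTower A₀ P₀ P]
  [Algebra.IsPushout A₀ A P₀ P] [Algebra.FiniteType A₀ P₀]

theorem compDimSet_baseChange (Z₀ : Set (PrimeSpectrum P₀)) (j : ℕ) :
    compDimSet A (PrimeSpectrum.comap (algebraMap P₀ P) ⁻¹' Z₀) j =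
      PrimeSpectrum.comap (algebraMap A₀ A) ⁻¹' compDimSet A₀ Z₀ j := by
  haveI : Algebra.FiniteType A P :=
    Algebra.FiniteType.equiv inferInstance (Algebra.IsPushout.equiv A₀ A P₀ P)
  let c := PrimeSpectrum.comap (algebraMap P₀ P)
  ext p
  constructor
  · rintro ⟨z, ⟨hzZ, hmax⟩, hzp, htj, htj1⟩
    refine ⟨c z, ⟨hzZ, fun z₀' hz₀' hle hp => ?_⟩, ?_, trdegGE_comap A₀ A htj, fun h => ?_⟩
    · obtain ⟨z', hz'z, hz'p, hcz', -⟩ := exists_gen_over A₀ A z z₀' hle hp (trdegGE_zero z₀')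
      obtain rfl := hmax z' (show c z' ∈ Z₀ by rw [show c z' = z₀' from hcz']; exact hz₀') hz'z hz'p
      exact hcz'.symm
    · rw [under_comap A₀ A, hzp]
      rfl
    · obtain ⟨z', hz'z, hz'p, hcz', ht'⟩ := exists_gen_over A₀ A z (c z) le_rfl rfl h
      obtain rfl := hmax z' (show c z' ∈ Z₀ by rw [show c z' = c z from hcz']; exact hzZ) hz'z hz'p
      exact htj1 ht'
  · rintro ⟨z₀, ⟨hzZ, hmax⟩, hp₀, htj, htj1⟩
    obtain ⟨x, hxp, hcx⟩ := exists_point_over A₀ A (P₀ := P₀) (P := P) p z₀ hp₀.symm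
    obtain ⟨z, hzx, hzp, hcz, hzt⟩ := exists_gen_over A₀ A x z₀ (hcx ▸ le_rfl) (hcx ▸ rfl) htj
    refine ⟨z, ⟨show c z ∈ Z₀ by rw [show c z = z₀ from hcz]; exact hzZ, fun z' hz' hle hp => ?_⟩, hzp.trans hxp, hzt,
      fun h => htj1 (hcz ▸ trdegGE_comap A₀ A h)⟩
    by_contra hne
    have h' := trdegGE_succ_of_lt (lt_of_le_of_ne hle fun he => hne (PrimeSpectrum.ext he)) hp hzt
    have hcz' : c z' = z₀ := hmax _ hz' (hcz ▸ Ideal.comap_mono hle) (by
      rw [← hcz, under_comap A₀ A, under_comap A₀ A, hp])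
    exact htj1 (hcz' ▸ trdegGE_comap A₀ A h')

end Invariance

section Constructible

variable {R₀ B : Type u} [CommRing R₀] [IsNoetherianRing R₀] [CommRing B] [Algebra R₀ B] [Algebra.FiniteType R₀ B]

attribute [local instance] Algebra.TensorProduct.rightAlgebra in
theorem isConstructible_compDimSet_noetherian {Z : Set (PrimeSpectrum B)} (hZ : IsConstructible Z) (j : ℕ) :
    IsConstructible (compDimSet R₀ Z j) := by
  haveI : IsNoetherianRing B := Algebra.FiniteType.isNoetherianRing R₀ B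
  have H : ∀ I : Ideal R₀, IsConstructible (compDimSet R₀ Z j ∩ PrimeSpectrum.zeroLocus (I : Set R₀)) := by
    intro I
    induction I using WellFoundedGT.induction with
    | ind I ih =>
      by_cases htop : I = ⊤
      · rw [htop, PrimeSpectrum.zeroLocus_empty_iff_eq_top.2 rfl, Set.inter_empty]
        exact IsConstructible.empty
      by_cases hprime : I.IsPrime
      swap
      · obtain ⟨a, ha, b, hb, hab⟩ := (Ideal.not_isPrime_iff.1 hprime).resolve_left htop
        have h : PrimeSpectrum.zeroLocus (I : Set R₀) =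
            PrimeSpectrum.zeroLocus ((I ⊔ Ideal.span {a} : Ideal R₀) : Set R₀) ∪
              PrimeSpectrum.zeroLocus ((I ⊔ Ideal.span {b} : Ideal R₀) : Set R₀) := by
          ext q
          simp only [PrimeSpectrum.mem_zeroLocus, Set.mem_union, SetLike.coe_subset_coe, sup_le_iff,
            Ideal.span_singleton_le_iff_mem]
          constructor
          · intro hq
            exact (q.isPrime.mem_or_mem (hq hab)).imp (fun h => ⟨hq, h⟩) fun h => ⟨hq, h⟩
          · rintro (⟨h, -⟩ | ⟨h, -⟩) <;> exact h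
        rw [h, Set.inter_union_distrib_left]
        exact (ih _ (Submodule.lt_sup_iff_notMem.2 ha)).union (ih _ (Submodule.lt_sup_iff_notMem.2 hb))
      let c₁ := PrimeSpectrum.comap (algebraMap B ((R₀ ⧸ I) ⊗[R₀] B))
      have hZ₁ : IsConstructible (c₁ ⁻¹' Z) := by
        obtain ⟨D, hD⟩ := PrimeSpectrum.exists_constructibleSetData_iff.2 hZ
        rw [← hD, ← PrimeSpectrum.ConstructibleSetData.toSet_map]
        exact PrimeSpectrum.ConstructibleSetData.isConstructible_toSet _
      obtain ⟨g', hg', hcons⟩ := exists_isConstructible_compDimSet (R₀ ⧸ I) hZ₁ j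
      obtain ⟨g, rfl⟩ := Ideal.Quotient.mk_surjective g'
      have hg : g ∉ I := fun h => hg' (Ideal.Quotient.eq_zero_iff_mem.2 h)
      let q₁ := PrimeSpectrum.comap (Ideal.Quotient.mk I)
      have himg := hcons.image_of_isClosedEmbedding
        (PrimeSpectrum.isClosedEmbedding_comap_of_surjective _ _ Ideal.Quotient.mk_surjective : IsClosedEmbedding q₁)
        (by
          show IsRetrocompact (Set.range q₁)ᶜ
          rw [QuasiSeparatedSpace.isRetrocompact_iff_isCompact
            (PrimeSpectrum.isClosedEmbedding_comap_of_surjective _ _ Ideal.Quotient.mk_surjective).isClosed_range.isOpen_compl]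
          exact TopologicalSpace.NoetherianSpace.isCompact _)
      have hsplit : compDimSet R₀ Z j ∩ PrimeSpectrum.zeroLocus (I : Set R₀) =
          q₁ '' (compDimSet (R₀ ⧸ I) (c₁ ⁻¹' Z) j ∩ PrimeSpectrum.basicOpen (Ideal.Quotient.mk I g)) ∪
            (compDimSet R₀ Z j ∩ PrimeSpectrum.zeroLocus ((I ⊔ Ideal.span {g} : Ideal R₀) : Set R₀)) := by
        rw [compDimSet_baseChange R₀ (R₀ ⧸ I) (P₀ := B) (P := (R₀ ⧸ I) ⊗[R₀] B) Z j]
        ext p
        simp only [Set.mem_inter_iff, Set.mem_union, Set.mem_image, Set.mem_preimage, PrimeSpectrum.mem_zeroLocus,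
          SetLike.coe_subset_coe, sup_le_iff, Ideal.span_singleton_le_iff_mem]
        constructor
        · rintro ⟨hp, hI⟩
          by_cases hgp : g ∈ p.asIdeal
          · exact Or.inr ⟨hp, hI, hgp⟩
          obtain ⟨p', rfl⟩ : p ∈ Set.range q₁ := by
            show p ∈ Set.range (PrimeSpectrum.comap (Ideal.Quotient.mk I))
            rw [range_comap_of_surjective _ _ Ideal.Quotient.mk_surjective, Ideal.mk_ker]
            exact hI
          exact Or.inl ⟨p', ⟨hp, hgp⟩, rfl⟩
        · rintro (⟨p', ⟨hp, -⟩, rfl⟩ | ⟨hp, hI, -⟩)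
          · refine ⟨hp, fun a ha => ?_⟩
            show Ideal.Quotient.mk I a ∈ p'.asIdeal
            rw [Ideal.Quotient.eq_zero_iff_mem.2 ha]
            exact zero_mem _
          · exact ⟨hp, hI⟩
      rw [hsplit]
      exact himg.union (ih _ (Submodule.lt_sup_iff_notMem.2 hg))
  simpa using H ⊥

end Constructible

section General

attribute [local instance] MvPolynomial.algebraMvPolynomial

open FlatOpen

theorem isConstructible_compDimSet_poly (A : Type u) [CommRing A] {n : ℕ}
    {Z : Set (PrimeSpectrum (MvPolynomial (Fin n) A))} (hZ : IsConstructible Z) (j : ℕ) :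
    IsConstructible (compDimSet A Z j) := by
  classical
  obtain ⟨D, rfl⟩ := PrimeSpectrum.exists_constructibleSetData_iff.2 hZ
  let cs : Finset A := D.biUnion fun C => C.f.coeffs ∪ Finset.univ.biUnion fun i => (C.g i).coeffs
  let A₀ := Algebra.adjoin ℤ (cs : Set A)
  haveI : IsNoetherianRing A₀ := isNoetherianRing_of_fg ⟨cs, rfl⟩
  let φ : MvPolynomial (Fin n) A₀ →+* MvPolynomial (Fin n) A := algebraMap _ _
  have hrange : ∀ q : MvPolynomial (Fin n) A, q.coeffs ⊆ cs → ∃ q₀, φ q₀ = q := fun q hq =>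
    MvPolynomial.mem_range_map_iff_coeffs_subset.2 fun x hx => ⟨⟨x, Algebra.subset_adjoin (hq hx)⟩, rfl⟩
  have hbasic : ∀ C ∈ D, ∃ C₀ : PrimeSpectrum.BasicConstructibleSetData (MvPolynomial (Fin n) A₀), C₀.map φ = C := by
    intro C hC
    obtain ⟨f₀, hf₀⟩ := hrange C.f fun x hx => Finset.mem_biUnion.2 ⟨C, hC, Finset.mem_union_left _ hx⟩
    choose g₀ hg₀ using fun i => hrange (C.g i) fun x hx =>
      Finset.mem_biUnion.2 ⟨C, hC, Finset.mem_union_right _ (Finset.mem_biUnion.2 ⟨i, Finset.mem_univ i, hx⟩)⟩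
    refine ⟨⟨f₀, C.n, g₀⟩, ?_⟩
    cases C
    simp only [PrimeSpectrum.BasicConstructibleSetData.map, hf₀]
    congr 1
    exact funext hg₀
  haveI : Nonempty (PrimeSpectrum.BasicConstructibleSetData (MvPolynomial (Fin n) A₀)) := ⟨⟨0, 0, Fin.elim0⟩⟩
  choose! C₀ hC₀ using hbasic
  let D₀ : PrimeSpectrum.ConstructibleSetData (MvPolynomial (Fin n) A₀) := D.image C₀
  have hD : D₀.map φ = D := by
    simp only [D₀, PrimeSpectrum.ConstructibleSetData.map, Finset.image_image]
    exact (Finset.image_congr hC₀).trans Finset.image_id'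
  rw [← hD, PrimeSpectrum.ConstructibleSetData.toSet_map,
    compDimSet_baseChange A₀ A (P₀ := MvPolynomial (Fin n) A₀) (P := MvPolynomial (Fin n) A)]
  refine (isConstructible_compDimSet_noetherian (R₀ := A₀) D₀.isConstructible_toSet j).preimage
    (PrimeSpectrum.continuous_comap _) fun s hs _ => ?_
  obtain ⟨T, hT⟩ := (PrimeSpectrum.isCompact_isOpen_iff_ideal).1 ⟨TopologicalSpace.NoetherianSpace.isCompact s, hs⟩
  rw [QuasiSeparatedSpace.isRetrocompact_iff_isCompact (hs.preimage (PrimeSpectrum.continuous_comap _)), ← hT.2,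
    Set.preimage_compl, PrimeSpectrum.preimage_comap_zeroLocus, ← PrimeSpectrum.zeroLocus_span]
  exact (PrimeSpectrum.isCompact_isOpen_iff_ideal.2 ⟨_, ⟨hT.1.map _, rfl⟩⟩).1

/-- The set of points whose fibre in a constructible set has a component of given dimension is
constructible. -/
theorem isConstructible_compDimSet (A : Type u) {B : Type u} [CommRing A] [CommRing B] [Algebra A B]
    [Algebra.FinitePresentation A B] {Z : Set (PrimeSpectrum B)} (hZ : IsConstructible Z) (j : ℕ) :
    IsConstructible (compDimSet A Z j) := by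
  obtain ⟨n, π, hπ, hker⟩ := (inferInstance : Algebra.FinitePresentation A B).out
  letI : Algebra (MvPolynomial (Fin n) A) B := π.toRingHom.toAlgebra
  haveI : IsScalarTower A (MvPolynomial (Fin n) A) B := IsScalarTower.of_algebraMap_eq fun a => (π.commutes a).symm
  let c := PrimeSpectrum.comap (algebraMap (MvPolynomial (Fin n) A) B)
  have hc : ∀ z : PrimeSpectrum B, (c z).asIdeal.under A = z.asIdeal.under A := fun z => by
    show (z.asIdeal.comap (algebraMap (MvPolynomial (Fin n) A) B)).comap (algebraMap A _) = _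
    rw [Ideal.comap_comap, ← IsScalarTower.algebraMap_eq]
  have hle : ∀ z z' : PrimeSpectrum B, z'.asIdeal ≤ z.asIdeal ↔ (c z').asIdeal ≤ (c z).asIdeal :=
    fun z z' => (Ideal.comap_le_comap_iff_of_surjective _ hπ _ _).symm
  have hinj : Function.Injective c := PrimeSpectrum.comap_injective_of_surjective _ hπ
  have h : compDimSet A Z j = compDimSet A (c '' Z) j := by
    ext p
    constructor
    · rintro ⟨z, ⟨hz, hmax⟩, hzp, ht⟩
      refine ⟨c z, ⟨⟨z, hz, rfl⟩, ?_⟩, (hc z).trans hzp, (trdegEQ_of_surjective hπ z j).1 ht⟩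
      rintro _ ⟨z', hz', rfl⟩ hle' hp'
      rw [hmax z' hz' ((hle z z').2 hle') (by rw [← hc z', ← hc z]; exact hp')]
    · rintro ⟨_, ⟨⟨z, hz, rfl⟩, hmax⟩, hzp, ht⟩
      exact ⟨z, ⟨hz, fun z' hz' hle' hp' => hinj (hmax _ ⟨z', hz', rfl⟩ ((hle z z').1 hle')
        (by rw [hc z', hc z, hp']))⟩, (hc z).symm.trans hzp, (trdegEQ_of_surjective hπ z j).2 ht⟩
  rw [h]
  refine isConstructible_compDimSet_poly A (hZ.image_of_isClosedEmbedding
    (PrimeSpectrum.isClosedEmbedding_comap_of_surjective _ _ hπ) ?_) j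
  show IsRetrocompact (Set.range c)ᶜ
  rw [range_comap_of_surjective _ (algebraMap (MvPolynomial (Fin n) A) B) hπ,
    QuasiSeparatedSpace.isRetrocompact_iff_isCompact (PrimeSpectrum.isClosed_zeroLocus _).isOpen_compl]
  exact (PrimeSpectrum.isCompact_isOpen_iff_ideal.2 ⟨_, hker, rfl⟩).1

/-- The transcendence degrees in the fibres of an algebra of finite type are bounded. -/
theorem exists_trdegGE_bound (A B : Type u) [CommRing A] [CommRing B] [Algebra A B] [Algebra.FiniteType A B] :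
    ∃ N : ℕ, ∀ (z : PrimeSpectrum B) (c : ℕ), TrdegGE A z c → c ≤ N := by
  have hcov : (Set.univ : Set (PrimeSpectrum B)) ⊆ ⋃ m, RelDim.dimLeSet A B m := fun z _ => by
    obtain ⟨Q, hQ⟩ := exists_fibre_pt (A := A) z rfl
    obtain ⟨r, hr⟩ := exists_tdeg_eq (k := (z.asIdeal.under A).ResidueField) Q.asIdeal
    haveI : IsNoetherianRing ((z.asIdeal.under A).Fiber B) :=
      Algebra.FiniteType.isNoetherianRing (z.asIdeal.under A).ResidueField _
    obtain ⟨h0, hh0⟩ := ENat.ne_top_iff_exists.1 (Ideal.height_ne_top_of_isPrime (I := Q.asIdeal))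
    refine Set.mem_iUnion.2 ⟨h0 + r, ?_⟩
    rw [mem_dimLeSet_iff_fibre z rfl Q hQ, localDim_eq_height_add Q r hr, ← hh0]
    exact le_of_eq (by push_cast; rfl)
  obtain ⟨T, hT⟩ := isCompact_univ.elim_finite_subcover _ (fun m => RelDim.isOpen_dimLeSet A B m) hcov
  refine ⟨T.sup id, fun z c hc => ?_⟩
  obtain ⟨m, hm, hzm⟩ := Set.mem_iUnion₂.1 (hT (Set.mem_univ z))
  refine le_trans ?_ (Finset.le_sup (f := id) hm)
  by_contra hlt
  exact (not_mem_dimLeSet_iff z m).2 ⟨z, le_rfl, rfl, hc.mono (by simpa using hlt)⟩ hzm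

end General

end Groth.Agent.FibCodepth
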