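import Groth.Agent.FibCodepth.Scheme

/-!
# Fibrewise loci inside the flat locus of a morphism
-/

set_option autoImplicit false
set_option linter.style.haveILetI false

universe u

open CategoryTheory Limits AlgebraicGeometry IsLocalRing TensorProduct
open Groth.Agent.AssSch.Stalk

namespace Groth.Agent.FibCodepth

variable {X Y : Scheme.{u}} (f : X ⟶ Y)

theorem codepth_ring_iff_chart {V : Y.Opens} (hV : IsAffineOpen V) {U : X.Opens} (hU : IsAffineOpen U)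
    (e : U ≤ f ⁻¹ᵁ V) (k : ℕ) (s : Y) (y : f.fiber s) (x : X) (hxy : f.fiberι s y = x) (hx : x ∈ U) :
    letI := (f.appLE V U e).hom.toAlgebra
    ringKrullDim ((f.fiber s).presheaf.stalk y) ≤
      ((LocCoh.depth ((f.fiber s).presheaf.stalk y) ((f.fiber s).presheaf.stalk y) : ℕ∞) : WithBot ℕ∞) + k ↔
      CodepthLE Γ(Y, V) Γ(X, U) Γ(X, U) (primeOf hU x hx) k := by
  subst hxy
  letI := (f.appLE V U e).hom.toAlgebra
  haveI := isLocalRing_fibLocRing (A := Γ(Y, V)) (primeOf hU (f.fiberι s y) hx)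
  letI := fibreAlg f s y hx
  obtain ⟨ε⟩ := nonempty_fibre_ring_chart f hV hU e s y hx
  let μ : (f.fiber s).presheaf.stalk y ≃ₗ[(f.fiber s).presheaf.stalk y]
      (f.fiber s).presheaf.stalk y ⊗[Γ(X, U)] Γ(X, U) :=
    (AlgebraTensorModule.rid Γ(X, U) ((f.fiber s).presheaf.stalk y) ((f.fiber s).presheaf.stalk y)).symm
  obtain ⟨h1, h2⟩ := EGA4Lib.depth_supportDim_congr μ
  obtain ⟨h3, h4⟩ := EGA4Lib.depth_supportDim_tensor_algEquiv ε Γ(X, U)
  unfold CodepthLE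
  rw [← Module.supportDim_self_eq_ringKrullDim, h1, h2, h3, h4]

theorem exists_flat_chart (W : X.Opens) (hW : ∀ x ∈ W, (f.stalkMap x).hom.Flat) (x : X) (hx : x ∈ W) :
    ∃ (V : Y.Opens) (U : X.Opens) (_ : IsAffineOpen V) (_ : IsAffineOpen U) (e : U ≤ f ⁻¹ᵁ V),
      x ∈ U ∧ U ≤ W ∧ (letI := (f.appLE V U e).hom.toAlgebra; Module.Flat Γ(Y, V) Γ(X, U)) := by
  obtain ⟨V, hV, hxV, -⟩ := exists_isAffineOpen_mem_and_subset (U := (⊤ : Y.Opens)) (x := f.base x) trivial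
  obtain ⟨U, hU, hxU, hUV⟩ := exists_isAffineOpen_mem_and_subset (U := f ⁻¹ᵁ V ⊓ W) (x := x) ⟨hxV, hx⟩
  refine ⟨V, U, hV, hU, hUV.trans inf_le_left, hxU, hUV.trans inf_le_right, ?_⟩
  letI := (f.appLE V U (hUV.trans inf_le_left)).hom.toAlgebra
  refine Module.flat_of_isLocalized_maximal Γ(X, U) _ (fun Q _ => LocalizedModule Q.primeCompl Γ(X, U))
    (fun Q _ => LocalizedModule.mkLinearMap Q.primeCompl _) fun Q hQ => ?_
  obtain ⟨z, hz, rfl⟩ := AssSch.Basic.exists_point hU Q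
  exact (FlatOpen.Scheme.stalkMap_flat_iff f hV hU _ z hz).1 (hW z (hUV hz).2)

variable [LocallyOfFinitePresentation f]

/-- The flat points whose fibre stalk satisfies `(S_k)` form an open set. -/
theorem isOpen_flat_and_hasSk (k : ℕ) :
    IsOpen {x : X | (f.stalkMap x).hom.Flat ∧
      LocCoh.HasSk k ((f.fiber (f.base x)).presheaf.stalk (f.asFiber x)) ((f.fiber (f.base x)).presheaf.stalk (f.asFiber x))} := by
  rw [isOpen_iff_forall_mem_open]
  intro x₀ hx₀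
  let W : X.Opens := ⟨_, FlatOpen.Scheme.isOpen_stalkMap_flat f⟩
  obtain ⟨V, U, hV, hU, e, hx₀U, hUW, hfl⟩ := exists_flat_chart f W (fun x hx => hx) x₀ hx₀.1
  letI := (f.appLE V U e).hom.toAlgebra
  haveI : Algebra.FinitePresentation Γ(Y, V) Γ(X, U) := f.finitePresentation_appLE hV hU e
  haveI := hfl
  have hopen := isOpen_fibSk (A := Γ(Y, V)) (B := Γ(X, U)) Γ(X, U) k
  have hiff : ∀ x (hx : x ∈ U), _ ↔ FibSk Γ(Y, V) Γ(X, U) Γ(X, U) (hU.primeIdealOf ⟨x, hx⟩) k := fun x hx =>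
    hasSk_ring_iff_chart f hV hU e inferInstance k (f.base x) (f.asFiber x) x (f.fiberι_asFiber x) hx
  obtain ⟨T, hT, hTm⟩ := exists_open_of_primeIdealOf hU hopen
  exact ⟨T ∩ U, fun x hx => ⟨hUW hx.2, (hiff x hx.2).2 ((hTm x hx.2).1 hx.1)⟩, hT.inter U.2,
    (hTm x₀ hx₀U).2 ((hiff x₀ hx₀U).1 hx₀.2), hx₀U⟩

/-- The flat points whose fibre stalk has codepth at most `k` form an open set. -/
theorem isOpen_flat_and_codepth (k : ℕ) :
    IsOpen {x : X | (f.stalkMap x).hom.Flat ∧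
      ringKrullDim ((f.fiber (f.base x)).presheaf.stalk (f.asFiber x)) ≤
        ((LocCoh.depth ((f.fiber (f.base x)).presheaf.stalk (f.asFiber x))
          ((f.fiber (f.base x)).presheaf.stalk (f.asFiber x)) : ℕ∞) : WithBot ℕ∞) + k} := by
  rw [isOpen_iff_forall_mem_open]
  intro x₀ hx₀
  let W : X.Opens := ⟨_, FlatOpen.Scheme.isOpen_stalkMap_flat f⟩
  obtain ⟨V, U, hV, hU, e, hx₀U, hUW, hfl⟩ := exists_flat_chart f W (fun x hx => hx) x₀ hx₀.1
  letI := (f.appLE V U e).hom.toAlgebra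
  haveI : Algebra.FinitePresentation Γ(Y, V) Γ(X, U) := f.finitePresentation_appLE hV hU e
  haveI := hfl
  have hopen := isOpen_codepthLE (A := Γ(Y, V)) (B := Γ(X, U)) Γ(X, U) k
  have hiff : ∀ x (hx : x ∈ U), _ ↔ CodepthLE Γ(Y, V) Γ(X, U) Γ(X, U) (primeOf hU x hx) k := fun x hx =>
    codepth_ring_iff_chart f hV hU e k (f.base x) (f.asFiber x) x (f.fiberι_asFiber x) hx
  obtain ⟨T, hT, hTm⟩ := exists_open_of_primeIdealOf hU hopen
  exact ⟨T ∩ U, fun x hx => ⟨hUW hx.2, (hiff x hx.2).2 ((hTm x hx.2).1 hx.1)⟩, hT.inter U.2,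
    (hTm x₀ hx₀U).2 ((hiff x₀ hx₀U).1 hx₀.2), hx₀U⟩

end Groth.Agent.FibCodepth
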