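import Groth.Agent.FibCodepth.Equidim
import Groth.Agent.S6263
import Groth.Agent.S6285
import Mathlib.RingTheory.Spectrum.Prime.Chevalley

/-!
# The components of the support of the fibres of a flat module
-/

set_option autoImplicit false
set_option linter.style.haveILetI false

universe u

open CategoryTheory Limits AlgebraicGeometry IsLocalRing TensorProduct Topology
open Groth.Agent.AssSch.Stalk

namespace Groth.Agent.FibCodepth

section Alg

variable {A B : Type u} [CommRing A] [CommRing B] [Algebra A B] (N : Type u) [AddCommGroup N] [Module B N]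

/-- The support of a flat finitely presented module maps openly to the base. -/
theorem isOpen_comap_image_support [Algebra.FinitePresentation A B] [Module A N] [IsScalarTower A B N]
    [Module.FinitePresentation B N] [Module.Flat A N] {O : Set (PrimeSpectrum B)} (hO : IsOpen O) :
    IsOpen (PrimeSpectrum.comap (algebraMap A B) '' (O ∩ Module.support B N)) := by
  obtain ⟨S, hS, rfl⟩ := PrimeSpectrum.isBasis_basic_opens.open_eq_sUnion hO
  rw [Set.sUnion_eq_biUnion, Set.iUnion₂_inter, Set.image_iUnion₂]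
  refine isOpen_biUnion fun s hs => ?_
  obtain ⟨_, ⟨g, rfl⟩, rfl⟩ := hS hs
  have hc : IsConstructible (Module.support B N) :=
    ((S6285.result B N).2.isConstructible (S6285.result B N).1.isOpen_compl).of_compl
  refine PrimeSpectrum.isOpen_of_stableUnderGeneralization_of_isConstructible ?_
    (PrimeSpectrum.isConstructible_comap_image (RingHom.finitePresentation_algebraMap.mpr ‹_›)
      (PrimeSpectrum.isConstructible_basicOpen.inter hc))
  rintro p' p hpp' ⟨q', ⟨hq'g, hq'⟩, rfl⟩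
  obtain ⟨q, hqq', hq, hqp⟩ := S6263.result (R := A) N p.asIdeal (q'.asIdeal.under A)
    ((PrimeSpectrum.le_iff_specializes _ _).2 hpp') q' hq' rfl
  exact ⟨q, ⟨fun hg => hq'g (hqq' hg), hq⟩, PrimeSpectrum.ext hqp⟩

variable [Algebra.FiniteType A B] [Module.Finite B N]

attribute [local instance] Algebra.TensorProduct.rightAlgebra

omit [Algebra.FiniteType A B] in
theorem supportDim_fib_ne_bot_iff (z : PrimeSpectrum B) :
    Module.supportDim (EGA4.FibLocRing A B z.asIdeal) (EGA4.FibLocRing A B z.asIdeal ⊗[B] N) ≠ ⊥ ↔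
      z ∈ Module.support B N := by
  constructor
  · intro h
    by_contra hn
    haveI := subsingleton_fib (A := A) N z.asIdeal hn
    exact h (Module.supportDim_eq_bot_of_subsingleton _ _)
  · intro hz h
    rw [Module.supportDim_eq_bot_iff_subsingleton, ← Module.support_eq_empty_iff (R := EGA4.FibLocRing A B z.asIdeal),
      support_fib, PrimeSpectrum.zeroLocus_empty_iff_eq_top] at h
    haveI := isLocalRing_fibLocRing (A := A) z.asIdeal
    have hle : (Module.annihilator B N).map (algebraMap B (EGA4.FibLocRing A B z.asIdeal)) ≤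
        maximalIdeal (EGA4.FibLocRing A B z.asIdeal) := by
      rw [Ideal.map_le_iff_le_comap]
      intro a ha
      rw [Ideal.mem_comap, mem_maximalIdeal, mem_nonunits_iff,
        IsScalarTower.algebraMap_apply B (Localization.AtPrime z.asIdeal) (EGA4.FibLocRing A B z.asIdeal)]
      rintro hu
      rw [Module.support_eq_zeroLocus] at hz
      have haz : a ∈ z.asIdeal := hz ha
      haveI : IsLocalHom (algebraMap (Localization.AtPrime z.asIdeal) (EGA4.FibLocRing A B z.asIdeal)) :=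
        .of_surjective _ Ideal.Quotient.mk_surjective
      have hu' := (isUnit_map_iff _ _).1 hu
      rw [IsLocalization.AtPrime.isUnit_to_map_iff (Localization.AtPrime z.asIdeal) z.asIdeal] at hu'
      exact hu' haz
    exact (maximalIdeal.isMaximal _).ne_top (top_le_iff.1 (h.ge.trans hle))

/-- Minimal points of the support in a fibre are associated. -/
theorem isAssFib_of_minimal (z : PrimeSpectrum B) (hz : z ∈ Module.support B N)
    (hmin : ∀ z' : PrimeSpectrum B, z'.asIdeal ≤ z.asIdeal → z'.asIdeal.under A = z.asIdeal.under A →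
      z' ∈ Module.support B N → z' = z) : IsAssFib A B N z := by
  let p := z.asIdeal.under A
  haveI : z.asIdeal.LiesOver p := ⟨rfl⟩
  haveI := isLocalRing_fibLocRing (A := A) z.asIdeal
  obtain ⟨P, hP⟩ := exists_fibre_pt (A := A) z rfl
  have hPz : PrimeSpectrum.comap (algebraMap B (p.Fiber B)) P = z := PrimeSpectrum.ext hP
  have hmin' : Minimal (· ∈ suppBelow B N P.asIdeal) P := by
    refine ⟨⟨le_rfl, by rw [hPz]; exact hz⟩, fun R hR hle => le_of_eq ?_⟩
    refine (fibre_le_of_le R P (Ideal.comap_mono hle)).antisymm (fibre_le_of_le P R ?_) |>.symm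
    have := hmin (PrimeSpectrum.comap (algebraMap B (p.Fiber B)) R) ((Ideal.comap_mono hle).trans hP.le) (suppBelow_under R) hR.2
    exact hP.le.trans (congrArg PrimeSpectrum.asIdeal this).ge
  obtain ⟨ψ⟩ := nonempty_fibre_algEquiv (A := A) p P z.asIdeal hP
  obtain ⟨-, hsd⟩ := EGA4Lib.depth_supportDim_tensor_algEquiv (L := Localization.AtPrime P.asIdeal)
    (L' := EGA4.FibLocRing A B z.asIdeal) ψ N
  have h0 := supportDim_loc_eq_zero N P.asIdeal hmin'
  rw [hsd] at h0
  refine ⟨by rw [h0]; simp, ?_⟩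
  haveI : IsNoetherianRing (p.Fiber B) := Algebra.FiniteType.isNoetherianRing p.ResidueField _
  haveI : IsNoetherianRing (EGA4.FibLocRing A B z.asIdeal) :=
    isNoetherianRing_of_surjective _ _ ψ.toRingHom ψ.surjective
  haveI : Nontrivial (EGA4.FibLocRing A B z.asIdeal ⊗[B] N) := by
    rw [← not_subsingleton_iff_nontrivial]
    intro hs
    rw [(Module.supportDim_eq_bot_iff_subsingleton _ _).2 hs] at h0
    simp at h0
  have hle := h0.le.trans' (Depth.depth_le_supportDim (R := EGA4.FibLocRing A B z.asIdeal))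
  exact le_antisymm (WithBot.coe_le_coe.1 hle) bot_le

end Alg

section Scheme

variable {X Y : Scheme.{u}} (f : X ⟶ Y) (F : X.Modules)

/-- The support of the restriction of `F` to a fibre. -/
def suppFib (y : Y) : Set ↥(f.fiber y) :=
  {z : ↥(f.fiber y) | Nontrivial (((Scheme.Modules.pullback (f.fiberι y)).obj F).presheaf.stalk z)}

/-- A minimal point of the support of a fibre. -/
def IsGenSupp {y : Y} (ξ : ↥(f.fiber y)) : Prop :=
  ξ ∈ suppFib f F y ∧ ∀ z ∈ suppFib f F y, z ⤳ ξ → z = ξ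

theorem mem_suppFib_iff_chart [F.IsQuasicoherent] [LocallyOfFiniteType f] {V : Y.Opens} (hV : IsAffineOpen V)
    {U : X.Opens} (hU : IsAffineOpen U) (e : U ≤ f ⁻¹ᵁ V) (hF : Module.Finite Γ(X, U) Γ(F, U)) (s : Y)
    (y : f.fiber s) (x : X) (hxy : f.fiberι s y = x) (hx : x ∈ U) :
    y ∈ suppFib f F s ↔ hU.primeIdealOf ⟨x, hx⟩ ∈ Module.support Γ(X, U) Γ(F, U) := by
  letI := (f.appLE V U e).hom.toAlgebra
  haveI := hF
  have h2 := (depth_supportDim_fibre_chart f hV hU e F hF s y x hxy hx).2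
  refine Iff.trans ?_ (supportDim_fib_ne_bot_iff (A := Γ(Y, V)) Γ(F, U) (hU.primeIdealOf ⟨x, hx⟩))
  show _ ↔ Module.supportDim (EGA4.FibLocRing Γ(Y, V) Γ(X, U) (primeOf hU x hx)) _ ≠ ⊥
  rw [← h2, Ne, Module.supportDim_eq_bot_iff_subsingleton, not_subsingleton_iff_nontrivial]
  rfl

variable {f F} in
theorem mem_suppFib_of_mem_ass {y : Y} {z : ↥(f.fiber y)}
    (hz : z ∈ AssSch.Ass ((Scheme.Modules.pullback (f.fiberι y)).obj F)) : z ∈ suppFib f F y := by
  show Nontrivial _
  rw [← not_subsingleton_iff_nontrivial]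
  intro hs
  exact not_isAssociatedPrime_of_subsingleton hz

variable [LocallyOfFinitePresentation f]

theorem isClosed_suppFib (hF : CohB1.IsFP F) (y : Y) : IsClosed (suppFib f F y) := by
  haveI : SheafOfModules.IsFinitePresentation.{u} F := hF
  haveI : F.IsQuasicoherent := by
    obtain ⟨σ, -⟩ := SheafOfModules.IsFinitePresentation.exists_quasicoherentData.{u} F
    exact { nonempty_quasicoherentData := ⟨σ⟩ }
  rw [← isOpen_compl_iff, isOpen_iff_forall_mem_open]
  intro z hz
  obtain ⟨V, U, hV, hU, e, hzU⟩ := FlatSect.exists_chart f (f.fiberι y z)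
  haveI : Module.FinitePresentation Γ(X, U) Γ(F, U) := Props.QFP.finitePresentation_sections_of_isFP F hU
  obtain ⟨W, hW, hWm⟩ := exists_open_of_primeIdealOf hU (Module.isClosed_support (R := Γ(X, U)) (M := Γ(F, U))).isOpen_compl
  refine ⟨f.fiberι y ⁻¹' (W ∩ U), fun w hw => ?_, (hW.inter U.2).preimage (f.fiberι y).continuous, ?_, hzU⟩
  · exact fun h => (hWm _ hw.2).1 hw.1 ((mem_suppFib_iff_chart f F hV hU e inferInstance y w _ rfl hw.2).1 h)
  · exact (hWm _ hzU).2 fun h => hz ((mem_suppFib_iff_chart f F hV hU e inferInstance y z _ rfl hzU).2 h)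

theorem mem_ass_of_isGenSupp (hF : CohB1.IsFP F) {y : Y} {ξ : ↥(f.fiber y)} (hξ : IsGenSupp f F ξ) :
    ξ ∈ AssSch.Ass ((Scheme.Modules.pullback (f.fiberι y)).obj F) := by
  haveI : SheafOfModules.IsFinitePresentation.{u} F := hF
  haveI : F.IsQuasicoherent := by
    obtain ⟨σ, -⟩ := SheafOfModules.IsFinitePresentation.exists_quasicoherentData.{u} F
    exact { nonempty_quasicoherentData := ⟨σ⟩ }
  obtain ⟨V, U, hV, hU, e, hU'⟩ := FlatSect.exists_chart f (f.fiberι y ξ)
  letI := (f.appLE V U e).hom.toAlgebra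
  haveI : Algebra.FiniteType Γ(Y, V) Γ(X, U) := f.finiteType_appLE hV hU e
  haveI : Module.FinitePresentation Γ(X, U) Γ(F, U) := Props.QFP.finitePresentation_sections_of_isFP F hU
  rw [mem_ass_iff_chart f hV hU e F inferInstance y ξ _ rfl hU']
  refine isAssFib_of_minimal Γ(F, U) _ ((mem_suppFib_iff_chart f F hV hU e inferInstance y ξ _ rfl hU').1 hξ.1)
    fun z' hle hp hz' => ?_
  obtain ⟨w, hw, hwξ, rfl⟩ := exists_fibre_of_prime f hV hU e ξ rfl hU' z' hle hp
  obtain rfl := hξ.2 w ((mem_suppFib_iff_chart f F hV hU e inferInstance y w _ rfl hw).2 hz') hwξ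
  rfl

theorem exists_dim_closure (y : Y) (z : ↥(f.fiber y)) :
    ∃ n : ℕ, topologicalKrullDim ↥(closure ({z} : Set ↥(f.fiber y))) = (n : WithBot ℕ∞) := by
  obtain ⟨V, U, hV, hU, e, hzU⟩ := FlatSect.exists_chart f (f.fiberι y z)
  letI := (f.appLE V U e).hom.toAlgebra
  haveI : Algebra.FiniteType Γ(Y, V) Γ(X, U) := f.finiteType_appLE hV hU e
  obtain ⟨t, ht⟩ := trdegEQ_unique_exists (A := Γ(Y, V)) (hU.primeIdealOf ⟨f.fiberι y z, hzU⟩)
  exact ⟨t, topDim_closure_fibre f hV hU e y z _ rfl hzU t ht⟩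

/-- The components of the support of a fibre are the closures of its minimal points. -/
theorem components_eq (hF : CohB1.IsFP F) (y : Y) :
    irreducibleComponents ↥(suppFib f F y) =
      (fun ξ => Subtype.val ⁻¹' closure ({ξ} : Set ↥(f.fiber y))) '' {ξ | IsGenSupp f F ξ} := by
  haveI : QuasiSober ↥(suppFib f F y) := (isClosed_suppFib f F hF y).isClosedEmbedding_subtypeVal.quasiSober
  have hcl : ∀ a : ↥(suppFib f F y), Subtype.val ⁻¹' closure {(a : ↥(f.fiber y))} = closure {a} := fun a => by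
    rw [IsInducing.subtypeVal.closure_eq_preimage_closure_image, Set.image_singleton]
  ext Z
  constructor
  · intro hZ
    obtain ⟨a, ha⟩ : ∃ a, IsGenericPoint a Z := QuasiSober.sober hZ.1 (isClosed_of_mem_irreducibleComponents Z hZ)
    refine ⟨a, ⟨a.2, fun z hz hza => ?_⟩, (hcl a).trans ha⟩
    have hsub : Z ⊆ closure {(⟨z, hz⟩ : ↥(suppFib f F y))} := by
      rw [← ha.def]
      exact closure_minimal (Set.singleton_subset_iff.2 (by
        rw [← hcl]; exact hza.mem_closure)) isClosed_closure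
    have heq : closure {(⟨z, hz⟩ : ↥(suppFib f F y))} = Z :=
      (hZ.2 isIrreducible_singleton.closure hsub).antisymm hsub
    exact congrArg Subtype.val ((show IsGenericPoint (⟨z, hz⟩ : ↥(suppFib f F y)) Z from heq).eq ha)
  · rintro ⟨ξ, hξ, rfl⟩
    show Maximal IsIrreducible _
    dsimp only
    rw [show Subtype.val ⁻¹' closure ({ξ} : Set ↥(f.fiber y)) = closure {(⟨ξ, hξ.1⟩ : ↥(suppFib f F y))} from hcl ⟨ξ, hξ.1⟩]
    refine ⟨isIrreducible_singleton.closure, fun Z hZ hsub => ?_⟩
    obtain ⟨a, ha⟩ : ∃ a, IsGenericPoint a (closure Z) := QuasiSober.sober hZ.closure isClosed_closure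
    have haξ : a ⤳ (⟨ξ, hξ.1⟩ : ↥(suppFib f F y)) :=
      ha.specializes (subset_closure (hsub (subset_closure rfl)))
    have : a = ⟨ξ, hξ.1⟩ := Subtype.ext (hξ.2 a a.2 (haξ.map continuous_subtype_val))
    rw [← this, ha.def]
    exact subset_closure

theorem exists_isGenSupp_specializes (hF : CohB1.IsFP F) {y : Y} {z : ↥(f.fiber y)} (hz : z ∈ suppFib f F y) :
    ∃ ξ, IsGenSupp f F ξ ∧ ξ ⤳ z := by
  have h := irreducibleComponent_mem_irreducibleComponents (⟨z, hz⟩ : ↥(suppFib f F y))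
  rw [components_eq f F hF y] at h
  obtain ⟨ξ, hξ, he⟩ := h
  refine ⟨ξ, hξ, specializes_iff_mem_closure.2 ?_⟩
  exact (Set.ext_iff.1 he ⟨z, hz⟩).2 mem_irreducibleComponent

theorem topDim_component (hF : CohB1.IsFP F) {y : Y} {ξ : ↥(f.fiber y)} (hξ : IsGenSupp f F ξ) :
    topologicalKrullDim ↥(Subtype.val ⁻¹' closure ({ξ} : Set ↥(f.fiber y)) : Set ↥(suppFib f F y)) =
      topologicalKrullDim ↥(closure ({ξ} : Set ↥(f.fiber y))) := by
  have hsub : closure ({ξ} : Set ↥(f.fiber y)) ⊆ suppFib f F y :=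
    closure_minimal (Set.singleton_subset_iff.2 hξ.1) (isClosed_suppFib f F hF y)
  exact (Homeomorph.isHomeomorph
    { toFun := fun a => ⟨a.1.1, a.2⟩
      invFun := fun a => ⟨⟨a.1, hsub a.2⟩, a.2⟩
      left_inv := fun _ => rfl
      right_inv := fun _ => rfl
      continuous_toFun := by fun_prop
      continuous_invFun := by fun_prop }).topologicalKrullDim_eq _

theorem exists_component_dim_iff (hF : CohB1.IsFP F) (y : Y) (d : WithBot ℕ∞) :
    (∃ Z ∈ irreducibleComponents ↥(suppFib f F y), topologicalKrullDim ↥Z = d) ↔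
      ∃ ξ, IsGenSupp f F ξ ∧ topologicalKrullDim ↥(closure ({ξ} : Set ↥(f.fiber y))) = d := by
  rw [components_eq f F hF y]
  constructor
  · rintro ⟨_, ⟨ξ, hξ, rfl⟩, hd⟩
    exact ⟨ξ, hξ, (topDim_component f F hF hξ).symm.trans hd⟩
  · rintro ⟨ξ, hξ, hd⟩
    exact ⟨_, ⟨ξ, hξ, rfl⟩, (topDim_component f F hF hξ).trans hd⟩

theorem topDim_suppFib_le (hF : CohB1.IsFP F) (y : Y) (n : ℕ∞)
    (h : ∀ ξ, IsGenSupp f F ξ → topologicalKrullDim ↥(closure ({ξ} : Set ↥(f.fiber y))) ≤ (n : WithBot ℕ∞)) :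
    topologicalKrullDim ↥(suppFib f F y) ≤ (n : WithBot ℕ∞) := by
  haveI : QuasiSober ↥(suppFib f F y) := (isClosed_suppFib f F hF y).isClosedEmbedding_subtypeVal.quasiSober
  rw [DimLift.topDim_eq_krullDim_points (X := ↥(suppFib f F y))]
  refine iSup_le fun l => ?_
  obtain ⟨ξ, hξ, hξl⟩ := exists_isGenSupp_specializes f F hF l.last.2
  refine le_trans ?_ (h ξ hξ)
  rw [QSect.topDim_closure_singleton]
  refine WithBot.coe_le_coe.2 ?_
  let g : LTSeries ↥(f.fiber y) :=
    { length := l.length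
      toFun := fun i => (l i).1
      step := fun i => ⟨(l.step i).1.map continuous_subtype_val,
        fun h' => (l.step i).2 ((subtype_specializes_iff _ _).2 h')⟩ }
  exact Order.length_le_height (p := g) (x := ξ) hξl

theorem exists_bound [QuasiCompact f] (hF : CohB1.IsFP F) (y : Y) :
    ∃ N : ℕ, ∀ ξ : ↥(f.fiber y), IsGenSupp f F ξ → ∀ n : ℕ,
      topologicalKrullDim ↥(closure ({ξ} : Set ↥(f.fiber y))) = (n : WithBot ℕ∞) → n ≤ N := by
  haveI : LocallyOfFiniteType (f.fiberToSpecResidueField y) :=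
    MorphismProperty.of_isPullback (P := @LocallyOfFiniteType) (IsPullback.of_hasPullback f (Y.fromSpecResidueField y)) inferInstance
  haveI : IsLocallyNoetherian (f.fiber y) :=
    LocallyOfFiniteType.isLocallyNoetherian (f.fiberToSpecResidueField y)
  haveI : IsNoetherian (f.fiber y) := {}
  have hfin := (TopologicalSpace.NoetherianSpace.finite_irreducibleComponents
    (α := ↥(suppFib f F y))).image (fun Z : Set ↥(suppFib f F y) => topologicalKrullDim ↥Z)
  obtain ⟨N, hN⟩ := (hfin.preimage (f := fun n : ℕ => (n : WithBot ℕ∞))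
    (fun a _ b _ h => by simpa using h)).bddAbove
  refine ⟨N, fun ξ hξ n hn => hN ?_⟩
  obtain ⟨Z, hZ, hd⟩ := (exists_component_dim_iff f F hF y _).2 ⟨ξ, hξ, hn⟩
  exact ⟨Z, hZ, hd⟩

/-- Openness of the set of values of a flat module with a component of given dimension, locally. -/
theorem isOpen_image_inter_supp (hF : CohB1.IsFP F) (hflat : FlatMod.IsFlatOver f F) {W : Set X}
    (hW : IsOpen W) : IsOpen (f.base '' (W ∩ {x | f.asFiber x ∈ suppFib f F (f.base x)})) := by
  haveI : SheafOfModules.IsFinitePresentation.{u} F := hF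
  haveI : F.IsQuasicoherent := by
    obtain ⟨σ, -⟩ := SheafOfModules.IsFinitePresentation.exists_quasicoherentData.{u} F
    exact { nonempty_quasicoherentData := ⟨σ⟩ }
  rw [isOpen_iff_forall_mem_open]
  rintro _ ⟨x₀, ⟨hx₀W, hx₀⟩, rfl⟩
  obtain ⟨V, U, hV, hU, e, hx₀U⟩ := FlatSect.exists_chart f x₀
  letI := (f.appLE V U e).hom.toAlgebra
  letI : Module Γ(Y, V) Γ(F, U) := Module.compHom _ (f.appLE V U e).hom
  haveI : IsScalarTower Γ(Y, V) Γ(X, U) Γ(F, U) := IsScalarTower.of_algebraMap_smul fun _ _ => rfl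
  haveI : Algebra.FinitePresentation Γ(Y, V) Γ(X, U) := f.finitePresentation_appLE hV hU e
  haveI : Module.FinitePresentation Γ(X, U) Γ(F, U) := Props.QFP.finitePresentation_sections_of_isFP F hU
  haveI : Module.Flat Γ(Y, V) Γ(F, U) := FlatSect.flat_sections_of_isFlatOverAt f hV hU e F fun x _ => hflat x
  have hopen := isOpen_comap_image_support (A := Γ(Y, V)) Γ(F, U) (hW.preimage hU.fromSpec.continuous)
  have hcomm : ∀ P : PrimeSpectrum Γ(X, U), f (hU.fromSpec P) =
      hV.fromSpec (PrimeSpectrum.comap (algebraMap Γ(Y, V) Γ(X, U)) P) := fun P =>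
    (congr($(IsAffineOpen.SpecMap_appLE_fromSpec f hV hU e) P)).symm
  refine ⟨hV.fromSpec '' (PrimeSpectrum.comap (algebraMap Γ(Y, V) Γ(X, U)) ''
    (hU.fromSpec ⁻¹' W ∩ Module.support Γ(X, U) Γ(F, U))), ?_,
    hV.fromSpec.isOpenEmbedding.isOpenMap _ hopen, ?_⟩
  · rintro _ ⟨_, ⟨P, ⟨hPW, hP⟩, rfl⟩, rfl⟩
    have hPU : hU.fromSpec P ∈ U := hU.range_fromSpec.le ⟨P, rfl⟩
    have he : hU.primeIdealOf ⟨hU.fromSpec P, hPU⟩ = P :=
      hU.fromSpec.isOpenEmbedding.injective (hU.fromSpec_primeIdealOf _)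
    exact ⟨hU.fromSpec P, ⟨hPW, (mem_suppFib_iff_chart f F hV hU e inferInstance _ _ _ (f.fiberι_asFiber _) hPU).2
      (he.symm ▸ hP)⟩, hcomm P⟩
  · refine ⟨_, ⟨hU.primeIdealOf ⟨x₀, hx₀U⟩, ⟨?_,
      (mem_suppFib_iff_chart f F hV hU e inferInstance _ _ _ (f.fiberι_asFiber _) hx₀U).1 hx₀⟩, rfl⟩, ?_⟩
    · show hU.fromSpec _ ∈ W
      rw [hU.fromSpec_primeIdealOf]
      exact hx₀W
    · exact (hcomm _).symm.trans (congrArg f (hU.fromSpec_primeIdealOf ⟨x₀, hx₀U⟩))

end Scheme

end Groth.Agent.FibCodepth
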