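import Groth.Agent.FibCodepth.ConsLoci
import Groth.Agent.FibCodepth.FlatLoci
import Groth.Agent.FibCodepth.SuppComp
import Groth.Prelude.Def_CInt

/-!
# Local constructibility of fibrewise loci on schemes
-/

set_option autoImplicit false
set_option linter.style.haveILetI false

universe u

open CategoryTheory Limits AlgebraicGeometry IsLocalRing TensorProduct Topology
open Groth.Agent.AssSch.Stalk
open scoped Set.Notation

namespace Groth.Agent.FibCodepth

variable {X Y : Scheme.{u}} (f : X ⟶ Y) [LocallyOfFinitePresentation f]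

/-- Local constructibility can be read on affine charts. -/
theorem isLocallyConstructible_of_charts (P : X → Prop)
    (h : ∀ (V : Y.Opens) (U : X.Opens) (_ : IsAffineOpen V) (hU : IsAffineOpen U) (e : U ≤ f ⁻¹ᵁ V),
      letI := (f.appLE V U e).hom.toAlgebra
      ∀ (_ : Algebra.FinitePresentation Γ(Y, V) Γ(X, U)),
        ∃ O : Set (PrimeSpectrum Γ(X, U)), IsConstructible O ∧ ∀ x (hx : x ∈ U), P x ↔ hU.primeIdealOf ⟨x, hx⟩ ∈ O) :
    IsLocallyConstructible {x : X | P x} := by
  intro x
  obtain ⟨V, U, hV, hU, e, hxU⟩ := FlatSect.exists_chart f x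
  letI := (f.appLE V U e).hom.toAlgebra
  haveI : Algebra.FinitePresentation Γ(Y, V) Γ(X, U) := f.finitePresentation_appLE hV hU e
  obtain ⟨O, hO, hiff⟩ := h V U hV hU e inferInstance
  refine ⟨U, U.2.mem_nhds hxU, U.2, ?_⟩
  have heq : ((U : Set X) ↓∩ {x : X | P x}) = hU.isoSpec.hom ⁻¹' O := by
    ext y
    exact hiff y.1 y.2
  rw [heq]
  exact hO.preimage_of_isOpenEmbedding hU.isoSpec.hom.isOpenEmbedding

/-- The fibrewise `(S_k)` locus of a morphism locally of finite presentation. -/
theorem isLocallyConstructible_hasSk (k : ℕ) :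
    IsLocallyConstructible {x : X | LocCoh.HasSk k ((f.fiber (f.base x)).presheaf.stalk (f.asFiber x))
      ((f.fiber (f.base x)).presheaf.stalk (f.asFiber x))} := by
  refine isLocallyConstructible_of_charts f _ fun V U hV hU e hfp => ?_
  letI := (f.appLE V U e).hom.toAlgebra
  haveI := hfp
  exact ⟨_, (isConstructible_fibSk_codepthLE (A := Γ(Y, V)) (B := Γ(X, U)) Γ(X, U) k).1, fun x hx =>
    hasSk_ring_iff_chart f hV hU e inferInstance k (f.base x) (f.asFiber x) x (f.fiberι_asFiber x) hx⟩

/-- The fibrewise Cohen–Macaulay locus of a morphism locally of finite presentation. -/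
theorem isLocallyConstructible_cm :
    IsLocallyConstructible {x : X |
      LocCoh.IsCohenMacaulayLocalRing ((f.fiber (f.base x)).presheaf.stalk (f.asFiber x))} := by
  refine isLocallyConstructible_of_charts f _ fun V U hV hU e hfp => ?_
  letI := (f.appLE V U e).hom.toAlgebra
  haveI := hfp
  refine ⟨_, (isConstructible_fibSk_codepthLE (A := Γ(Y, V)) (B := Γ(X, U)) Γ(X, U) 0).2, fun x hx => ?_⟩
  haveI : LocallyOfFiniteType (f.fiberToSpecResidueField (f.base x)) :=
    MorphismProperty.of_isPullback (P := @LocallyOfFiniteType) (IsPullback.of_hasPullback f (Y.fromSpecResidueField (f.base x))) inferInstance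
  haveI : IsLocallyNoetherian (f.fiber (f.base x)) :=
    LocallyOfFiniteType.isLocallyNoetherian (f.fiberToSpecResidueField (f.base x))
  refine Iff.trans ?_ (codepth_ring_iff_chart f hV hU e 0 (f.base x) (f.asFiber x) x (f.fiberι_asFiber x) hx)
  rw [Depth.isCohenMacaulayLocalRing_iff, Nat.cast_zero, add_zero]
  constructor
  · intro h
    rw [← Module.supportDim_self_eq_ringKrullDim]
    exact le_of_eq h
  · intro h
    rw [← Module.supportDim_self_eq_ringKrullDim] at h
    exact le_antisymm h Depth.depth_le_supportDim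

/-- The levels of the fibrewise rectified depth. -/
theorem isLocallyConstructible_rectifiedDepth_eq (F : X.Modules) (hF : CohB1.IsFP F) (n : ℕ∞) :
    IsLocallyConstructible {x : X | ((CInt.fiberDepth f F x : ℕ∞) : WithBot ℕ∞) +
        topologicalKrullDim ↥(closure ({f.asFiber x} : Set ↥(f.fiber (f.base x)))) = ((n : ℕ∞) : WithBot ℕ∞)} := by
  haveI : SheafOfModules.IsFinitePresentation.{u} F := hF
  haveI : F.IsQuasicoherent := by
    obtain ⟨σ, -⟩ := SheafOfModules.IsFinitePresentation.exists_quasicoherentData.{u} F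
    exact { nonempty_quasicoherentData := ⟨σ⟩ }
  refine isLocallyConstructible_of_charts f _ fun V U hV hU e hfp => ?_
  letI := (f.appLE V U e).hom.toAlgebra
  haveI := hfp
  haveI : Module.FinitePresentation Γ(X, U) Γ(F, U) := Props.QFP.finitePresentation_sections_of_isFP F hU
  obtain ⟨hc, M, hM⟩ := isConstructible_rectGE (A := Γ(Y, V)) (B := Γ(X, U)) Γ(F, U)
  have key : ∀ x (hx : x ∈ U), ∃ d : ℕ∞,
      ((CInt.fiberDepth f F x : ℕ∞) : WithBot ℕ∞) +
          topologicalKrullDim ↥(closure ({f.asFiber x} : Set ↥(f.fiber (f.base x)))) = ((d : ℕ∞) : WithBot ℕ∞) ∧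
        ∀ m : ℕ, RectGE Γ(Y, V) Γ(X, U) Γ(F, U) m (hU.primeIdealOf ⟨x, hx⟩) ↔ (m : ℕ∞) ≤ d := by
    intro x hx
    obtain ⟨t, ht⟩ := exists_dim_closure f (f.base x) (f.asFiber x)
    refine ⟨CInt.fiberDepth f F x + t, by rw [ht]; rfl, fun m => ?_⟩
    refine (rectGE_iff_chart f hV hU e F inferInstance m (f.base x) (f.asFiber x) x (f.fiberι_asFiber x) hx).symm.trans ?_
    rw [ht, show (m : WithBot ℕ∞) = ((m : ℕ∞) : WithBot ℕ∞) from rfl,
      show (t : WithBot ℕ∞) = ((t : ℕ∞) : WithBot ℕ∞) from rfl, ← WithBot.coe_add, WithBot.coe_le_coe]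
    rfl
  induction n with
  | top =>
    refine ⟨_, hc M, fun x hx => ?_⟩
    obtain ⟨d, hd, hiff⟩ := key x hx
    rw [hd, WithBot.coe_inj, Set.mem_ofPred_eq]
    constructor
    · intro h
      rw [hiff, h]
      exact le_top
    · intro h
      exact ENat.eq_top_iff_forall_ge.2 fun m => (hiff m).1 (hM _ h m)
  | coe m =>
    refine ⟨_, (hc m).sdiff (hc (m + 1)), fun x hx => ?_⟩
    obtain ⟨d, hd, hiff⟩ := key x hx
    rw [hd, WithBot.coe_inj, Set.mem_sdiff, Set.mem_ofPred_eq, Set.mem_ofPred_eq, hiff, hiff]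
    induction d with
    | top => simp
    | coe d => norm_cast; omega

end Groth.Agent.FibCodepth
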