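import Groth.Agent.FibCodepth.Alg
import Groth.Agent.EGA4Lib.Hyperplane
import Groth.Agent.FlatMor.FibreStalk
import Groth.Agent.FlatOpen.SchemeMap
import Groth.Agent.FlatSect.Basic
import Groth.Agent.Props.QFP
import Groth.Agent.FDesc.Stalk
import Mathlib.RingTheory.Localization.BaseChange

/-!
# Openness of fibrewise codepth and (S_k) loci on schemes
-/

set_option autoImplicit false
set_option linter.style.haveILetI false

universe u

open CategoryTheory Limits AlgebraicGeometry IsLocalRing TensorProduct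
open Groth.Agent.AssSch.Stalk

namespace Groth.Agent.FibCodepth

theorem hasSk_tensor_algEquiv {B L L' : Type u} [CommRing B] [CommRing L] [CommRing L'] [Algebra B L]
    [Algebra B L'] (e : L ≃ₐ[B] L') (N : Type u) [AddCommGroup N] [Module B N] [Module.Finite B N] (k : ℕ)
    (h : LocCoh.HasSk k L' (L' ⊗[B] N)) : LocCoh.HasSk k L (L ⊗[B] N) := by
  letI : Algebra L L' := e.toRingHom.toAlgebra
  let f : L ≃ₗ[L] L' :=
    { e.toRingEquiv.toAddEquiv with
      map_smul' := fun r x => by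
        show e (r • x) = e r * e x
        rw [smul_eq_mul, map_mul] }
  haveI : IsScalarTower B L L' := IsScalarTower.of_algebraMap_eq fun b => (e.commutes b).symm
  exact EGA4Lib.hasSk_congr (AlgebraTensorModule.congr f (LinearEquiv.refl B N)).symm
    (EGA4Lib.hasSk_of_surjective (A := L) (A' := L') e.surjective (L' ⊗[B] N) h)

theorem exists_open_of_primeIdealOf {X : Scheme.{u}} {U : X.Opens} (hU : IsAffineOpen U)
    {O : Set (PrimeSpectrum Γ(X, U))} (hO : IsOpen O) :
    ∃ W : Set X, IsOpen W ∧ ∀ x (hx : x ∈ U), x ∈ W ↔ hU.primeIdealOf ⟨x, hx⟩ ∈ O := by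
  refine ⟨hU.fromSpec '' O, hU.fromSpec.isOpenEmbedding.isOpenMap _ hO, fun x hx => ?_⟩
  constructor
  · rintro ⟨q, hq, hqx⟩
    have h : q = hU.primeIdealOf ⟨x, hx⟩ :=
      hU.fromSpec.isOpenEmbedding.injective (hqx.trans (hU.fromSpec_primeIdealOf ⟨x, hx⟩).symm)
    exact h ▸ hq
  · exact fun h => ⟨_, h, hU.fromSpec_primeIdealOf ⟨x, hx⟩⟩

theorem nonempty_fibre_algEquiv {A B : Type u} [CommRing A] [CommRing B] [Algebra A B] [Algebra.FiniteType A B]
    (p : Ideal A) [p.IsPrime] (Q : PrimeSpectrum (p.Fiber B)) (z : Ideal B) [z.IsPrime] [z.LiesOver p]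
    (hz : Q.asIdeal.comap Algebra.TensorProduct.includeRight.toRingHom = z) :
    letI : Algebra B (p.Fiber B) := Algebra.TensorProduct.rightAlgebra
    Nonempty (Localization.AtPrime Q.asIdeal ≃ₐ[B] EGA4.FibLocRing A B z) := by
  letI : Algebra B (p.Fiber B) := Algebra.TensorProduct.rightAlgebra
  obtain ⟨ψ, hψs, hψk, hψc⟩ := RelDim.exists_localRingHom_fibre p z Q.asIdeal hz
  let e0 : EGA4.FibLocRing A B z ≃+* Localization.AtPrime Q.asIdeal :=
    (Ideal.quotEquivOfEq ((RelDim.map_fibre_eq p z).trans hψk.symm)).trans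
      (RingHom.quotientKerEquivOfSurjective hψs)
  exact ⟨(AlgEquiv.ofRingEquiv (f := e0) fun b => by
    show e0 (Ideal.Quotient.mk _ (algebraMap B (Localization.AtPrime z) b)) = _
    show ψ (algebraMap B (Localization.AtPrime z) b) = _
    rw [hψc, IsScalarTower.algebraMap_apply B (p.Fiber B) (Localization.AtPrime Q.asIdeal)]
    rfl).symm⟩

theorem nonempty_localized_baseChange {B F : Type u} [CommRing B] [CommRing F] [Algebra B F]
    (N : Type u) [AddCommGroup N] [Module B N] (Q : Ideal F) [Q.IsPrime] :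
    Nonempty (LocalizedModule Q.primeCompl (F ⊗[B] N) ≃ₗ[Localization.AtPrime Q]
      Localization.AtPrime Q ⊗[B] N) :=
  ⟨(LocalizedModule.equivTensorProduct Q.primeCompl (F ⊗[B] N)).trans
    (AlgebraTensorModule.cancelBaseChange B F (Localization.AtPrime Q) (Localization.AtPrime Q) N)⟩

section Chart

attribute [local instance] Algebra.TensorProduct.rightAlgebra

variable {X Y : Scheme.{u}} (f : X ⟶ Y) {V : Y.Opens} (hV : IsAffineOpen V) {U : X.Opens}
  (hU : IsAffineOpen U) (e : U ≤ f ⁻¹ᵁ V) (F : X.Modules) [F.IsQuasicoherent]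

/-- A fibre stalk as an algebra over the sections on an affine open. -/
@[reducible] noncomputable def fibreAlg (s : Y) (y : f.fiber s) (hx : f.fiberι s y ∈ U) :
    Algebra Γ(X, U) ((f.fiber s).presheaf.stalk y) :=
  (((f.fiberι s).stalkMap y).hom.comp (X.presheaf.germ U (f.fiberι s y) hx).hom).toAlgebra

omit [F.IsQuasicoherent] in
include hV hU in
/-- The fibre stalk, read on a chart. -/
theorem nonempty_fibre_ring_chart (s : Y) (y : f.fiber s) (hx : f.fiberι s y ∈ U) :
    letI := (f.appLE V U e).hom.toAlgebra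
    letI := fibreAlg f s y hx
    Nonempty (EGA4.FibLocRing Γ(Y, V) Γ(X, U) (primeOf hU (f.fiberι s y) hx) ≃ₐ[Γ(X, U)]
      (f.fiber s).presheaf.stalk y) := by
  letI := (f.appLE V U e).hom.toAlgebra
  let x := f.fiberι s y
  let q := primeOf hU x hx
  let T := X.presheaf.stalk x
  let S := (f.fiber s).presheaf.stalk y
  letI : Algebra Γ(X, U) T := (X.presheaf.germ U x hx).hom.toAlgebra
  haveI : IsLocalization.AtPrime T q := hU.isLocalization_stalk ⟨x, hx⟩
  letI : Algebra T S := ((f.fiberι s).stalkMap y).hom.toAlgebra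
  letI aS : Algebra Γ(X, U) S :=
    (((f.fiberι s).stalkMap y).hom.comp (X.presheaf.germ U x hx).hom).toAlgebra
  haveI : IsScalarTower Γ(X, U) T S := IsScalarTower.of_algebraMap_eq' rfl
  let ε : Localization.AtPrime q ≃ₐ[Γ(X, U)] T := IsLocalization.algEquiv q.primeCompl _ _
  let g : Localization.AtPrime q →ₐ[Γ(X, U)] S := (IsScalarTower.toAlgHom Γ(X, U) T S).comp ε.toAlgHom
  have hg : Function.Surjective g := ((f.fiberι s).stalkMap_surjective y).comp ε.surjective
  have hk : RingHom.ker (g : Localization.AtPrime q →+* S) =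
      (q.comap (algebraMap Γ(Y, V) Γ(X, U))).map (algebraMap Γ(Y, V) (Localization.AtPrime q)) := by
    have h1 : RingHom.ker (g : Localization.AtPrime q →+* S) =
        (RingHom.ker ((f.fiberι s).stalkMap y).hom).comap ε.toRingEquiv.toRingHom := rfl
    rw [h1, FlatMor.FibreStalk.ker_stalkMap_fiberι f s y,
      FlatOpen.Scheme.maximalIdeal_map_stalkMap f hV hU e x hx]
    have h2 : ((Ideal.comap (algebraMap Γ(Y, V) Γ(X, U)) q).map (algebraMap Γ(Y, V) (Localization.AtPrime q))).map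
        ε.toRingEquiv.toRingHom =
        (Ideal.comap (f.appLE V U e).hom q).map
          (((X.presheaf.germ U x hx).hom).comp (f.appLE V U e).hom) := by
      rw [Ideal.map_map]
      congr 1
      refine RingHom.ext fun a => ?_
      rw [RingHom.comp_apply, IsScalarTower.algebraMap_apply Γ(Y, V) Γ(X, U) (Localization.AtPrime q)]
      exact ε.commutes _
    rw [← Ideal.map_map] at *
    rw [← h2]
    exact Ideal.comap_map_of_bijective _ ε.toRingEquiv.bijective
  exact ⟨((Ideal.quotientEquivAlgOfEq Γ(X, U) hk.symm).trans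
    (Ideal.quotientKerAlgEquivOfSurjective hg))⟩

include hU in
/-- The fibre stalk of a module, read on a chart. -/
theorem nonempty_fibre_module_chart (s : Y) (y : f.fiber s) (hx : f.fiberι s y ∈ U) :
    letI := fibreAlg f s y hx
    Nonempty (((Scheme.Modules.pullback (f.fiberι s)).obj F).presheaf.stalk y ≃ₗ[(f.fiber s).presheaf.stalk y]
      (f.fiber s).presheaf.stalk y ⊗[Γ(X, U)] Γ(F, U)) := by
  let x := f.fiberι s y
  let q := primeOf hU x hx
  let T := X.presheaf.stalk x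
  let S := (f.fiber s).presheaf.stalk y
  letI : Algebra Γ(X, U) T := (X.presheaf.germ U x hx).hom.toAlgebra
  haveI : IsLocalization.AtPrime T q := hU.isLocalization_stalk ⟨x, hx⟩
  letI : Algebra T S := ((f.fiberι s).stalkMap y).hom.toAlgebra
  letI aS : Algebra Γ(X, U) S :=
    (((f.fiberι s).stalkMap y).hom.comp (X.presheaf.germ U x hx).hom).toAlgebra
  haveI : IsScalarTower Γ(X, U) T S := IsScalarTower.of_algebraMap_eq' rfl
  obtain ⟨e1, -⟩ := FDesc.Stalk.exists_stalk_equiv (f.fiberι s) F y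
  letI : Module Γ(X, U) (F.presheaf.stalk x) := Module.compHom _ (X.presheaf.germ U x hx).hom
  haveI : IsScalarTower Γ(X, U) T (F.presheaf.stalk x) := IsScalarTower.of_algebraMap_smul fun _ _ => rfl
  haveI := isLocalizedModule_germLinear F hU x hx
  have hbc : IsBaseChange T (germLinear F x hx) :=
    IsLocalizedModule.isBaseChange q.primeCompl T (germLinear F x hx)
  exact ⟨e1.symm.trans (((AlgebraTensorModule.congr (LinearEquiv.refl S S) hbc.equiv.symm)).trans
    (AlgebraTensorModule.cancelBaseChange Γ(X, U) T S S Γ(F, U)))⟩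

include hV hU in
theorem codepth_iff_chart (hF : Module.Finite Γ(X, U) Γ(F, U)) (k : ℕ) (s : Y) (y : f.fiber s) (x : X)
    (hxy : f.fiberι s y = x) (hx : x ∈ U) :
    letI := (f.appLE V U e).hom.toAlgebra
    Module.supportDim ((f.fiber s).presheaf.stalk y)
        (((Scheme.Modules.pullback (f.fiberι s)).obj F).presheaf.stalk y) ≤
      ((LocCoh.depth ((f.fiber s).presheaf.stalk y)
        (((Scheme.Modules.pullback (f.fiberι s)).obj F).presheaf.stalk y) : ℕ∞) : WithBot ℕ∞) + k ↔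
      CodepthLE Γ(Y, V) Γ(X, U) Γ(F, U) (primeOf hU x hx) k := by
  subst hxy
  letI := (f.appLE V U e).hom.toAlgebra
  haveI := hF
  haveI := isLocalRing_fibLocRing (A := Γ(Y, V)) (primeOf hU (f.fiberι s y) hx)
  letI := fibreAlg f s y hx
  obtain ⟨ε⟩ := nonempty_fibre_ring_chart f hV hU e s y hx
  obtain ⟨μ⟩ := nonempty_fibre_module_chart f hU F s y hx
  obtain ⟨h1, h2⟩ := EGA4Lib.depth_supportDim_congr μ
  obtain ⟨h3, h4⟩ := EGA4Lib.depth_supportDim_tensor_algEquiv ε Γ(F, U)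
  unfold CodepthLE
  rw [h1, h2, h3, h4]

include hV hU in
theorem hasSk_iff_chart (hft : LocallyOfFiniteType f) (hF : Module.Finite Γ(X, U) Γ(F, U)) (k : ℕ) (s : Y)
    (y : f.fiber s) (x : X) (hxy : f.fiberι s y = x) (hx : x ∈ U) :
    letI := (f.appLE V U e).hom.toAlgebra
    LocCoh.HasSk k ((f.fiber s).presheaf.stalk y)
        (((Scheme.Modules.pullback (f.fiberι s)).obj F).presheaf.stalk y) ↔
      FibSk Γ(Y, V) Γ(X, U) Γ(F, U) (hU.primeIdealOf ⟨x, hx⟩) k := by
  subst hxy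
  letI := (f.appLE V U e).hom.toAlgebra
  haveI : Algebra.FiniteType Γ(Y, V) Γ(X, U) := f.finiteType_appLE hV hU e
  haveI := hF
  set q := hU.primeIdealOf ⟨f.fiberι s y, hx⟩
  haveI := isLocalRing_fibLocRing (A := Γ(Y, V)) q.asIdeal
  let p := q.asIdeal.under Γ(Y, V)
  haveI : q.asIdeal.LiesOver p := ⟨rfl⟩
  letI := fibreAlg f s y hx
  obtain ⟨ε⟩ := nonempty_fibre_ring_chart f hV hU e s y hx
  obtain ⟨μ⟩ := nonempty_fibre_module_chart f hU F s y hx
  obtain ⟨Q, hQ⟩ := RelDim.exists_over Γ(Y, V) Γ(X, U) q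
  rw [fibSk_iff_hasSkAt Γ(F, U) q k Q hQ]
  obtain ⟨ψ⟩ := nonempty_fibre_algEquiv (A := Γ(Y, V)) p Q q.asIdeal hQ
  obtain ⟨μ'⟩ := nonempty_localized_baseChange (B := Γ(X, U)) Γ(F, U) Q.asIdeal
  constructor
  · intro h
    exact EGA4Lib.hasSk_congr μ'.symm
      (hasSk_tensor_algEquiv (ψ.trans ε) Γ(F, U) k (EGA4Lib.hasSk_congr μ h))
  · intro h
    exact EGA4Lib.hasSk_congr μ.symm
      (hasSk_tensor_algEquiv (ψ.trans ε).symm Γ(F, U) k (EGA4Lib.hasSk_congr μ' h))

omit [F.IsQuasicoherent] in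
include hV hU in
theorem hasSk_ring_iff_chart (hft : LocallyOfFiniteType f) (k : ℕ) (s : Y) (y : f.fiber s) (x : X)
    (hxy : f.fiberι s y = x) (hx : x ∈ U) :
    letI := (f.appLE V U e).hom.toAlgebra
    LocCoh.HasSk k ((f.fiber s).presheaf.stalk y) ((f.fiber s).presheaf.stalk y) ↔
      FibSk Γ(Y, V) Γ(X, U) Γ(X, U) (hU.primeIdealOf ⟨x, hx⟩) k := by
  subst hxy
  letI := (f.appLE V U e).hom.toAlgebra
  haveI : Algebra.FiniteType Γ(Y, V) Γ(X, U) := f.finiteType_appLE hV hU e
  set q := hU.primeIdealOf ⟨f.fiberι s y, hx⟩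
  haveI := isLocalRing_fibLocRing (A := Γ(Y, V)) q.asIdeal
  let p := q.asIdeal.under Γ(Y, V)
  haveI : q.asIdeal.LiesOver p := ⟨rfl⟩
  letI := fibreAlg f s y hx
  obtain ⟨ε⟩ := nonempty_fibre_ring_chart f hV hU e s y hx
  obtain ⟨Q, hQ⟩ := RelDim.exists_over Γ(Y, V) Γ(X, U) q
  rw [fibSk_iff_hasSkAt Γ(X, U) q k Q hQ]
  obtain ⟨ψ⟩ := nonempty_fibre_algEquiv (A := Γ(Y, V)) p Q q.asIdeal hQ
  obtain ⟨μ'⟩ := nonempty_localized_baseChange (B := Γ(X, U)) Γ(X, U) Q.asIdeal
  let μ : (f.fiber s).presheaf.stalk y ≃ₗ[(f.fiber s).presheaf.stalk y]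
      (f.fiber s).presheaf.stalk y ⊗[Γ(X, U)] Γ(X, U) :=
    (AlgebraTensorModule.rid Γ(X, U) ((f.fiber s).presheaf.stalk y) ((f.fiber s).presheaf.stalk y)).symm
  constructor
  · intro h
    exact EGA4Lib.hasSk_congr μ'.symm
      (hasSk_tensor_algEquiv (ψ.trans ε) Γ(X, U) k (EGA4Lib.hasSk_congr μ h))
  · intro h
    exact EGA4Lib.hasSk_congr μ.symm
      (hasSk_tensor_algEquiv (ψ.trans ε).symm Γ(X, U) k (EGA4Lib.hasSk_congr μ' h))

end Chart

section Global

variable {X Y : Scheme.{u}} (f : X ⟶ Y) [LocallyOfFinitePresentation f] (F : X.Modules)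

/-- EGA IV 12.1.1 (v) on schemes: fibrewise codepth of a flat module is upper semicontinuous. -/
theorem isOpen_codepth (hF : CohB1.IsFP F) (hflat : FlatMod.IsFlatOver f F) (k : ℕ) :
    IsOpen {x : X | Module.supportDim ((f.fiber (f.base x)).presheaf.stalk (f.asFiber x))
        (((Scheme.Modules.pullback (f.fiberι (f.base x))).obj F).presheaf.stalk (f.asFiber x)) ≤
      ((LocCoh.depth ((f.fiber (f.base x)).presheaf.stalk (f.asFiber x))
        (((Scheme.Modules.pullback (f.fiberι (f.base x))).obj F).presheaf.stalk (f.asFiber x)) : ℕ∞) :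
          WithBot ℕ∞) + k} := by
  haveI : SheafOfModules.IsFinitePresentation.{u} F := hF
  haveI : F.IsQuasicoherent := by
    obtain ⟨σ, -⟩ := SheafOfModules.IsFinitePresentation.exists_quasicoherentData.{u} F
    exact { nonempty_quasicoherentData := ⟨σ⟩ }
  rw [isOpen_iff_forall_mem_open]
  intro x₀ hx₀
  obtain ⟨V, U, hV, hU, e, hx₀U⟩ := FlatSect.exists_chart f x₀
  letI := (f.appLE V U e).hom.toAlgebra
  letI : Module Γ(Y, V) Γ(F, U) := Module.compHom _ (f.appLE V U e).hom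
  haveI : IsScalarTower Γ(Y, V) Γ(X, U) Γ(F, U) := IsScalarTower.of_algebraMap_smul fun _ _ => rfl
  haveI : Algebra.FinitePresentation Γ(Y, V) Γ(X, U) := f.finitePresentation_appLE hV hU e
  haveI : Module.FinitePresentation Γ(X, U) Γ(F, U) := Props.QFP.finitePresentation_sections_of_isFP F hU
  haveI : Module.Flat Γ(Y, V) Γ(F, U) := FlatSect.flat_sections_of_isFlatOverAt f hV hU e F fun x _ => hflat x
  have hopen := isOpen_codepthLE (A := Γ(Y, V)) (B := Γ(X, U)) Γ(F, U) k
  have hiff : ∀ x (hx : x ∈ U), _ ↔ CodepthLE Γ(Y, V) Γ(X, U) Γ(F, U) (primeOf hU x hx) k := fun x hx =>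
    codepth_iff_chart f hV hU e F inferInstance k (f.base x) (f.asFiber x) x (f.fiberι_asFiber x) hx
  obtain ⟨W, hW, hWm⟩ := exists_open_of_primeIdealOf hU hopen
  exact ⟨W ∩ U, fun x hx => (hiff x hx.2).2 ((hWm x hx.2).1 hx.1), hW.inter U.2,
    (hWm x₀ hx₀U).2 ((hiff x₀ hx₀U).1 hx₀), hx₀U⟩

/-- EGA IV 12.1.6 on schemes: the fibrewise `(S_k)` locus of a flat module is open. -/
theorem isOpen_hasSk (hF : CohB1.IsFP F) (hflat : FlatMod.IsFlatOver f F) (k : ℕ) :
    IsOpen {x : X | LocCoh.HasSk k ((f.fiber (f.base x)).presheaf.stalk (f.asFiber x))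
        (((Scheme.Modules.pullback (f.fiberι (f.base x))).obj F).presheaf.stalk (f.asFiber x))} := by
  haveI : SheafOfModules.IsFinitePresentation.{u} F := hF
  haveI : F.IsQuasicoherent := by
    obtain ⟨σ, -⟩ := SheafOfModules.IsFinitePresentation.exists_quasicoherentData.{u} F
    exact { nonempty_quasicoherentData := ⟨σ⟩ }
  rw [isOpen_iff_forall_mem_open]
  intro x₀ hx₀
  obtain ⟨V, U, hV, hU, e, hx₀U⟩ := FlatSect.exists_chart f x₀
  letI := (f.appLE V U e).hom.toAlgebra
  letI : Module Γ(Y, V) Γ(F, U) := Module.compHom _ (f.appLE V U e).hom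
  haveI : IsScalarTower Γ(Y, V) Γ(X, U) Γ(F, U) := IsScalarTower.of_algebraMap_smul fun _ _ => rfl
  haveI : Algebra.FinitePresentation Γ(Y, V) Γ(X, U) := f.finitePresentation_appLE hV hU e
  haveI : Module.FinitePresentation Γ(X, U) Γ(F, U) := Props.QFP.finitePresentation_sections_of_isFP F hU
  haveI : Module.Flat Γ(Y, V) Γ(F, U) := FlatSect.flat_sections_of_isFlatOverAt f hV hU e F fun x _ => hflat x
  have hopen := isOpen_fibSk (A := Γ(Y, V)) (B := Γ(X, U)) Γ(F, U) k
  have hiff : ∀ x (hx : x ∈ U), _ ↔ FibSk Γ(Y, V) Γ(X, U) Γ(F, U) (hU.primeIdealOf ⟨x, hx⟩) k := fun x hx =>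
    hasSk_iff_chart f hV hU e F inferInstance inferInstance k (f.base x) (f.asFiber x) x (f.fiberι_asFiber x) hx
  obtain ⟨W, hW, hWm⟩ := exists_open_of_primeIdealOf hU hopen
  exact ⟨W ∩ U, fun x hx => (hiff x hx.2).2 ((hWm x hx.2).1 hx.1), hW.inter U.2,
    (hWm x₀ hx₀U).2 ((hiff x₀ hx₀U).1 hx₀), hx₀U⟩

/-- EGA IV 12.1.6: for a flat morphism the fibrewise `(S_k)` locus is open. -/
theorem isOpen_hasSk_ring [Flat f] (k : ℕ) :
    IsOpen {x : X | LocCoh.HasSk k ((f.fiber (f.base x)).presheaf.stalk (f.asFiber x))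
      ((f.fiber (f.base x)).presheaf.stalk (f.asFiber x))} := by
  rw [isOpen_iff_forall_mem_open]
  intro x₀ hx₀
  obtain ⟨V, U, hV, hU, e, hx₀U⟩ := FlatSect.exists_chart f x₀
  letI := (f.appLE V U e).hom.toAlgebra
  haveI : Algebra.FinitePresentation Γ(Y, V) Γ(X, U) := f.finitePresentation_appLE hV hU e
  haveI : Module.Flat Γ(Y, V) Γ(X, U) := f.flat_appLE hV hU e
  have hopen := isOpen_fibSk (A := Γ(Y, V)) (B := Γ(X, U)) Γ(X, U) k
  have hiff : ∀ x (hx : x ∈ U), _ ↔ FibSk Γ(Y, V) Γ(X, U) Γ(X, U) (hU.primeIdealOf ⟨x, hx⟩) k := fun x hx =>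
    hasSk_ring_iff_chart f hV hU e inferInstance k (f.base x) (f.asFiber x) x (f.fiberι_asFiber x) hx
  obtain ⟨W, hW, hWm⟩ := exists_open_of_primeIdealOf hU hopen
  exact ⟨W ∩ U, fun x hx => (hiff x hx.2).2 ((hWm x hx.2).1 hx.1), hW.inter U.2,
    (hWm x₀ hx₀U).2 ((hiff x₀ hx₀U).1 hx₀), hx₀U⟩

/-- The fibre stalks of a finitely presented module are finite over Noetherian local rings. -/
theorem finite_fibre_stalk (hF : CohB1.IsFP F) (x : X) :
    IsNoetherianRing ((f.fiber (f.base x)).presheaf.stalk (f.asFiber x)) ∧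
      Module.Finite ((f.fiber (f.base x)).presheaf.stalk (f.asFiber x))
        (((Scheme.Modules.pullback (f.fiberι (f.base x))).obj F).presheaf.stalk (f.asFiber x)) := by
  haveI : LocallyOfFiniteType (f.fiberToSpecResidueField (f.base x)) :=
    MorphismProperty.of_isPullback (P := @LocallyOfFiniteType) (IsPullback.of_hasPullback f (Y.fromSpecResidueField (f.base x))) inferInstance
  haveI : IsLocallyNoetherian (f.fiber (f.base x)) :=
    LocallyOfFiniteType.isLocallyNoetherian (f.fiberToSpecResidueField (f.base x))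
  refine ⟨inferInstance, ?_⟩
  haveI : SheafOfModules.IsFinitePresentation.{u} F := hF
  haveI : F.IsQuasicoherent := by
    obtain ⟨σ, -⟩ := SheafOfModules.IsFinitePresentation.exists_quasicoherentData.{u} F
    exact { nonempty_quasicoherentData := ⟨σ⟩ }
  obtain ⟨V, U, hV, hU, e, hxU⟩ := FlatSect.exists_chart f x
  haveI : Module.FinitePresentation Γ(X, U) Γ(F, U) := Props.QFP.finitePresentation_sections_of_isFP F hU
  have hx' : f.fiberι (f.base x) (f.asFiber x) ∈ U := (f.fiberι_asFiber x).symm ▸ hxU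
  letI := fibreAlg f (f.base x) (f.asFiber x) hx'
  obtain ⟨μ⟩ := nonempty_fibre_module_chart f hU F (f.base x) (f.asFiber x) hx'
  exact Module.Finite.equiv μ.symm

end Global

end Groth.Agent.FibCodepth
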