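import Groth.Agent.FibCodepth.Ass
import Groth.Agent.FibCodepth.Scheme
import Groth.Agent.FibSemi.Dims
import Groth.Agent.FibBound.Basic
import Groth.Agent.QSect.Scheme
import Groth.Agent.FlatOpen.CMLocusScheme

/-!
# Associated points of fibres read on charts; their dimensions
-/

set_option autoImplicit false
set_option linter.style.haveILetI false

universe u

open CategoryTheory Limits AlgebraicGeometry IsLocalRing TensorProduct
open Groth.Agent.AssSch.Stalk

namespace Groth.Agent.FibCodepth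

theorem isAssociatedPrime_maximalIdeal_iff {R M : Type u} [CommRing R] [IsLocalRing R] [IsNoetherianRing R]
    [AddCommGroup M] [Module R M] [Module.Finite R M] :
    IsAssociatedPrime (IsLocalRing.maximalIdeal R) M ↔
      Module.supportDim R M ≠ ⊥ ∧ LocCoh.depth R M = 0 := by
  have h : LocCoh.depth R M = 0 ↔ ∃ p ∈ associatedPrimes R M, IsLocalRing.maximalIdeal R ≤ p :=
    Depth.idealDepth_eq_zero_iff
  rw [h]
  constructor
  · intro hm
    refine ⟨fun hb => ?_, ⟨_, hm, le_rfl⟩⟩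
    haveI := (Module.supportDim_eq_bot_iff_subsingleton R M).1 hb
    exact not_isAssociatedPrime_of_subsingleton hm
  · rintro ⟨-, p, hp, hle⟩
    rwa [(IsLocalRing.maximalIdeal.isMaximal R).eq_of_le (IsAssociatedPrime.isPrime hp).ne_top hle]

theorem trdegEQ_unique_exists {A B : Type u} [CommRing A] [CommRing B] [Algebra A B] [Algebra.FiniteType A B]
    (z : PrimeSpectrum B) : ∃ t, TrdegEQ A z t := by
  haveI : z.asIdeal.LiesOver (z.asIdeal.under A) := ⟨rfl⟩
  letI := resAlg (z.asIdeal.under A) z.asIdeal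
  haveI := resAlg_tower (z.asIdeal.under A) z.asIdeal
  obtain ⟨t, ht⟩ := RelDim.exists_trdeg_eq (z.asIdeal.under A) z.asIdeal
  refine ⟨t, ⟨t, le_rfl, ht⟩, fun ⟨t', ht', ht''⟩ => ?_⟩
  have : (t : Cardinal) = t' := ht.symm.trans ht''
  rw [Nat.cast_inj] at this
  omega

section Chart

variable {X Y : Scheme.{u}} (f : X ⟶ Y) {V : Y.Opens} (hV : IsAffineOpen V) {U : X.Opens}
  (hU : IsAffineOpen U) (e : U ≤ f ⁻¹ᵁ V)

theorem fiber_fiberι (s : Y) (w : f.fiber s) : f (f.fiberι s w) = s := by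
  have h2 : f.fiberι s w ∈ Set.range (f.fiberι s).base := ⟨w, rfl⟩
  rw [Scheme.Hom.range_fiberι] at h2
  exact h2

theorem primeIdealOf_le_iff {x x' : X} (hx : x ∈ U) (hx' : x' ∈ U) :
    (hU.primeIdealOf ⟨x', hx'⟩).asIdeal ≤ (hU.primeIdealOf ⟨x, hx⟩).asIdeal ↔ x' ⤳ x := by
  refine (PrimeSpectrum.le_iff_specializes _ _).trans ?_
  refine hU.fromSpec.isOpenEmbedding.isInducing.specializes_iff.symm.trans ?_
  rw [show hU.fromSpec (hU.primeIdealOf ⟨x', hx'⟩) = x' from hU.fromSpec_primeIdealOf _,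
    show hU.fromSpec (hU.primeIdealOf ⟨x, hx⟩) = x from hU.fromSpec_primeIdealOf _]

include hV e in
theorem primeIdealOf_under_eq_iff {x x' : X} (hx : x ∈ U) (hx' : x' ∈ U) :
    letI := (f.appLE V U e).hom.toAlgebra
    (hU.primeIdealOf ⟨x', hx'⟩).asIdeal.under Γ(Y, V) = (hU.primeIdealOf ⟨x, hx⟩).asIdeal.under Γ(Y, V) ↔
      f x' = f x := by
  letI := (f.appLE V U e).hom.toAlgebra
  have hcomm : ∀ P : PrimeSpectrum Γ(X, U), f (hU.fromSpec P) =
      hV.fromSpec (PrimeSpectrum.comap (algebraMap Γ(Y, V) Γ(X, U)) P) := fun P =>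
    (congr($(IsAffineOpen.SpecMap_appLE_fromSpec f hV hU e) P)).symm
  have h1 : f x = hV.fromSpec (PrimeSpectrum.comap (algebraMap Γ(Y, V) Γ(X, U)) (hU.primeIdealOf ⟨x, hx⟩)) :=
    (congrArg f (hU.fromSpec_primeIdealOf ⟨x, hx⟩).symm).trans (hcomm _)
  have h1' : f x' = hV.fromSpec (PrimeSpectrum.comap (algebraMap Γ(Y, V) Γ(X, U)) (hU.primeIdealOf ⟨x', hx'⟩)) :=
    (congrArg f (hU.fromSpec_primeIdealOf ⟨x', hx'⟩).symm).trans (hcomm _)
  constructor
  · intro h
    exact h1'.trans ((congrArg hV.fromSpec (PrimeSpectrum.ext h)).trans h1.symm)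
  · intro h
    exact congrArg PrimeSpectrum.asIdeal (hV.fromSpec.isOpenEmbedding.injective (h1'.symm.trans (h.trans h1)))

/-- Generizations in the fibre stay in the chart. -/
theorem mem_of_specializes_fibre {s : Y} {w y : f.fiber s} (h : w ⤳ y) {x : X} (hxy : f.fiberι s y = x)
    (hx : x ∈ U) : f.fiberι s w ∈ U :=
  (h.map (f.fiberι s).continuous).mem_open U.2 (hxy ▸ hx)

include hV e in
/-- The chart primes of the generizations in the fibre. -/
theorem exists_fibre_of_prime {s : Y} (y : f.fiber s) {x : X} (hxy : f.fiberι s y = x) (hx : x ∈ U)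
    (z : PrimeSpectrum Γ(X, U))
    (hzx : z.asIdeal ≤ (hU.primeIdealOf ⟨x, hx⟩).asIdeal)
    (hzp : letI := (f.appLE V U e).hom.toAlgebra
      z.asIdeal.under Γ(Y, V) = (hU.primeIdealOf ⟨x, hx⟩).asIdeal.under Γ(Y, V)) :
    ∃ (w : f.fiber s) (hw : f.fiberι s w ∈ U), w ⤳ y ∧ hU.primeIdealOf ⟨f.fiberι s w, hw⟩ = z := by
  subst hxy
  have hzU : hU.fromSpec z ∈ U := hU.range_fromSpec.le ⟨z, rfl⟩
  have hz : hU.primeIdealOf ⟨hU.fromSpec z, hzU⟩ = z :=
    hU.fromSpec.isOpenEmbedding.injective (hU.fromSpec_primeIdealOf _)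
  rw [← hz] at hzx hzp
  have hf := (primeIdealOf_under_eq_iff f hV hU e hx hzU).1 hzp
  have hsp := (primeIdealOf_le_iff hU hx hzU).1 hzx
  obtain ⟨w, hw⟩ : hU.fromSpec z ∈ Set.range (f.fiberι s).base := by
    rw [Scheme.Hom.range_fiberι]
    exact hf.trans (fiber_fiberι f s y)
  have hwU : f.fiberι s w ∈ U := hw.symm ▸ hzU
  refine ⟨w, hwU, (f.fiberι s).isEmbedding.specializes_iff.1 (by rw [show f.fiberι s w = hU.fromSpec z from hw]; exact hsp), ?_⟩
  rw [← hz]
  congr 1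
  exact Subtype.ext hw

include hV hU in
/-- A property of all generizations in a fibre, read on a chart. -/
theorem forall_gen_iff (P : PrimeSpectrum Γ(X, U) → Prop) {s : Y} (y : f.fiber s) {x : X}
    (hxy : f.fiberι s y = x) (hx : x ∈ U) :
    letI := (f.appLE V U e).hom.toAlgebra
    (∀ w : f.fiber s, ∀ hw : f.fiberι s w ∈ U, w ⤳ y → P (hU.primeIdealOf ⟨f.fiberι s w, hw⟩)) ↔
      ∀ z : PrimeSpectrum Γ(X, U), z.asIdeal ≤ (hU.primeIdealOf ⟨x, hx⟩).asIdeal →
        z.asIdeal.under Γ(Y, V) = (hU.primeIdealOf ⟨x, hx⟩).asIdeal.under Γ(Y, V) → P z := by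
  letI := (f.appLE V U e).hom.toAlgebra
  constructor
  · intro h z hzx hzp
    obtain ⟨w, hw, hwy, rfl⟩ := exists_fibre_of_prime f hV hU e y hxy hx z hzx hzp
    exact h w hw hwy
  · intro h w hw hwy
    subst hxy
    refine h _ ((primeIdealOf_le_iff hU hx hw).2 (hwy.map (f.fiberι s).continuous))
      ((primeIdealOf_under_eq_iff f hV hU e hx hw).2 ?_)
    rw [fiber_fiberι, fiber_fiberι]

include hV hU in
theorem ringKrullDim_fibre_stalk (s : Y) (y : f.fiber s) (x : X) (hxy : f.fiberι s y = x) (hx : x ∈ U) :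
    letI := (f.appLE V U e).hom.toAlgebra
    ringKrullDim ((f.fiber s).presheaf.stalk y) =
      ringKrullDim (EGA4.FibLocRing Γ(Y, V) Γ(X, U) (primeOf hU x hx)) := by
  subst hxy
  letI := (f.appLE V U e).hom.toAlgebra
  letI := fibreAlg f s y hx
  obtain ⟨ε⟩ := nonempty_fibre_ring_chart f hV hU e s y hx
  exact (ringKrullDim_eq_of_ringEquiv ε.toRingEquiv).symm

include hV hU in
/-- The dimension of the closure in the fibre is the transcendence degree. -/
theorem topDim_closure_fibre [LocallyOfFiniteType f] (s : Y) (y : f.fiber s) (x : X)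
    (hxy : f.fiberι s y = x) (hx : x ∈ U) (t : ℕ)
    (ht : letI := (f.appLE V U e).hom.toAlgebra
      TrdegEQ Γ(Y, V) (hU.primeIdealOf ⟨x, hx⟩) t) :
    topologicalKrullDim ↥(closure ({y} : Set ↥(f.fiber s))) = (t : WithBot ℕ∞) := by
  letI := (f.appLE V U e).hom.toAlgebra
  haveI : Algebra.FiniteType Γ(Y, V) Γ(X, U) := f.finiteType_appLE hV hU e
  obtain rfl : f x = s := hxy ▸ fiber_fiberι f s y
  obtain rfl : y = f.asFiber x :=
    (f.fiberι (f x)).isEmbedding.injective (hxy.trans (f.fiberι_asFiber x).symm)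
  obtain ⟨n, m, hn, hm, hdim⟩ := FibSemi.fibreDimAt_eq_add f x
  rw [QSect.topDim_closure_singleton, FibSemi.height_asFiber, hm]
  set q := hU.primeIdealOf ⟨x, hx⟩
  let p := q.asIdeal.under Γ(Y, V)
  haveI : q.asIdeal.LiesOver p := ⟨rfl⟩
  letI := resAlg p q.asIdeal
  haveI := resAlg_tower p q.asIdeal
  obtain ⟨t', ht'⟩ := RelDim.exists_trdeg_eq p q.asIdeal
  have htt : t = t' := by
    refine ht.eq ⟨⟨t', le_rfl, ht'⟩, fun ⟨t'', h1, h2⟩ => ?_⟩
    have : (t' : Cardinal) = t'' := ht'.symm.trans h2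
    rw [Nat.cast_inj] at this
    omega
  obtain ⟨Q, hQ⟩ := RelDim.exists_over Γ(Y, V) Γ(X, U) q
  have h2 := ringKrullDim_fibre_stalk f hV hU e (f x) (f.asFiber x) x hxy hx
  rw [ringKrullDim_stalk_eq_coheight, FibSemi.coheight_asFiber, hn] at h2
  rw [FlatOpen.CMLocus.fibreDimAt_eq_localDim f hV hU e x hx Q hQ,
    RelDim.localDim_eq_fibLocRing p q.asIdeal Q hQ t' ht',
    show ringKrullDim (EGA4.FibLocRing Γ(Y, V) Γ(X, U) q.asIdeal) = (n : WithBot ℕ∞) from h2.symm,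
    ← htt] at hdim
  have : n + t = n + m := by exact_mod_cast hdim
  rw [Nat.add_left_cancel this]

variable (F : X.Modules) [F.IsQuasicoherent]

include hV hU in
theorem depth_supportDim_fibre_chart (hF : Module.Finite Γ(X, U) Γ(F, U)) (s : Y) (y : f.fiber s) (x : X)
    (hxy : f.fiberι s y = x) (hx : x ∈ U) :
    letI := (f.appLE V U e).hom.toAlgebra
    haveI := isLocalRing_fibLocRing (A := Γ(Y, V)) (primeOf hU x hx)
    LocCoh.depth ((f.fiber s).presheaf.stalk y)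
        (((Scheme.Modules.pullback (f.fiberι s)).obj F).presheaf.stalk y) =
      LocCoh.depth (EGA4.FibLocRing Γ(Y, V) Γ(X, U) (primeOf hU x hx))
        (EGA4.FibLocRing Γ(Y, V) Γ(X, U) (primeOf hU x hx) ⊗[Γ(X, U)] Γ(F, U)) ∧
    Module.supportDim ((f.fiber s).presheaf.stalk y)
        (((Scheme.Modules.pullback (f.fiberι s)).obj F).presheaf.stalk y) =
      Module.supportDim (EGA4.FibLocRing Γ(Y, V) Γ(X, U) (primeOf hU x hx))
        (EGA4.FibLocRing Γ(Y, V) Γ(X, U) (primeOf hU x hx) ⊗[Γ(X, U)] Γ(F, U)) := by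
  subst hxy
  letI := (f.appLE V U e).hom.toAlgebra
  haveI := hF
  haveI := isLocalRing_fibLocRing (A := Γ(Y, V)) (primeOf hU (f.fiberι s y) hx)
  letI := fibreAlg f s y hx
  obtain ⟨ε⟩ := nonempty_fibre_ring_chart f hV hU e s y hx
  obtain ⟨μ⟩ := nonempty_fibre_module_chart f hU F s y hx
  obtain ⟨h1, h2⟩ := EGA4Lib.depth_supportDim_congr μ
  obtain ⟨h3, h4⟩ := EGA4Lib.depth_supportDim_tensor_algEquiv ε Γ(F, U)
  rw [h1, h2, h3, h4]
  exact ⟨rfl, rfl⟩

include hV hU in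
theorem mem_ass_iff_chart [LocallyOfFiniteType f] (hF : Module.Finite Γ(X, U) Γ(F, U)) (s : Y)
    (y : f.fiber s) (x : X) (hxy : f.fiberι s y = x) (hx : x ∈ U) :
    letI := (f.appLE V U e).hom.toAlgebra
    y ∈ AssSch.Ass ((Scheme.Modules.pullback (f.fiberι s)).obj F) ↔
      IsAssFib Γ(Y, V) Γ(X, U) Γ(F, U) (hU.primeIdealOf ⟨x, hx⟩) := by
  subst hxy
  letI := (f.appLE V U e).hom.toAlgebra
  haveI := hF
  haveI : LocallyOfFiniteType (f.fiberToSpecResidueField s) :=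
    MorphismProperty.of_isPullback (P := @LocallyOfFiniteType) (IsPullback.of_hasPullback f (Y.fromSpecResidueField s)) inferInstance
  haveI : IsLocallyNoetherian (f.fiber s) :=
    LocallyOfFiniteType.isLocallyNoetherian (f.fiberToSpecResidueField s)
  haveI : Module.Finite ((f.fiber s).presheaf.stalk y)
      (((Scheme.Modules.pullback (f.fiberι s)).obj F).presheaf.stalk y) := by
    letI := fibreAlg f s y hx
    obtain ⟨μ⟩ := nonempty_fibre_module_chart f hU F s y hx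
    exact Module.Finite.equiv μ.symm
  obtain ⟨h1, h2⟩ := depth_supportDim_fibre_chart f hV hU e F hF s y _ rfl hx
  refine (isAssociatedPrime_maximalIdeal_iff (R := (f.fiber s).presheaf.stalk y)).trans ?_
  rw [h1, h2]
  exact Iff.rfl

include hV hU in
theorem assDims_iff_chart [LocallyOfFiniteType f] (hF : Module.Finite Γ(X, U) Γ(F, U)) (Φ : Finset ℕ) (s : Y)
    (y : f.fiber s) (x : X) (hxy : f.fiberι s y = x) (hx : x ∈ U) :
    letI := (f.appLE V U e).hom.toAlgebra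
    (∀ w ∈ AssSch.Ass ((Scheme.Modules.pullback (f.fiberι s)).obj F), y ∈ closure {w} →
        ∃ n ∈ Φ, topologicalKrullDim ↥(closure ({w} : Set ↥(f.fiber s))) = (n : WithBot ℕ∞)) ↔
      AssDimsIn Γ(Y, V) Γ(X, U) Γ(F, U) Φ (hU.primeIdealOf ⟨x, hx⟩) := by
  letI := (f.appLE V U e).hom.toAlgebra
  haveI : Algebra.FiniteType Γ(Y, V) Γ(X, U) := f.finiteType_appLE hV hU e
  refine Iff.trans ?_ (forall_gen_iff f hV hU e
    (fun z => IsAssFib Γ(Y, V) Γ(X, U) Γ(F, U) z → ∃ m ∈ Φ, TrdegEQ Γ(Y, V) z m) y hxy hx)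
  constructor
  · intro h w hw hwy hass
    obtain ⟨t, ht⟩ := trdegEQ_unique_exists (A := Γ(Y, V)) (hU.primeIdealOf ⟨f.fiberι s w, hw⟩)
    obtain ⟨n, hn, hdim⟩ := h w ((mem_ass_iff_chart f hV hU e F hF s w _ rfl hw).2 hass) hwy.mem_closure
    rw [topDim_closure_fibre f hV hU e s w _ rfl hw t ht] at hdim
    rw [Nat.cast_inj] at hdim
    exact ⟨n, hn, hdim ▸ ht⟩
  · intro h w hass hwy
    have hwy' : w ⤳ y := specializes_iff_mem_closure.2 hwy
    have hw := mem_of_specializes_fibre f hwy' hxy hx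
    obtain ⟨m, hm, ht⟩ := h w hw hwy' ((mem_ass_iff_chart f hV hU e F hF s w _ rfl hw).1 hass)
    exact ⟨m, hm, topDim_closure_fibre f hV hU e s w _ rfl hw m ht⟩

include hV hU in
theorem noEmb_iff_chart [LocallyOfFiniteType f] (hF : Module.Finite Γ(X, U) Γ(F, U)) (s : Y)
    (y : f.fiber s) (x : X) (hxy : f.fiberι s y = x) (hx : x ∈ U) :
    letI := (f.appLE V U e).hom.toAlgebra
    (∀ w ∈ AssSch.Ass ((Scheme.Modules.pullback (f.fiberι s)).obj F), y ∈ closure {w} →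
        ∀ w' ∈ AssSch.Ass ((Scheme.Modules.pullback (f.fiberι s)).obj F), w ∈ closure {w'} → w' = w) ↔
      NoEmbFib Γ(Y, V) Γ(X, U) Γ(F, U) (hU.primeIdealOf ⟨x, hx⟩) := by
  letI := (f.appLE V U e).hom.toAlgebra
  refine Iff.trans ?_ (forall_gen_iff f hV hU e
    (fun z => IsAssFib Γ(Y, V) Γ(X, U) Γ(F, U) z → ∀ z' : PrimeSpectrum Γ(X, U), z'.asIdeal ≤ z.asIdeal →
      z'.asIdeal.under Γ(Y, V) = z.asIdeal.under Γ(Y, V) → IsAssFib Γ(Y, V) Γ(X, U) Γ(F, U) z' → z' = z) y hxy hx)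
  constructor
  · intro h w hw hwy hass z' hz'w hz'p hass'
    obtain ⟨w', hw', hw'w, rfl⟩ := exists_fibre_of_prime f hV hU e w rfl hw z' hz'w hz'p
    obtain rfl := h w ((mem_ass_iff_chart f hV hU e F hF s w _ rfl hw).2 hass) hwy.mem_closure w'
      ((mem_ass_iff_chart f hV hU e F hF s w' _ rfl hw').2 hass') hw'w.mem_closure
    rfl
  · intro h w hass hwy w' hass' hw'w
    have hwy' : w ⤳ y := specializes_iff_mem_closure.2 hwy
    have hw := mem_of_specializes_fibre f hwy' hxy hx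
    have hw'w' : w' ⤳ w := specializes_iff_mem_closure.2 hw'w
    have hw' := mem_of_specializes_fibre f hw'w' rfl hw
    have heq := h w hw hwy' ((mem_ass_iff_chart f hV hU e F hF s w _ rfl hw).1 hass) _
      ((primeIdealOf_le_iff hU hw hw').2 (hw'w'.map (f.fiberι s).continuous))
      ((primeIdealOf_under_eq_iff f hV hU e hw hw').2 (by rw [fiber_fiberι, fiber_fiberι]))
      ((mem_ass_iff_chart f hV hU e F hF s w' _ rfl hw').1 hass')
    refine (f.fiberι s).isEmbedding.injective ?_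
    have := congrArg hU.fromSpec heq
    rwa [hU.fromSpec_primeIdealOf, hU.fromSpec_primeIdealOf] at this

include hV hU in
theorem rectGE_iff_chart [LocallyOfFiniteType f] (hF : Module.Finite Γ(X, U) Γ(F, U)) (m : ℕ) (s : Y)
    (y : f.fiber s) (x : X) (hxy : f.fiberι s y = x) (hx : x ∈ U) :
    letI := (f.appLE V U e).hom.toAlgebra
    (m : WithBot ℕ∞) ≤ ((LocCoh.depth ((f.fiber s).presheaf.stalk y)
        (((Scheme.Modules.pullback (f.fiberι s)).obj F).presheaf.stalk y) : ℕ∞) : WithBot ℕ∞) +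
        topologicalKrullDim ↥(closure ({y} : Set ↥(f.fiber s))) ↔
      RectGE Γ(Y, V) Γ(X, U) Γ(F, U) m (hU.primeIdealOf ⟨x, hx⟩) := by
  letI := (f.appLE V U e).hom.toAlgebra
  haveI : Algebra.FiniteType Γ(Y, V) Γ(X, U) := f.finiteType_appLE hV hU e
  obtain ⟨h1, -⟩ := depth_supportDim_fibre_chart f hV hU e F hF s y x hxy hx
  obtain ⟨t, ht⟩ := trdegEQ_unique_exists (A := Γ(Y, V)) (hU.primeIdealOf ⟨x, hx⟩)
  rw [h1, topDim_closure_fibre f hV hU e s y x hxy hx t ht]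
  have hcast : ∀ d : ℕ∞, ((m : WithBot ℕ∞) ≤ (d : WithBot ℕ∞) + (t : WithBot ℕ∞)) ↔ (m : ℕ∞) ≤ d + t := by
    intro d
    rw [show (m : WithBot ℕ∞) = ((m : ℕ∞) : WithBot ℕ∞) from rfl,
      show (t : WithBot ℕ∞) = ((t : ℕ∞) : WithBot ℕ∞) from rfl, ← WithBot.coe_add, WithBot.coe_le_coe]
  rw [hcast]
  exact ⟨fun h t' ht' => (ht'.eq ht) ▸ h, fun h => h t ht⟩

end Chart

section Global

variable {X Y : Scheme.{u}} (f : X ⟶ Y) [LocallyOfFinitePresentation f] (F : X.Modules)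

/-- Openness of a pointwise condition follows from openness on flat charts. -/
theorem isOpen_of_charts (hF : CohB1.IsFP F) (hflat : FlatMod.IsFlatOver f F) (P : X → Prop)
    (h : ∀ (V : Y.Opens) (U : X.Opens) (_ : IsAffineOpen V) (hU : IsAffineOpen U) (e : U ≤ f ⁻¹ᵁ V),
      letI := (f.appLE V U e).hom.toAlgebra
      ∀ (_ : Algebra.FinitePresentation Γ(Y, V) Γ(X, U)) (_ : Module.FinitePresentation Γ(X, U) Γ(F, U))
        (_ : letI : Module Γ(Y, V) Γ(F, U) := Module.compHom _ (f.appLE V U e).hom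
          Module.Flat Γ(Y, V) Γ(F, U)) (_ : F.IsQuasicoherent),
      ∃ O : Set (PrimeSpectrum Γ(X, U)), IsOpen O ∧ ∀ x (hx : x ∈ U), P x ↔ hU.primeIdealOf ⟨x, hx⟩ ∈ O) :
    IsOpen {x : X | P x} := by
  haveI : SheafOfModules.IsFinitePresentation.{u} F := hF
  haveI : F.IsQuasicoherent := by
    obtain ⟨σ, -⟩ := SheafOfModules.IsFinitePresentation.exists_quasicoherentData.{u} F
    exact { nonempty_quasicoherentData := ⟨σ⟩ }
  rw [isOpen_iff_forall_mem_open]
  intro x₀ hx₀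
  obtain ⟨V, U, hV, hU, e, hx₀U⟩ := FlatSect.exists_chart f x₀
  letI := (f.appLE V U e).hom.toAlgebra
  letI : Module Γ(Y, V) Γ(F, U) := Module.compHom _ (f.appLE V U e).hom
  haveI : Algebra.FinitePresentation Γ(Y, V) Γ(X, U) := f.finitePresentation_appLE hV hU e
  haveI : Module.FinitePresentation Γ(X, U) Γ(F, U) := Props.QFP.finitePresentation_sections_of_isFP F hU
  haveI : Module.Flat Γ(Y, V) Γ(F, U) := FlatSect.flat_sections_of_isFlatOverAt f hV hU e F fun x _ => hflat x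
  obtain ⟨O, hO, hiff⟩ := h V U hV hU e inferInstance inferInstance inferInstance inferInstance
  obtain ⟨W, hW, hWm⟩ := exists_open_of_primeIdealOf hU hO
  exact ⟨W ∩ U, fun x hx => (hiff x hx.2).2 ((hWm x hx.2).1 hx.1), hW.inter U.2,
    (hWm x₀ hx₀U).2 ((hiff x₀ hx₀U).1 hx₀), hx₀U⟩

/-- EGA IV 12.1.1 (vi): lower semicontinuity of the rectified depth. -/
theorem isOpen_rectifiedDepth (hF : CohB1.IsFP F) (hflat : FlatMod.IsFlatOver f F) (m : ℕ) :
    IsOpen {x : X | (m : WithBot ℕ∞) ≤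
      ((LocCoh.depth ((f.fiber (f.base x)).presheaf.stalk (f.asFiber x))
        (((Scheme.Modules.pullback (f.fiberι (f.base x))).obj F).presheaf.stalk (f.asFiber x)) : ℕ∞) : WithBot ℕ∞) +
        topologicalKrullDim ↥(closure ({f.asFiber x} : Set ↥(f.fiber (f.base x))))} := by
  refine isOpen_of_charts f F hF hflat _ fun V U hV hU e _ _ hfl _ => ?_
  letI := (f.appLE V U e).hom.toAlgebra
  letI : Module Γ(Y, V) Γ(F, U) := Module.compHom _ (f.appLE V U e).hom
  haveI : IsScalarTower Γ(Y, V) Γ(X, U) Γ(F, U) := IsScalarTower.of_algebraMap_smul fun _ _ => rfl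
  haveI := hfl
  exact ⟨_, (isOpen_assLoci (A := Γ(Y, V)) (B := Γ(X, U)) Γ(F, U) ∅ m).2.2, fun x hx =>
    rectGE_iff_chart f hV hU e F inferInstance m (f.base x) (f.asFiber x) x (f.fiberι_asFiber x) hx⟩

/-- EGA IV 12.1.1 (iii): the dimensions of the associated points through a point. -/
theorem isOpen_assDims (hF : CohB1.IsFP F) (hflat : FlatMod.IsFlatOver f F) (Φ : Finset ℕ) :
    IsOpen {x : X | ∀ z ∈ AssSch.Ass ((Scheme.Modules.pullback (f.fiberι (f.base x))).obj F),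
      f.asFiber x ∈ closure {z} →
      ∃ n ∈ Φ, topologicalKrullDim ↥(closure ({z} : Set ↥(f.fiber (f.base x)))) = (n : WithBot ℕ∞)} := by
  refine isOpen_of_charts f F hF hflat _ fun V U hV hU e _ _ hfl _ => ?_
  letI := (f.appLE V U e).hom.toAlgebra
  letI : Module Γ(Y, V) Γ(F, U) := Module.compHom _ (f.appLE V U e).hom
  haveI : IsScalarTower Γ(Y, V) Γ(X, U) Γ(F, U) := IsScalarTower.of_algebraMap_smul fun _ _ => rfl
  haveI := hfl
  exact ⟨_, (isOpen_assLoci (A := Γ(Y, V)) (B := Γ(X, U)) Γ(F, U) Φ 0).1, fun x hx =>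
    assDims_iff_chart f hV hU e F inferInstance Φ (f.base x) (f.asFiber x) x (f.fiberι_asFiber x) hx⟩

/-- EGA IV 12.1.1 (iii): no embedded associated point through a point. -/
theorem isOpen_noEmb (hF : CohB1.IsFP F) (hflat : FlatMod.IsFlatOver f F) :
    IsOpen {x : X | ∀ z ∈ AssSch.Ass ((Scheme.Modules.pullback (f.fiberι (f.base x))).obj F),
      f.asFiber x ∈ closure {z} →
      ∀ z' ∈ AssSch.Ass ((Scheme.Modules.pullback (f.fiberι (f.base x))).obj F), z ∈ closure {z'} → z' = z} := by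
  refine isOpen_of_charts f F hF hflat _ fun V U hV hU e _ _ hfl _ => ?_
  letI := (f.appLE V U e).hom.toAlgebra
  letI : Module Γ(Y, V) Γ(F, U) := Module.compHom _ (f.appLE V U e).hom
  haveI : IsScalarTower Γ(Y, V) Γ(X, U) Γ(F, U) := IsScalarTower.of_algebraMap_smul fun _ _ => rfl
  haveI := hfl
  exact ⟨_, (isOpen_assLoci (A := Γ(Y, V)) (B := Γ(X, U)) Γ(F, U) ∅ 0).2.1, fun x hx =>
    noEmb_iff_chart f hV hU e F inferInstance (f.base x) (f.asFiber x) x (f.fiberι_asFiber x) hx⟩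

end Global

end Groth.Agent.FibCodepth
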