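import Groth.Agent.FibCodepth.CompDims
import Groth.Agent.FibCodepth.SchemeAss
import Groth.Agent.FibCodepth.SuppComp
import Groth.Agent.GrpScheme.OrbitDim
import Groth.Agent.LimTop.Cons
import Groth.Agent.FibCodepth.ConsScheme
import Groth.Agent.Fibres16.SuppOpen

/-!
# Dimensions of the components of the fibres of a constructible subset of a scheme
-/

set_option autoImplicit false
set_option linter.style.haveILetI false

universe u

open CategoryTheory Limits AlgebraicGeometry Topology TopologicalSpace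
open scoped Set.Notation

namespace Groth.Agent.FibCodepth

variable {X Y : Scheme.{u}} (f : X ⟶ Y)

/-- A point of a fibre in `Z` with no proper generization in `Z`. -/
def IsTopIn (Z : Set X) {s : Y} (w : ↥(f.fiber s)) : Prop :=
  f.fiberι s w ∈ Z ∧ ∀ w' : ↥(f.fiber s), f.fiberι s w' ∈ Z → w' ⤳ w → w' = w

theorem isTopIn_iff_chart {V : Y.Opens} (hV : IsAffineOpen V) {U : X.Opens} (hU : IsAffineOpen U)
    (e : U ≤ f ⁻¹ᵁ V) (Z : Set X) {s : Y} (w : ↥(f.fiber s)) (hw : f.fiberι s w ∈ U) :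
    letI := (f.appLE V U e).hom.toAlgebra
    IsTopIn f Z w ↔ IsTopPt Γ(Y, V) (hU.fromSpec ⁻¹' Z) (hU.primeIdealOf ⟨f.fiberι s w, hw⟩) := by
  letI := (f.appLE V U e).hom.toAlgebra
  have hmem : ∀ (x : X) (hx : x ∈ U), hU.primeIdealOf ⟨x, hx⟩ ∈ hU.fromSpec ⁻¹' Z ↔ x ∈ Z := fun x hx => by
    show hU.fromSpec (hU.primeIdealOf ⟨x, hx⟩) ∈ Z ↔ x ∈ Z
    rw [hU.fromSpec_primeIdealOf]
  have hinj : ∀ (x x' : X) (hx : x ∈ U) (hx' : x' ∈ U),
      hU.primeIdealOf ⟨x, hx⟩ = hU.primeIdealOf ⟨x', hx'⟩ → x = x' := fun x x' hx hx' h => by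
    exact (hU.fromSpec_primeIdealOf ⟨x, hx⟩).symm.trans ((congrArg hU.fromSpec h).trans (hU.fromSpec_primeIdealOf ⟨x', hx'⟩))
  refine and_congr (hmem _ hw).symm ?_
  refine Iff.trans ?_ (Iff.trans (forall_gen_iff f hV hU e
    (fun z => z ∈ hU.fromSpec ⁻¹' Z → z = hU.primeIdealOf ⟨f.fiberι s w, hw⟩) w rfl hw)
    ⟨fun h z hz hle hp => h z hle hp hz, fun h z hle hp hz => h z hz hle hp⟩)
  constructor
  · intro h w' hw' hsp hZ
    exact congrArg hU.primeIdealOf (Subtype.ext (congrArg (f.fiberι s) (h w' ((hmem _ hw').1 hZ) hsp)))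
  · intro h w' hZ hsp
    have hw' := mem_of_specializes_fibre f hsp rfl hw
    exact (f.fiberι s).isEmbedding.injective (hinj _ _ hw' hw (h w' hw' hsp ((hmem _ hw').2 hZ)))

variable [LocallyOfFinitePresentation f]

/-- The base points over which the fibre of `Z` has a component of given dimension. -/
theorem isLocallyConstructible_exists_topIn [QuasiCompact f] {Z : Set X} (hZ : IsLocallyConstructible Z) (j : ℕ) :
    IsLocallyConstructible {s : Y | ∃ w : ↥(f.fiber s), IsTopIn f Z w ∧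
      topologicalKrullDim ↥(closure ({w} : Set ↥(f.fiber s))) = (j : WithBot ℕ∞)} := by
  intro s₀
  obtain ⟨_, ⟨(V : Y.Opens), (hV : IsAffineOpen V), rfl⟩, hs₀, -⟩ :=
    Y.isBasis_affineOpens.exists_subset_of_mem_open (Set.mem_univ s₀) isOpen_univ
  have hcpt : IsCompact ((f ⁻¹ᵁ V : X.Opens) : Set X) :=
    QuasiCompact.isCompact_preimage (f := f) (V : Set Y) V.2 hV.isCompact
  obtain ⟨T, hTfin, hT⟩ : ∃ T : Set X.affineOpens, T.Finite ∧
      (f ⁻¹ᵁ V : Set X) = ⋃ U ∈ T, ((U : X.Opens) : Set X) := by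
    obtain ⟨T, hTfin, hT⟩ := isCompact_iff_finite_and_eq_biUnion_affineOpens.1 hcpt
    exact ⟨T, hTfin, by rw [hT]; simp⟩
  have hle : ∀ U ∈ T, (U : X.Opens) ≤ f ⁻¹ᵁ V := fun U hU x hx => by
    show x ∈ ((f ⁻¹ᵁ V : X.Opens) : Set X)
    rw [hT]
    exact Set.mem_biUnion hU hx
  refine ⟨V, V.2.mem_nhds hs₀, V.2, ?_⟩
  have key : ∀ U : T, ∃ O : Set (PrimeSpectrum Γ(Y, V)), IsConstructible O ∧ ∀ s (hs : s ∈ V),
      hV.primeIdealOf ⟨s, hs⟩ ∈ O ↔ ∃ w : ↥(f.fiber s), f.fiberι s w ∈ (U.1 : X.Opens) ∧ IsTopIn f Z w ∧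
        topologicalKrullDim ↥(closure ({w} : Set ↥(f.fiber s))) = (j : WithBot ℕ∞) := by
    rintro ⟨⟨U, (hU : IsAffineOpen U)⟩, hUT⟩
    have e : U ≤ f ⁻¹ᵁ V := hle _ hUT
    letI := (f.appLE V U e).hom.toAlgebra
    haveI : Algebra.FinitePresentation Γ(Y, V) Γ(X, U) := f.finitePresentation_appLE hV hU e
    refine ⟨compDimSet Γ(Y, V) (hU.fromSpec ⁻¹' Z) j, isConstructible_compDimSet Γ(Y, V)
      (hZ.preimage_of_isOpenEmbedding hU.fromSpec.isOpenEmbedding).isConstructible j, fun s hs => ?_⟩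
    have hunder : ∀ (x : X) (hx : x ∈ U), (hU.primeIdealOf ⟨x, hx⟩).asIdeal.under Γ(Y, V) =
        (hV.primeIdealOf ⟨f x, e hx⟩).asIdeal := fun x hx =>
      congrArg PrimeSpectrum.asIdeal (IsAffineOpen.comap_primeIdealOf_appLE V hV U hU e hx)
    constructor
    · rintro ⟨z, hz, hzp, ht⟩
      have hzU : hU.fromSpec z ∈ U := hU.range_fromSpec.le ⟨z, rfl⟩
      have hzz : hU.primeIdealOf ⟨hU.fromSpec z, hzU⟩ = z :=
        hU.fromSpec.isOpenEmbedding.injective (hU.fromSpec_primeIdealOf _)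
      have hfz : f (hU.fromSpec z) = s := by
        have h1 : hV.primeIdealOf ⟨f (hU.fromSpec z), e hzU⟩ = hV.primeIdealOf ⟨s, hs⟩ :=
          PrimeSpectrum.ext ((hunder _ hzU).symm.trans (by rw [hzz]; exact hzp))
        exact (hV.fromSpec_primeIdealOf ⟨f (hU.fromSpec z), e hzU⟩).symm.trans
          ((congrArg hV.fromSpec h1).trans (hV.fromSpec_primeIdealOf ⟨s, hs⟩))
      obtain ⟨w, hw⟩ : hU.fromSpec z ∈ Set.range (f.fiberι s).base := by
        rw [Scheme.Hom.range_fiberι]; exact hfz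
      have hwU : f.fiberι s w ∈ U := hw.symm ▸ hzU
      have hwz : hU.primeIdealOf ⟨f.fiberι s w, hwU⟩ = z :=
        hzz ▸ congrArg hU.primeIdealOf (Subtype.ext hw)
      exact ⟨w, hwU, (isTopIn_iff_chart f hV hU e Z w hwU).2 (hwz.symm ▸ hz),
        topDim_closure_fibre f hV hU e s w _ rfl hwU j (hwz.symm ▸ ht)⟩
    · rintro ⟨w, hwU, hw, hdim⟩
      refine ⟨_, (isTopIn_iff_chart f hV hU e Z w hwU).1 hw, (hunder _ hwU).trans ?_, ?_⟩
      · congr 2
        exact Subtype.ext (fiber_fiberι f s w)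
      · obtain ⟨t, ht⟩ := trdegEQ_unique_exists (A := Γ(Y, V)) (hU.primeIdealOf ⟨f.fiberι s w, hwU⟩)
        have h := (topDim_closure_fibre f hV hU e s w _ rfl hwU t ht).symm.trans hdim
        rw [Nat.cast_inj] at h
        exact h ▸ ht
  choose O hO hiff using key
  haveI := hTfin.to_subtype
  have heq : ((V : Set Y) ↓∩ {s : Y | ∃ w : ↥(f.fiber s), IsTopIn f Z w ∧
      topologicalKrullDim ↥(closure ({w} : Set ↥(f.fiber s))) = (j : WithBot ℕ∞)}) =
      hV.isoSpec.hom ⁻¹' ⋃ U : T, O U := by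
    ext ⟨s, hs⟩
    show (∃ w : ↥(f.fiber s), _) ↔ hV.primeIdealOf ⟨s, hs⟩ ∈ ⋃ U : T, O U
    simp only [Set.mem_iUnion, hiff _ s hs]
    constructor
    · rintro ⟨w, hw, hdim⟩
      have hmem : f.fiberι s w ∈ ((f ⁻¹ᵁ V : X.Opens) : Set X) := by
        show f (f.fiberι s w) ∈ V
        rw [fiber_fiberι]; exact hs
      rw [hT] at hmem
      obtain ⟨U, hU, hwU⟩ := Set.mem_iUnion₂.1 hmem
      exact ⟨⟨U, hU⟩, w, hwU, hw, hdim⟩
    · rintro ⟨U, w, -, hw, hdim⟩
      exact ⟨w, hw, hdim⟩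
  rw [heq]
  exact (IsConstructible.iUnion hO).preimage_of_isOpenEmbedding hV.isoSpec.hom.isOpenEmbedding

/-- Locally on the base the fibre dimensions are bounded. -/
theorem exists_nhd_bound [QuasiCompact f] (s₀ : Y) :
    ∃ (V : Y.Opens) (N : ℕ), s₀ ∈ V ∧ ∀ s ∈ V, ∀ (w : ↥(f.fiber s)) (j : ℕ),
      topologicalKrullDim ↥(closure ({w} : Set ↥(f.fiber s))) = (j : WithBot ℕ∞) → j ≤ N := by
  obtain ⟨_, ⟨(V : Y.Opens), (hV : IsAffineOpen V), rfl⟩, hs₀, -⟩ :=
    Y.isBasis_affineOpens.exists_subset_of_mem_open (Set.mem_univ s₀) isOpen_univ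
  have hcpt : IsCompact ((f ⁻¹ᵁ V : X.Opens) : Set X) :=
    QuasiCompact.isCompact_preimage (f := f) (V : Set Y) V.2 hV.isCompact
  obtain ⟨T, hTfin, hT⟩ := isCompact_iff_finite_and_eq_biUnion_affineOpens.1 hcpt
  have hle : ∀ U ∈ T, (U : X.Opens) ≤ f ⁻¹ᵁ V := fun U hU => hT ▸ le_biSup (fun i : X.affineOpens => (i : X.Opens)) hU
  have key : ∀ U : T, ∃ N : ℕ, ∀ s, ∀ (w : ↥(f.fiber s)), f.fiberι s w ∈ (U.1 : X.Opens) → ∀ j : ℕ,
      topologicalKrullDim ↥(closure ({w} : Set ↥(f.fiber s))) = (j : WithBot ℕ∞) → j ≤ N := by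
    rintro ⟨⟨U, (hU : IsAffineOpen U)⟩, hUT⟩
    have e : U ≤ f ⁻¹ᵁ V := hle _ hUT
    letI := (f.appLE V U e).hom.toAlgebra
    haveI : Algebra.FinitePresentation Γ(Y, V) Γ(X, U) := f.finitePresentation_appLE hV hU e
    obtain ⟨N, hN⟩ := exists_trdegGE_bound Γ(Y, V) Γ(X, U)
    refine ⟨N, fun s w hwU j hdim => ?_⟩
    obtain ⟨t, ht⟩ := trdegEQ_unique_exists (A := Γ(Y, V)) (hU.primeIdealOf ⟨f.fiberι s w, hwU⟩)
    have h := (topDim_closure_fibre f hV hU e s w _ rfl hwU t ht).symm.trans hdim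
    rw [Nat.cast_inj] at h
    exact h ▸ hN _ t ht.1
  choose N hN using key
  haveI := hTfin.fintype
  refine ⟨V, Finset.univ.sup N, hs₀, fun s hs w j hdim => ?_⟩
  have hmem : f.fiberι s w ∈ f ⁻¹ᵁ V := by
    show f (f.fiberι s w) ∈ V
    rw [fiber_fiberι]; exact hs
  rw [hT] at hmem
  simp only [Opens.mem_iSup, exists_prop] at hmem
  obtain ⟨U, hU, hwU⟩ := hmem
  exact (hN ⟨U, hU⟩ s w hwU j hdim).trans (Finset.le_sup (Finset.mem_univ _))

/-- Level sets of a locally bounded set-valued function with constructible membership loci. -/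
theorem isLocallyConstructible_level {S : Type*} [TopologicalSpace S] (P : ℕ → Set S)
    (hP : ∀ j, IsLocallyConstructible (P j))
    (hb : ∀ s₀ : S, ∃ (V : Set S) (N : ℕ), IsOpen V ∧ s₀ ∈ V ∧ ∀ s ∈ V, ∀ j, s ∈ P j → j ≤ N)
    (Ψ : Set ℕ) : IsLocallyConstructible {s : S | {j | s ∈ P j} = Ψ} := by
  classical
  intro s₀
  obtain ⟨V, N, hVo, hs₀, hN⟩ := hb s₀
  have h : IsLocallyConstructible ((V ↓∩ {s : S | {j | s ∈ P j} = Ψ})) := by
    by_cases hΨ : ∀ j ∈ Ψ, j ≤ N
    · have heq : (V ↓∩ {s : S | {j | s ∈ P j} = Ψ}) =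
          (Subtype.val : V → S) ⁻¹' ⋂ j : Fin (N + 1), (if (j : ℕ) ∈ Ψ then P j else (P j)ᶜ) := by
        ext ⟨s, hs⟩
        simp only [Set.mem_preimage, Set.mem_ofPred_eq, Set.mem_iInter]
        constructor
        · intro h j
          split_ifs with hj
          · exact h.superset hj
          · exact fun hsj => hj (h.subset hsj)
        · intro h
          ext j
          show s ∈ P j ↔ j ∈ Ψ
          rcases Nat.lt_or_ge N j with hj | hj
          · exact iff_of_false (fun h' => absurd (hN s hs j h') (by omega)) fun h' => absurd (hΨ j h') (by omega)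
          · have := h ⟨j, by omega⟩
            split_ifs at this with hjΨ
            · exact iff_of_true this hjΨ
            · exact iff_of_false this hjΨ
      rw [heq]
      refine IsLocallyConstructible.preimage_of_isOpenEmbedding (IsLocallyConstructible.iInter fun j => ?_)
        hVo.isOpenEmbedding_subtypeVal
      split_ifs
      · exact hP j
      · exact LimTop.isLocallyConstructible_compl (hP j)
    · push Not at hΨ
      obtain ⟨j, hj, hjN⟩ := hΨ
      have heq : (V ↓∩ {s : S | {j | s ∈ P j} = Ψ}) = ∅ := by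
        refine Set.eq_empty_of_forall_notMem ?_
        rintro ⟨s, hs⟩ h
        exact absurd (hN s hs j (Set.ext_iff.1 h j |>.2 hj)) (by omega)
      rw [heq]
      exact IsLocallyConstructible.empty
  obtain ⟨U, hU, hUo, hcons⟩ := h ⟨s₀, hs₀⟩
  refine ⟨Subtype.val '' U, hVo.isOpenEmbedding_subtypeVal.isOpenMap.image_mem_nhds hU,
    hVo.isOpenEmbedding_subtypeVal.isOpenMap _ hUo, ?_⟩
  let e : ↥(Subtype.val '' U) ≃ₜ ↥U := ((IsEmbedding.subtypeVal (p := (· ∈ V))).homeomorphImage U).symm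
  have hpre : ((Subtype.val '' U) ↓∩ {s : S | {j | s ∈ P j} = Ψ}) = e ⁻¹' (U ↓∩ (V ↓∩ {s : S | {j | s ∈ P j} = Ψ})) := by
    ext x
    obtain ⟨y, rfl⟩ := e.symm.surjective x
    rw [Set.mem_preimage, Set.mem_preimage, e.apply_symm_apply]
    exact Iff.rfl
  rw [hpre]
  exact hcons.preimage_of_isOpenEmbedding e.isOpenEmbedding

section Topology

variable {F : Scheme.{u}} {k : Type u} [Field k] (g : F ⟶ Spec (CommRingCat.of k)) [LocallyOfFiniteType g]

include g in
/-- The dimensions of the components of a locally closed subset are those of the closures of its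
maximal points. -/
theorem dims_components_locallyClosed {L : Set F} (hL : IsLocallyClosed L) :
    (fun T : Set ↥L => topologicalKrullDim ↥T) '' irreducibleComponents ↥L =
      (fun x : F => topologicalKrullDim ↥(closure ({x} : Set F))) ''
        {x | x ∈ L ∧ ∀ x' ∈ L, x' ⤳ x → x' = x} := by
  letI : F.Over (Spec (CommRingCat.of k)) := ⟨g⟩
  haveI : LocallyOfFiniteType (F ↘ Spec (CommRingCat.of k)) := inferInstanceAs (LocallyOfFiniteType g)
  haveI : QuasiSober ↥L := GrpScheme.OrbitDim.quasiSober_of_isLocallyClosed hL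
  have hcl : ∀ a : ↥L, closure ({a} : Set ↥L) = Subtype.val ⁻¹' closure {(a : F)} := fun a => by
    rw [IsInducing.subtypeVal.closure_eq_preimage_closure_image, Set.image_singleton]
  have hdim : ∀ a : ↥L, topologicalKrullDim ↥(closure ({a} : Set ↥L)) =
      topologicalKrullDim ↥(closure ({(a : F)} : Set F)) := by
    intro a
    have hdim1 : ∀ s : Set F, IsLocallyClosed s → (a : F) ∈ s → s ⊆ closure {(a : F)} →
        topologicalKrullDim ↥s = (VarDim.dimPt k F (a : F) : WithBot ℕ∞) := by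
      intro s hs has hsub
      refine le_antisymm (GrpScheme.OrbitDim.topDim_le k hs fun x hx => ?_) (GrpScheme.OrbitDim.le_topDim k hs has)
      exact (VarDim.exists_ltSeries_of_le k (specializes_iff_mem_closure.2 (hsub hx) : x ≤ (a : F))).1
    rw [hdim1 (closure {(a : F)}) isClosed_closure.isLocallyClosed (subset_closure rfl) le_rfl,
      ← hdim1 (L ∩ closure {(a : F)}) (hL.inter isClosed_closure.isLocallyClosed) ⟨a.2, subset_closure rfl⟩
        Set.inter_subset_right, hcl a]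
    refine (IsHomeomorph.topologicalKrullDim_eq _
      (IsEmbedding.subtypeVal.homeomorphImage (Subtype.val ⁻¹' closure {(a : F)})).isHomeomorph).trans ?_
    rw [Subtype.image_preimage_coe]
  ext d
  constructor
  · rintro ⟨T, hT, rfl⟩
    obtain ⟨a, ha⟩ := QuasiSober.sober hT.1 (isClosed_of_mem_irreducibleComponents T hT)
    refine ⟨a, ⟨a.2, fun z hz hza => ?_⟩, (hdim a).symm.trans (by rw [ha.def])⟩
    have hsub : T ⊆ closure {(⟨z, hz⟩ : ↥L)} := by
      rw [← ha.def]
      exact closure_minimal (Set.singleton_subset_iff.2 (by rw [hcl]; exact hza.mem_closure)) isClosed_closure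
    have heq : closure {(⟨z, hz⟩ : ↥L)} = T :=
      (hT.2 isIrreducible_singleton.closure hsub).antisymm hsub
    exact congrArg Subtype.val ((show IsGenericPoint (⟨z, hz⟩ : ↥L) T from heq).eq ha)
  · rintro ⟨x, ⟨hx, hmax⟩, rfl⟩
    refine ⟨closure {(⟨x, hx⟩ : ↥L)}, ⟨isIrreducible_singleton.closure, fun T hT hsub => ?_⟩, hdim ⟨x, hx⟩⟩
    obtain ⟨a, ha⟩ := QuasiSober.sober hT.closure isClosed_closure
    have hax : a ⤳ (⟨x, hx⟩ : ↥L) := ha.specializes (subset_closure (hsub (subset_closure rfl)))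
    rw [← (Subtype.ext (hmax a a.2 (hax.map continuous_subtype_val)) : a = ⟨x, hx⟩), ha.def]
    exact subset_closure

end Topology

theorem exists_dim_closure' [LocallyOfFiniteType f] (s : Y) (w : ↥(f.fiber s)) :
    ∃ n : ℕ, topologicalKrullDim ↥(closure ({w} : Set ↥(f.fiber s))) = (n : WithBot ℕ∞) :=
  exists_dim_closure f s w

/-- EGA IV 9.5.5: the level sets of the component dimensions of the fibres of a constructible set. -/
theorem isLocallyConstructible_topDims_eq [QuasiCompact f] {Z : Set X} (hZ : IsLocallyConstructible Z)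
    (Φ : Set (WithBot ℕ∞)) :
    IsLocallyConstructible {s : Y | (fun w : ↥(f.fiber s) => topologicalKrullDim ↥(closure ({w} : Set ↥(f.fiber s)))) ''
      {w | IsTopIn f Z w} = Φ} := by
  by_cases hΦ : Φ ⊆ Set.range fun j : ℕ => (j : WithBot ℕ∞)
  · let P : ℕ → Set Y := fun j => {s : Y | ∃ w : ↥(f.fiber s), IsTopIn f Z w ∧
      topologicalKrullDim ↥(closure ({w} : Set ↥(f.fiber s))) = (j : WithBot ℕ∞)}
    have h := isLocallyConstructible_level P (fun j => isLocallyConstructible_exists_topIn f hZ j) (fun s₀ => by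
      obtain ⟨V, N, hs₀, hN⟩ := exists_nhd_bound f s₀
      exact ⟨V, N, V.2, hs₀, fun s hs j ⟨w, _, hdim⟩ => hN s hs w j hdim⟩) ((fun j : ℕ => (j : WithBot ℕ∞)) ⁻¹' Φ)
    convert h using 1
    ext s
    constructor
    · intro hs
      ext j
      show (∃ w, IsTopIn f Z w ∧ _) ↔ (j : WithBot ℕ∞) ∈ Φ
      rw [← hs]
      exact Iff.rfl
    · intro hs
      refine Set.Subset.antisymm ?_ fun d hd => ?_
      · rintro _ ⟨w, hw, rfl⟩
        obtain ⟨n, hn⟩ := exists_dim_closure f s w
        have := hs.subset (show n ∈ {j | s ∈ P j} from ⟨w, hw, hn⟩)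
        dsimp only
        rw [hn]
        exact this
      · obtain ⟨j, rfl⟩ := hΦ hd
        exact hs.superset (show j ∈ _ from hd)
  · convert IsLocallyConstructible.empty (X := Y) using 1
    refine Set.eq_empty_of_forall_notMem fun s hs => hΦ ?_
    rw [← show _ = Φ from hs]
    rintro _ ⟨w, -, rfl⟩
    obtain ⟨n, hn⟩ := exists_dim_closure f s w
    exact ⟨n, hn.symm⟩

end Groth.Agent.FibCodepth

namespace Groth.Agent.FibCodepth

theorem dims_components_homeo {α β : Type u} [TopologicalSpace α] [TopologicalSpace β] (e : α ≃ₜ β) :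
    (fun T : Set α => topologicalKrullDim ↥T) '' irreducibleComponents α =
      (fun T : Set β => topologicalKrullDim ↥T) '' irreducibleComponents β := by
  have h : ∀ {α β : Type u} [TopologicalSpace α] [TopologicalSpace β] (e : α ≃ₜ β),
      (fun T : Set α => topologicalKrullDim ↥T) '' irreducibleComponents α ⊆
        (fun T : Set β => topologicalKrullDim ↥T) '' irreducibleComponents β := by
    rintro α β _ _ e _ ⟨T, hT, rfl⟩
    refine ⟨e '' T, ⟨hT.1.image e e.continuous.continuousOn, fun U hU hsub => ?_⟩,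
      (IsHomeomorph.topologicalKrullDim_eq _ (e.isEmbedding.homeomorphImage T).isHomeomorph).symm⟩
    have h := hT.2 (hU.image e.symm e.symm.continuous.continuousOn)
      (fun x hx => ⟨e x, hsub ⟨x, hx, rfl⟩, e.symm_apply_apply x⟩)
    exact fun y hy => ⟨e.symm y, h ⟨y, hy, rfl⟩, e.apply_symm_apply y⟩
  exact Set.Subset.antisymm (h e) (h e.symm)

variable {X Y : Scheme.{u}} (f : X ⟶ Y) [LocallyOfFiniteType f]

/-- The component dimensions of a fibre of `Z`, read in the scheme-theoretic fibre. -/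
theorem dims_components_inter_fibre (Z : Set X) (s : Y)
    (hs : IsLocallyClosed (Subtype.val ⁻¹' Z : Set ↥(⇑f ⁻¹' {s}))) :
    (fun T : Set ↥(Z ∩ ⇑f ⁻¹' {s}) => topologicalKrullDim ↥T) '' irreducibleComponents ↥(Z ∩ ⇑f ⁻¹' {s}) =
      (fun w : ↥(f.fiber s) => topologicalKrullDim ↥(closure ({w} : Set ↥(f.fiber s)))) ''
        {w | IsTopIn f Z w} := by
  haveI : LocallyOfFiniteType (f.fiberToSpecResidueField s) :=
    MorphismProperty.of_isPullback (P := @LocallyOfFiniteType)
      (IsPullback.of_hasPullback f (Y.fromSpecResidueField s)) inferInstance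
  have hL : IsLocallyClosed ((f.fiberι s).base ⁻¹' Z) := hs.preimage (f.fiberHomeo s).continuous
  let e : ↥((f.fiberι s).base ⁻¹' Z) ≃ₜ ↥(Z ∩ ⇑f ⁻¹' {s}) :=
    ((f.fiberι s).isEmbedding.homeomorphImage _).trans (Homeomorph.setCongr (by
      rw [Set.image_preimage_eq_inter_range]
      exact congrArg (Z ∩ ·) (f.range_fiberι s)))
  rw [← dims_components_homeo e,
    @dims_components_locallyClosed (f.fiber s) (Y.residueField s) _ (f.fiberToSpecResidueField s) this _ hL]
  rfl

end Groth.Agent.FibCodepth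

namespace Groth.Agent.FibCodepth

variable {X Y : Scheme.{u}} (f : X ⟶ Y) [LocallyOfFinitePresentation f] (F : X.Modules)

/-- The union of the supports of the fibres is locally constructible. -/
theorem isLocallyConstructible_suppFib (hF : CohB1.IsFP F) :
    IsLocallyConstructible {x : X | f.asFiber x ∈ suppFib f F (f.base x)} := by
  haveI : SheafOfModules.IsFinitePresentation.{u} F := hF
  haveI : F.IsQuasicoherent := by
    obtain ⟨σ, -⟩ := SheafOfModules.IsFinitePresentation.exists_quasicoherentData.{u} F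
    exact { nonempty_quasicoherentData := ⟨σ⟩ }
  refine isLocallyConstructible_of_charts f _ fun V U hV hU e hfp => ?_
  haveI : Module.FinitePresentation Γ(X, U) Γ(F, U) := Props.QFP.finitePresentation_sections_of_isFP F hU
  exact ⟨_, Fibres16.SuppOpen.isConstructible_support (B := Γ(X, U)) Γ(F, U), fun x hx =>
    mem_suppFib_iff_chart f F hV hU e inferInstance (f.base x) (f.asFiber x) x (f.fiberι_asFiber x) hx⟩

omit [LocallyOfFinitePresentation f] in
theorem mem_suppFib_iff_of_fiberι (s : Y) (w : ↥(f.fiber s)) :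
    w ∈ suppFib f F s ↔ f.fiberι s w ∈ {x : X | f.asFiber x ∈ suppFib f F (f.base x)} := by
  show _ ↔ f.asFiber (f.fiberι s w) ∈ suppFib f F (f.base (f.fiberι s w))
  generalize hx : f.fiberι s w = x
  obtain rfl : f x = s := hx ▸ fiber_fiberι f s w
  obtain rfl : w = f.asFiber x := (f.fiberι (f x)).isEmbedding.injective (hx.trans (f.fiberι_asFiber x).symm)
  exact Iff.rfl

/-- EGA IV 9.8.5: the dimensions of the components of the supports of the fibres of a module. -/
theorem isLocallyConstructible_suppDims_eq [QuasiCompact f] (hF : CohB1.IsFP F) (Φ : Set (WithBot ℕ∞)) :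
    IsLocallyConstructible {s : Y | (fun T : Set ↥(suppFib f F s) => topologicalKrullDim ↥T) ''
      irreducibleComponents ↥(suppFib f F s) = Φ} := by
  convert isLocallyConstructible_topDims_eq f (isLocallyConstructible_suppFib f F hF) Φ using 1
  ext s
  haveI : LocallyOfFiniteType (f.fiberToSpecResidueField s) :=
    MorphismProperty.of_isPullback (P := @LocallyOfFiniteType)
      (IsPullback.of_hasPullback f (Y.fromSpecResidueField s)) inferInstance
  rw [Set.mem_ofPred_eq, Set.mem_ofPred_eq, @dims_components_locallyClosed (f.fiber s) (Y.residueField s) _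
    (f.fiberToSpecResidueField s) this _ (isClosed_suppFib f F hF s).isLocallyClosed]
  have : {w : ↥(f.fiber s) | w ∈ suppFib f F s ∧ ∀ x' ∈ suppFib f F s, x' ⤳ w → x' = w} =
      {w | IsTopIn f {x : X | f.asFiber x ∈ suppFib f F (f.base x)} w} := by
    ext w
    simp only [IsTopIn, Set.mem_ofPred_eq, mem_suppFib_iff_of_fiberι f F s]
  rw [this]

end Groth.Agent.FibCodepth
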