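import Groth.Agent.FibCodepth.CompDimsScheme

/-!
# Fibrewise specialization of a constructible set; fibre components through a point
-/

set_option autoImplicit false
set_option linter.style.haveILetI false

universe u

open CategoryTheory AlgebraicGeometry TensorProduct IsLocalRing Topology

namespace Groth.Agent.FibCodepth

variable (A : Type u) {B : Type u} [CommRing A] [CommRing B] [Algebra A B]

/-- The fibrewise specializations of the points of `Z`. -/
def hullSet (Z : Set (PrimeSpectrum B)) : Set (PrimeSpectrum B) :=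
  {x | ∃ z ∈ Z, z.asIdeal ≤ x.asIdeal ∧ z.asIdeal.under A = x.asIdeal.under A}

/-- The fibrewise specializations of the points of `Z` of transcendence degree at least `c`. -/
def hullGE (Z : Set (PrimeSpectrum B)) (c : ℕ) : Set (PrimeSpectrum B) :=
  {x | ∃ z ∈ Z, z.asIdeal ≤ x.asIdeal ∧ z.asIdeal.under A = x.asIdeal.under A ∧ TrdegGE A z c}

theorem hullGE_zero [Algebra.FiniteType A B] (Z : Set (PrimeSpectrum B)) : hullGE A Z 0 = hullSet A Z :=
  Set.ext fun _ => ⟨fun ⟨z, hz, h1, h2, _⟩ => ⟨z, hz, h1, h2⟩, fun ⟨z, hz, h1, h2⟩ => ⟨z, hz, h1, h2, trdegGE_zero z⟩⟩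

theorem gset_eq_hullGE [Algebra.FiniteType A B] {W : Set (PrimeSpectrum B)} (hW : IsClosed W) (c : ℕ) :
    gset A W c = hullGE A W c :=
  Set.ext fun x => (mem_gset_iff hW c x).trans
    ⟨fun ⟨z, h1, h2, h3, h4⟩ => ⟨z, h3, h1, h2, h4⟩, fun ⟨z, h3, h1, h2, h4⟩ => ⟨z, h1, h2, h3, h4⟩⟩

theorem exists_isConstructible_hullGE [IsDomain A] [IsNoetherianRing A] [Algebra.FiniteType A B]
    {Z : Set (PrimeSpectrum B)} (hZ : IsConstructible Z) (c : ℕ) :
    ∃ g : A, g ≠ 0 ∧
      IsConstructible (hullGE A Z c ∩ PrimeSpectrum.basicOpen (algebraMap A B g)) := by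
  obtain ⟨g, hg, hiff⟩ := exists_isTopPt_iff_closure A hZ
  refine ⟨g, hg, ?_⟩
  haveI : IsNoetherianRing B := Algebra.FiniteType.isNoetherianRing A B
  have h : IsConstructible (closure Z ∩ PrimeSpectrum.basicOpen (algebraMap A B g)) := by
    rw [← compl_compl (closure Z)]
    exact ((TopologicalSpace.NoetherianSpace.isCompact _).isConstructible isClosed_closure.isOpen_compl).compl.inter
      ((TopologicalSpace.NoetherianSpace.isCompact _).isConstructible (PrimeSpectrum.basicOpen _).2)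
  have h' := h.inter (show IsConstructible (gset A (closure Z) c) by
    rw [← compl_compl (gset A (closure Z) c)]
    exact ((TopologicalSpace.NoetherianSpace.isCompact _).isConstructible
      (isClosed_gset (A := A) isClosed_closure c).isOpen_compl).compl)
  convert h' using 1
  ext x
  simp only [Set.mem_inter_iff]
  refine ⟨?_, ?_⟩
  · rintro ⟨⟨z, hz, hzx, hzp, ht⟩, hgx⟩
    exact ⟨⟨((PrimeSpectrum.le_iff_specializes z x).1 hzx).mem_closed isClosed_closure (subset_closure hz), hgx⟩,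
      (mem_gset_iff isClosed_closure c x).2 ⟨z, hzx, hzp, subset_closure hz, ht⟩⟩
  · rintro ⟨⟨-, hgx⟩, hx⟩
    obtain ⟨z, hzx, hzp, hzW, ht⟩ := (mem_gset_iff isClosed_closure c x).1 hx
    obtain ⟨v, hv, hvz, hvp⟩ := exists_isTopPt_le A isClosed_closure hzW
    exact ⟨⟨v, ((hiff v fun h => hgx ((hvz.trans hzx) h)).2 hv).1, hvz.trans hzx, hvp.trans hzp,
      trdegGE_of_le hvz hvp ht⟩, hgx⟩

section Invariance

variable (A₀ : Type u) {A' P₀ P : Type u} [CommRing A₀] [CommRing A'] [CommRing P₀] [CommRing P] [Algebra A₀ A']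
  [Algebra A₀ P₀] [Algebra A' P] [Algebra P₀ P] [Algebra A₀ P] [IsScalarTower A₀ A' P] [IsScalarTower A₀ P₀ P]
  [Algebra.IsPushout A₀ A' P₀ P] [Algebra.FiniteType A₀ P₀]

theorem hullGE_baseChange (Z₀ : Set (PrimeSpectrum P₀)) (c : ℕ) :
    hullGE A' (PrimeSpectrum.comap (algebraMap P₀ P) ⁻¹' Z₀) c =
      PrimeSpectrum.comap (algebraMap P₀ P) ⁻¹' hullGE A₀ Z₀ c := by
  ext x
  constructor
  · rintro ⟨z, hz, hzx, hzp, ht⟩
    refine ⟨_, hz, Ideal.comap_mono hzx, ?_, trdegGE_comap A₀ A' ht⟩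
    rw [under_comap A₀ A', under_comap A₀ A', hzp]
  · rintro ⟨z₀, hz, hle, hp, ht⟩
    obtain ⟨z, hzx, hzp, hcz, hzt⟩ := exists_gen_over A₀ A' x z₀ hle hp ht
    subst hcz
    exact ⟨z, hz, hzx, hzp, hzt⟩

end Invariance

section Constructible

variable {R₀ : Type u} [CommRing R₀] [IsNoetherianRing R₀] [Algebra R₀ B] [Algebra.FiniteType R₀ B]

attribute [local instance] Algebra.TensorProduct.rightAlgebra in
theorem isConstructible_hullGE_noetherian {Z : Set (PrimeSpectrum B)} (hZ : IsConstructible Z) (c : ℕ) :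
    IsConstructible (hullGE R₀ Z c) := by
  haveI : IsNoetherianRing B := Algebra.FiniteType.isNoetherianRing R₀ B
  have H : ∀ I : Ideal R₀, IsConstructible (hullGE R₀ Z c ∩
      PrimeSpectrum.zeroLocus (I.map (algebraMap R₀ B) : Set B)) := by
    intro I
    induction I using WellFoundedGT.induction with
    | ind I ih =>
      by_cases htop : I = ⊤
      · rw [htop, Ideal.map_top, PrimeSpectrum.zeroLocus_empty_iff_eq_top.2 rfl, Set.inter_empty]
        exact IsConstructible.empty
      by_cases hprime : I.IsPrime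
      swap
      · obtain ⟨a, ha, b, hb, hab⟩ := (Ideal.not_isPrime_iff.1 hprime).resolve_left htop
        have h : PrimeSpectrum.zeroLocus (I.map (algebraMap R₀ B) : Set B) =
            PrimeSpectrum.zeroLocus ((I ⊔ Ideal.span {a}).map (algebraMap R₀ B) : Set B) ∪
              PrimeSpectrum.zeroLocus ((I ⊔ Ideal.span {b}).map (algebraMap R₀ B) : Set B) := by
          ext q
          simp only [PrimeSpectrum.mem_zeroLocus, Set.mem_union, SetLike.coe_subset_coe, Ideal.map_le_iff_le_comap,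
            sup_le_iff, Ideal.span_singleton_le_iff_mem]
          constructor
          · intro hq
            exact ((q.isPrime.comap _).mem_or_mem (hq hab)).imp (fun h => ⟨hq, h⟩) fun h => ⟨hq, h⟩
          · rintro (⟨h, -⟩ | ⟨h, -⟩) <;> exact h
        rw [h, Set.inter_union_distrib_left]
        exact (ih _ (Submodule.lt_sup_iff_notMem.2 ha)).union (ih _ (Submodule.lt_sup_iff_notMem.2 hb))
      let c₁ := PrimeSpectrum.comap (algebraMap B ((R₀ ⧸ I) ⊗[R₀] B))
      have hZ₁ : IsConstructible (c₁ ⁻¹' Z) := by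
        obtain ⟨D, hD⟩ := PrimeSpectrum.exists_constructibleSetData_iff.2 hZ
        rw [← hD, ← PrimeSpectrum.ConstructibleSetData.toSet_map]
        exact PrimeSpectrum.ConstructibleSetData.isConstructible_toSet _
      obtain ⟨g', hg', hcons⟩ := exists_isConstructible_hullGE (R₀ ⧸ I) hZ₁ c
      obtain ⟨g, rfl⟩ := Ideal.Quotient.mk_surjective g'
      have hg : g ∉ I := fun h => hg' (Ideal.Quotient.eq_zero_iff_mem.2 h)
      have hinc : ∀ z, algebraMap (R₀ ⧸ I) ((R₀ ⧸ I) ⊗[R₀] B) (Ideal.Quotient.mk I g) ∈ PrimeSpectrum.asIdeal z ↔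
          algebraMap R₀ B g ∈ (c₁ z).asIdeal := by
        intro z
        show _ ↔ algebraMap B ((R₀ ⧸ I) ⊗[R₀] B) (algebraMap R₀ B g) ∈ z.asIdeal
        rw [← IsScalarTower.algebraMap_apply R₀ B, IsScalarTower.algebraMap_apply R₀ (R₀ ⧸ I), Ideal.Quotient.algebraMap_eq]
      have hfp : (algebraMap B ((R₀ ⧸ I) ⊗[R₀] B)).FinitePresentation := by
        haveI : Algebra.FiniteType B ((R₀ ⧸ I) ⊗[R₀] B) :=
          Algebra.FiniteType.equiv inferInstance (Algebra.IsPushout.equiv R₀ B (R₀ ⧸ I) ((R₀ ⧸ I) ⊗[R₀] B))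
        exact RingHom.finitePresentation_algebraMap.2 (Algebra.FinitePresentation.of_finiteType.1 inferInstance)
      have himg := PrimeSpectrum.isConstructible_comap_image hfp hcons
      have hsplit : hullGE R₀ Z c ∩ PrimeSpectrum.zeroLocus (I.map (algebraMap R₀ B) : Set B) =
          c₁ '' (hullGE (R₀ ⧸ I) (c₁ ⁻¹' Z) c ∩
            PrimeSpectrum.basicOpen (algebraMap (R₀ ⧸ I) ((R₀ ⧸ I) ⊗[R₀] B) (Ideal.Quotient.mk I g))) ∪
            (hullGE R₀ Z c ∩ PrimeSpectrum.zeroLocus
              ((I ⊔ Ideal.span {g}).map (algebraMap R₀ B) : Set B)) := by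
        rw [hullGE_baseChange R₀ (A' := R₀ ⧸ I) (P₀ := B) (P := (R₀ ⧸ I) ⊗[R₀] B) Z c]
        ext q
        simp only [Set.mem_inter_iff, Set.mem_union, Set.mem_image, Set.mem_preimage, PrimeSpectrum.mem_zeroLocus,
          SetLike.coe_subset_coe, Ideal.map_sup, sup_le_iff, Ideal.map_span, Set.image_singleton,
          Ideal.span_singleton_le_iff_mem]
        constructor
        · rintro ⟨hbad, hI⟩
          by_cases hgq : algebraMap R₀ B g ∈ q.asIdeal
          · exact Or.inr ⟨hbad, hI, hgq⟩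
          obtain ⟨p', hp'⟩ : (⟨q.asIdeal.under R₀, inferInstance⟩ : PrimeSpectrum R₀) ∈
              Set.range (PrimeSpectrum.comap (Ideal.Quotient.mk I)) := by
            rw [range_comap_of_surjective _ _ Ideal.Quotient.mk_surjective, Ideal.mk_ker]
            exact Ideal.map_le_iff_le_comap.1 hI
          obtain ⟨z, -, hz⟩ := exists_point_over R₀ (R₀ ⧸ I) (P₀ := B) (P := (R₀ ⧸ I) ⊗[R₀] B) p' q
            (congrArg PrimeSpectrum.asIdeal hp')
          refine Or.inl ⟨z, ⟨by rw [hz]; exact hbad, fun h => hgq ?_⟩, hz⟩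
          rw [← hz]
          exact (hinc z).1 h
        · rintro (⟨z, ⟨hbad, -⟩, rfl⟩ | ⟨hbad, hI, -⟩)
          · refine ⟨hbad, Ideal.map_le_iff_le_comap.2 fun a ha => ?_⟩
            show algebraMap B ((R₀ ⧸ I) ⊗[R₀] B) (algebraMap R₀ B a) ∈ z.asIdeal
            rw [← IsScalarTower.algebraMap_apply R₀ B, IsScalarTower.algebraMap_apply R₀ (R₀ ⧸ I),
              Ideal.Quotient.algebraMap_eq, Ideal.Quotient.eq_zero_iff_mem.2 ha, map_zero]
            exact zero_mem _
          · exact ⟨hbad, hI⟩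
      rw [hsplit]
      exact himg.union (ih _ (Submodule.lt_sup_iff_notMem.2 hg))
  simpa using H ⊥

end Constructible

section General

attribute [local instance] MvPolynomial.algebraMvPolynomial

open FlatOpen

theorem isConstructible_hullGE_poly {n : ℕ}
    {Z : Set (PrimeSpectrum (MvPolynomial (Fin n) A))} (hZ : IsConstructible Z) (c : ℕ) :
    IsConstructible (hullGE A Z c) := by
  classical
  obtain ⟨D, rfl⟩ := PrimeSpectrum.exists_constructibleSetData_iff.2 hZ
  let cs : Finset A := D.biUnion fun C => C.f.coeffs ∪ Finset.univ.biUnion fun i => (C.g i).coeffs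
  let A₀ := Algebra.adjoin ℤ (cs : Set A)
  haveI : IsNoetherianRing A₀ := isNoetherianRing_of_fg ⟨cs, rfl⟩
  let φ : MvPolynomial (Fin n) A₀ →+* MvPolynomial (Fin n) A := algebraMap _ _
  have hrange : ∀ q : MvPolynomial (Fin n) A, q.coeffs ⊆ cs → ∃ q₀, φ q₀ = q := fun q hq =>
    MvPolynomial.mem_range_map_iff_coeffs_subset.2 fun x hx => ⟨⟨x, Algebra.subset_adjoin (hq hx)⟩, rfl⟩
  have hbasic : ∀ C ∈ D, ∃ C₀ : PrimeSpectrum.BasicConstructibleSetData (MvPolynomial (Fin n) A₀), C₀.map φ = C := by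
    intro C hC
    obtain ⟨f₀, hf₀⟩ := hrange C.f fun x hx => Finset.mem_biUnion.2 ⟨C, hC, Finset.mem_union_left _ hx⟩
    choose g₀ hg₀ using fun i => hrange (C.g i) fun x hx =>
      Finset.mem_biUnion.2 ⟨C, hC, Finset.mem_union_right _ (Finset.mem_biUnion.2 ⟨i, Finset.mem_univ i, hx⟩)⟩
    refine ⟨⟨f₀, C.n, g₀⟩, ?_⟩
    cases C
    simp only [PrimeSpectrum.BasicConstructibleSetData.map, hf₀]
    congr 1
    exact funext hg₀
  haveI : Nonempty (PrimeSpectrum.BasicConstructibleSetData (MvPolynomial (Fin n) A₀)) := ⟨⟨0, 0, Fin.elim0⟩⟩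
  choose! C₀ hC₀ using hbasic
  let D₀ : PrimeSpectrum.ConstructibleSetData (MvPolynomial (Fin n) A₀) := D.image C₀
  have hD : D₀.map φ = D := by
    simp only [D₀, PrimeSpectrum.ConstructibleSetData.map, Finset.image_image]
    exact (Finset.image_congr hC₀).trans Finset.image_id'
  rw [← hD, PrimeSpectrum.ConstructibleSetData.toSet_map,
    hullGE_baseChange A₀ (A' := A) (P₀ := MvPolynomial (Fin n) A₀) (P := MvPolynomial (Fin n) A)]
  refine (isConstructible_hullGE_noetherian (R₀ := A₀) D₀.isConstructible_toSet c).preimage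
    (PrimeSpectrum.continuous_comap _) fun s hs _ => ?_
  obtain ⟨T, hT⟩ := (PrimeSpectrum.isCompact_isOpen_iff_ideal).1 ⟨TopologicalSpace.NoetherianSpace.isCompact s, hs⟩
  rw [QuasiSeparatedSpace.isRetrocompact_iff_isCompact (hs.preimage (PrimeSpectrum.continuous_comap _)), ← hT.2,
    Set.preimage_compl, PrimeSpectrum.preimage_comap_zeroLocus, ← PrimeSpectrum.zeroLocus_span]
  exact (PrimeSpectrum.isCompact_isOpen_iff_ideal.2 ⟨_, ⟨hT.1.map _, rfl⟩⟩).1

/-- The fibrewise specializations of a constructible set form a constructible set. -/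
theorem isConstructible_hullGE [Algebra.FinitePresentation A B] {Z : Set (PrimeSpectrum B)}
    (hZ : IsConstructible Z) (c₀ : ℕ) : IsConstructible (hullGE A Z c₀) := by
  obtain ⟨n, π, hπ, hker⟩ := (inferInstance : Algebra.FinitePresentation A B).out
  letI : Algebra (MvPolynomial (Fin n) A) B := π.toRingHom.toAlgebra
  haveI : IsScalarTower A (MvPolynomial (Fin n) A) B := IsScalarTower.of_algebraMap_eq fun a => (π.commutes a).symm
  let c := PrimeSpectrum.comap (algebraMap (MvPolynomial (Fin n) A) B)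
  have hc : ∀ z : PrimeSpectrum B, (c z).asIdeal.under A = z.asIdeal.under A := fun z => by
    show (z.asIdeal.comap (algebraMap (MvPolynomial (Fin n) A) B)).comap (algebraMap A _) = _
    rw [Ideal.comap_comap, ← IsScalarTower.algebraMap_eq]
  have hle : ∀ z z' : PrimeSpectrum B, z'.asIdeal ≤ z.asIdeal ↔ (c z').asIdeal ≤ (c z).asIdeal :=
    fun z z' => (Ideal.comap_le_comap_iff_of_surjective _ hπ _ _).symm
  have hrc : IsRetrocompact (Set.range c)ᶜ := by
    rw [range_comap_of_surjective _ (algebraMap (MvPolynomial (Fin n) A) B) hπ,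
      QuasiSeparatedSpace.isRetrocompact_iff_isCompact (PrimeSpectrum.isClosed_zeroLocus _).isOpen_compl]
    exact (PrimeSpectrum.isCompact_isOpen_iff_ideal.2 ⟨_, hker, rfl⟩).1
  have h : hullGE A Z c₀ = c ⁻¹' hullGE A (c '' Z) c₀ := by
    ext x
    constructor
    · rintro ⟨z, hz, hzx, hzp, ht⟩
      exact ⟨c z, ⟨z, hz, rfl⟩, (hle x z).1 hzx, by rw [hc, hc, hzp], (trdegGE_of_surjective hπ z c₀).1 ht⟩
    · rintro ⟨_, ⟨z, hz, rfl⟩, hzx, hzp, ht⟩
      exact ⟨z, hz, (hle x z).2 hzx, by rw [← hc z, ← hc x]; exact hzp, (trdegGE_of_surjective hπ z c₀).2 ht⟩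
  rw [h]
  exact isConstructible_preimage_of_surjective hπ hker (isConstructible_hullGE_poly A
    (hZ.image_of_isClosedEmbedding (PrimeSpectrum.isClosedEmbedding_comap_of_surjective _ _ hπ) hrc) c₀)

theorem isConstructible_hullSet [Algebra.FinitePresentation A B] {Z : Set (PrimeSpectrum B)}
    (hZ : IsConstructible Z) : IsConstructible (hullSet A Z) :=
  hullGE_zero A Z ▸ isConstructible_hullGE A hZ 0

/-- The points lying on a component of dimension `j` of their fibre form a constructible set. -/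
theorem isConstructible_onComp [Algebra.FinitePresentation A B] (j : ℕ) :
    IsConstructible {x : PrimeSpectrum B | ∃ z : PrimeSpectrum B, IsTopPt A Set.univ z ∧ z.asIdeal ≤ x.asIdeal ∧
      z.asIdeal.under A = x.asIdeal.under A ∧ TrdegEQ A z j} := by
  let G : ℕ → Set (PrimeSpectrum B) := fun c => gset A Set.univ c
  have hG : ∀ c, IsConstructible (G c) := by
    intro c
    rcases Nat.eq_zero_or_pos c with rfl | hc
    · show IsConstructible (gset A (Set.univ : Set (PrimeSpectrum B)) 0)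
      rw [gset, if_pos rfl]
      exact IsConstructible.univ
    · have h : G c = (RelDim.dimLeSet A B (c - 1))ᶜ := by
        ext x
        rw [Set.mem_compl_iff, not_mem_dimLeSet_iff, mem_gset_iff isClosed_univ, show c - 1 + 1 = c by omega]
        simp
      rw [h]
      exact ((RelDim.isCompact_dimLeSet A B _).isConstructible (RelDim.isOpen_dimLeSet A B _)).compl
  convert isConstructible_hullSet A ((hG j).sdiff (hG (j + 1))) using 1
  ext x
  constructor
  · rintro ⟨z, hz, hzx, hzp, htj, htj1⟩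
    refine ⟨z, ⟨(mem_gset_iff isClosed_univ j z).2 ⟨z, le_rfl, rfl, trivial, htj⟩, fun h => ?_⟩, hzx, hzp⟩
    obtain ⟨w, hwz, hwp, -, hw⟩ := (mem_gset_iff isClosed_univ (j + 1) z).1 h
    exact htj1 (hz.2 w trivial hwz hwp ▸ hw)
  · rintro ⟨y, ⟨hy, hy1⟩, hyx, hyp⟩
    obtain ⟨w, hwy, hwp, -, hw⟩ := (mem_gset_iff isClosed_univ j y).1 hy
    obtain ⟨z, hz, hzw, hzp⟩ := exists_isTopPt_le A isClosed_univ (Set.mem_univ w)
    exact ⟨z, hz, hzw.trans (hwy.trans hyx), hzp.trans (hwp.trans hyp), trdegGE_of_le hzw hzp hw, fun h =>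
      hy1 ((mem_gset_iff isClosed_univ (j + 1) y).2 ⟨z, hzw.trans hwy, hzp.trans hwp, trivial, h⟩)⟩

end General

section Scheme

variable {X Y : Scheme.{u}} (f : X ⟶ Y) [LocallyOfFinitePresentation f]

theorem isLocallyConstructible_onComp (j : ℕ) :
    IsLocallyConstructible {x : X | ∃ w : ↥(f.fiber (f.base x)), IsTopIn f Set.univ w ∧ w ⤳ f.asFiber x ∧
      topologicalKrullDim ↥(closure ({w} : Set ↥(f.fiber (f.base x)))) = (j : WithBot ℕ∞)} := by
  refine isLocallyConstructible_of_charts f _ fun V U hV hU e hfp => ?_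
  letI := (f.appLE V U e).hom.toAlgebra
  haveI := hfp
  refine ⟨_, isConstructible_onComp Γ(Y, V) (B := Γ(X, U)) j, fun x hx => ?_⟩
  constructor
  · rintro ⟨w, hw, hwx, hdim⟩
    have hwU := mem_of_specializes_fibre f hwx (f.fiberι_asFiber x) hx
    have htop := (isTopIn_iff_chart f hV hU e Set.univ w hwU).1 hw
    refine ⟨hU.primeIdealOf ⟨f.fiberι _ w, hwU⟩, ⟨trivial, fun z' _ => htop.2 z' trivial⟩, (primeIdealOf_le_iff hU hx hwU).2 ?_,
      (primeIdealOf_under_eq_iff f hV hU e hx hwU).2 (fiber_fiberι f _ w), ?_⟩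
    · have := hwx.map (f.fiberι (f.base x)).continuous
      rwa [show f.fiberι (f.base x) (f.asFiber x) = x from f.fiberι_asFiber x] at this
    · obtain ⟨t, ht⟩ := trdegEQ_unique_exists (A := Γ(Y, V)) (hU.primeIdealOf ⟨f.fiberι _ w, hwU⟩)
      have h := (topDim_closure_fibre f hV hU e _ w _ rfl hwU t ht).symm.trans hdim
      rw [Nat.cast_inj] at h
      exact h ▸ ht
  · rintro ⟨z, hz, hzx, hzp, ht⟩
    obtain ⟨w, hwU, hwx, rfl⟩ := exists_fibre_of_prime f hV hU e (f.asFiber x) (f.fiberι_asFiber x) hx z hzx hzp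
    refine ⟨w, (isTopIn_iff_chart f hV hU e Set.univ w hwU).2 ?_, hwx, topDim_closure_fibre f hV hU e _ w _ rfl hwU j ht⟩
    exact ⟨trivial, fun z' _ => hz.2 z' trivial⟩

/-- EGA IV 9.9.1: the points at which the fibre is equidimensional. -/
theorem isLocallyConstructible_equidimAt :
    IsLocallyConstructible {x : X | ∃ e : ℕ,
      ∀ Z ∈ irreducibleComponents (↥(f.fiber (f.base x)) : Type u), f.asFiber x ∈ Z →
        topologicalKrullDim (↥Z : Type u) = e} := by
  classical
  let T : ℕ → Set X := fun j => {x : X | ∃ w : ↥(f.fiber (f.base x)), IsTopIn f Set.univ w ∧ w ⤳ f.asFiber x ∧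
      topologicalKrullDim ↥(closure ({w} : Set ↥(f.fiber (f.base x)))) = (j : WithBot ℕ∞)}
  have hiff : ∀ x : X, (∀ e : ℕ, (∀ Z ∈ irreducibleComponents (↥(f.fiber (f.base x)) : Type u), f.asFiber x ∈ Z →
      topologicalKrullDim (↥Z : Type u) = e) ↔ ∀ j, x ∈ T j → j = e) := by
    intro x e
    constructor
    · rintro h j ⟨w, hw, hwx, hdim⟩
      have hmem : closure ({w} : Set ↥(f.fiber (f.base x))) ∈ irreducibleComponents ↥(f.fiber (f.base x)) := by
        refine ⟨isIrreducible_singleton.closure, fun Z hZ hsub => ?_⟩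
        obtain ⟨a, ha⟩ := QuasiSober.sober hZ.closure isClosed_closure
        obtain rfl := hw.2 a trivial (ha.specializes (subset_closure (hsub (subset_closure rfl))))
        rw [ha.def]
        exact subset_closure
      have h1 := h _ hmem (hwx.mem_closure)
      exact Nat.cast_inj.1 (hdim.symm.trans h1)
    · intro h Z hZ hxZ
      obtain ⟨a, ha⟩ := QuasiSober.sober hZ.1 (isClosed_of_mem_irreducibleComponents Z hZ)
      obtain ⟨j, hj⟩ := exists_dim_closure f (f.base x) a
      rw [← ha.def, hj, h j ⟨a, ⟨trivial, fun w _ hwa => ?_⟩, ha.specializes hxZ, hj⟩]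
      have hsub : Z ⊆ closure {w} := by
        rw [← ha.def]
        exact closure_minimal (Set.singleton_subset_iff.2 hwa.mem_closure) isClosed_closure
      exact ((show IsGenericPoint w Z from (hZ.2 isIrreducible_singleton.closure hsub).antisymm hsub).eq ha)
  intro x₀
  obtain ⟨V, U, hV, hU, e, hxU⟩ := FlatSect.exists_chart f x₀
  letI := (f.appLE V U e).hom.toAlgebra
  haveI : Algebra.FinitePresentation Γ(Y, V) Γ(X, U) := f.finitePresentation_appLE hV hU e
  obtain ⟨N, hN⟩ := exists_trdegGE_bound Γ(Y, V) Γ(X, U)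
  have hTN : ∀ x ∈ U, ∀ j, x ∈ T j → j ≤ N := by
    rintro x hx j ⟨w, -, hwx, hdim⟩
    have hwU := mem_of_specializes_fibre f hwx (f.fiberι_asFiber x) hx
    obtain ⟨t, ht⟩ := trdegEQ_unique_exists (A := Γ(Y, V)) (hU.primeIdealOf ⟨f.fiberι _ w, hwU⟩)
    have h := (topDim_closure_fibre f hV hU e _ w _ rfl hwU t ht).symm.trans hdim
    rw [Nat.cast_inj] at h
    exact h ▸ hN _ t ht.1
  let E : Set X := ⋃ d : Fin (N + 1), ⋂ j : Fin (N + 1), if j = d then Set.univ else (T j)ᶜ
  have hE : IsLocallyConstructible E := IsLocallyConstructible.iUnion fun d => IsLocallyConstructible.iInter fun j => by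
    split_ifs
    · exact IsLocallyConstructible.univ
    · exact LimTop.isLocallyConstructible_compl (isLocallyConstructible_onComp f j)
  have hEiff : ∀ x ∈ U, (x ∈ E ↔ ∃ d : ℕ, ∀ j, x ∈ T j → j = d) := by
    intro x hx
    simp only [E, Set.mem_iUnion, Set.mem_iInter]
    constructor
    · rintro ⟨d, hd⟩
      refine ⟨d, fun j hj => by_contra fun hne => ?_⟩
      have := hd ⟨j, Nat.lt_succ_of_le (hTN x hx j hj)⟩
      rw [if_neg (fun h => hne (congrArg Fin.val h))] at this
      exact this hj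
    · rintro ⟨d, hd⟩
      by_cases hex : ∃ j, x ∈ T j
      · obtain ⟨j₀, hj₀⟩ := hex
        refine ⟨⟨j₀, Nat.lt_succ_of_le (hTN x hx j₀ hj₀)⟩, fun j => ?_⟩
        split_ifs with h
        · trivial
        · exact fun hj => h (Fin.ext ((hd j hj).trans (hd j₀ hj₀).symm))
      · refine ⟨0, fun j => ?_⟩
        split_ifs
        · trivial
        · exact fun hj => hex ⟨j, hj⟩
  obtain ⟨W, hWn, hWo, hWc⟩ := hE x₀
  refine ⟨(U : Set X) ∩ W, Filter.inter_mem (U.2.mem_nhds hxU) hWn, U.2.inter hWo, ?_⟩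
  have hsub : IsOpenEmbedding (Set.inclusion (Set.inter_subset_right : (U : Set X) ∩ W ⊆ W)) := by
    refine ⟨IsEmbedding.inclusion _, ?_⟩
    rw [Set.range_inclusion]
    exact (U.2.inter hWo).preimage continuous_subtype_val
  have hpre := hWc.preimage_of_isOpenEmbedding hsub
  convert hpre using 1
  ext ⟨x, hx⟩
  show (∃ d : ℕ, _) ↔ x ∈ E
  rw [hEiff x hx.1]
  exact exists_congr fun d => hiff x d

end Scheme

end Groth.Agent.FibCodepth
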