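import Groth.Agent.FibCodepth.BaseChange
import Groth.Agent.FlatOpen.API
import Mathlib.RingTheory.TensorProduct.MvPolynomial
import Mathlib.RingTheory.Spectrum.Prime.Chevalley

/-!
# Constructibility of fibrewise loci of a finitely presented module
-/

set_option autoImplicit false
set_option linter.style.haveILetI false

universe u

open TensorProduct IsLocalRing CategoryTheory Topology

namespace Groth.Agent.FibCodepth

section Congr

variable {A P : Type u} [CommRing A] [CommRing P] [Algebra A P] {N N' : Type u} [AddCommGroup N] [Module P N]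
  [AddCommGroup N'] [Module P N'] (g : N ≃ₗ[P] N')

include g in
theorem depth_supportDim_fib_congr (q : Ideal P) [q.IsPrime] :
    haveI := isLocalRing_fibLocRing (A := A) q
    LocCoh.depth (EGA4.FibLocRing A P q) (EGA4.FibLocRing A P q ⊗[P] N) =
        LocCoh.depth (EGA4.FibLocRing A P q) (EGA4.FibLocRing A P q ⊗[P] N') ∧
      Module.supportDim (EGA4.FibLocRing A P q) (EGA4.FibLocRing A P q ⊗[P] N) =
        Module.supportDim (EGA4.FibLocRing A P q) (EGA4.FibLocRing A P q ⊗[P] N') :=
  haveI := isLocalRing_fibLocRing (A := A) q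
  EGA4Lib.depth_supportDim_congr
    (AlgebraTensorModule.congr (LinearEquiv.refl (EGA4.FibLocRing A P q) (EGA4.FibLocRing A P q)) g)

include g in
theorem rectGE_congr (m : ℕ) (x : PrimeSpectrum P) : RectGE A P N m x ↔ RectGE A P N' m x := by
  unfold RectGE
  rw [(depth_supportDim_fib_congr g x.asIdeal).1]

include g in
theorem codepthLE_congr (k : ℕ) (q : Ideal P) [q.IsPrime] :
    CodepthLE A P N q k ↔ CodepthLE A P N' q k := by
  unfold CodepthLE
  rw [(depth_supportDim_fib_congr g q).1, (depth_supportDim_fib_congr g q).2]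

include g in
theorem fibSk_congr (x : PrimeSpectrum P) (k : ℕ) : FibSk A P N x k ↔ FibSk A P N' x k := by
  refine forall_congr' fun z => imp_congr_right fun _ => imp_congr_right fun _ => ?_
  rw [(depth_supportDim_fib_congr g z.asIdeal).1, (depth_supportDim_fib_congr g z.asIdeal).2]

end Congr

section Invariance

attribute [local instance] MvPolynomial.algebraMvPolynomial

variable (A₀ A : Type u) [CommRing A₀] [CommRing A] [Algebra A₀ A] {n : ℕ}
variable (N₀ : Type u) [AddCommGroup N₀] [Module (MvPolynomial (Fin n) A₀) N₀]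
  [Module.FinitePresentation (MvPolynomial (Fin n) A₀) N₀]

local notation "P₀" => MvPolynomial (Fin n) A₀
local notation "P" => MvPolynomial (Fin n) A
local notation "c" => PrimeSpectrum.comap (algebraMap (MvPolynomial (Fin n) A₀) (MvPolynomial (Fin n) A))

theorem rectGE_baseChange (m : ℕ) (x : PrimeSpectrum P) :
    RectGE A P (P ⊗[P₀] N₀) m x ↔ RectGE A₀ P₀ N₀ m (c x) := by
  rw [rectGE_iff, rectGE_iff, mem_support_baseChange, mem_pdSet_baseChange A₀ A]

theorem mem_quotDimSet_ann (a : ℕ) (x : PrimeSpectrum P) :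
    x ∈ quotDimSet A (Module.annihilator P (P ⊗[P₀] N₀)) a ↔
      c x ∈ quotDimSet A₀ (Module.annihilator P₀ N₀) a := by
  rw [← mem_quotDimSet_map A₀ A]
  have hle : ∀ z : PrimeSpectrum P, Module.annihilator P (P ⊗[P₀] N₀) ≤ z.asIdeal ↔
      (Module.annihilator P₀ N₀).map (algebraMap P₀ P) ≤ z.asIdeal := by
    intro z
    have h : z ∈ Module.support P (P ⊗[P₀] N₀) ↔ c z ∈ Module.support P₀ N₀ := mem_support_baseChange N₀ z
    rw [Module.support_eq_zeroLocus, Module.support_eq_zeroLocus] at h
    rw [Ideal.map_le_iff_le_comap]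
    exact h
  rw [← not_iff_not, not_mem_quotDimSet_iff, not_mem_quotDimSet_iff, hle]
  simp only [hle]

theorem fibSk_baseChange (k : ℕ) (x : PrimeSpectrum P) :
    FibSk A P (P ⊗[P₀] N₀) x k ↔ FibSk A₀ P₀ N₀ (c x) k := by
  rw [← not_iff_not, not_fibSk_iff, not_fibSk_iff]
  have hbad : ∀ a b (z : PrimeSpectrum P),
      z ∈ badSet A n (P ⊗[P₀] N₀) a b ↔ c z ∈ badSet A₀ n N₀ a b := by
    intro a b z
    simp only [badSet, Set.mem_inter_iff, Set.mem_compl_iff, mem_support_baseChange,
      mem_pdSet_baseChange A₀ A, mem_quotDimSet_ann]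
  constructor
  · rintro ⟨z, hzx, hzp, a, ha, b, hb, hab, hz, ht⟩
    refine ⟨c z, Ideal.comap_mono hzx, ?_, a, ha, b, hb, hab, (hbad a b z).1 hz, trdegGE_comap A₀ A ht⟩
    rw [under_comap A₀ A, under_comap A₀ A, hzp]
  · rintro ⟨z₀, hle, hp, a, ha, b, hb, hab, hz, ht⟩
    obtain ⟨z, hzx, hzp, hcz, hzt⟩ := exists_gen_over A₀ A x z₀ hle hp ht
    exact ⟨z, hzx, hzp, a, ha, b, hb, hab, (hbad a b z).2 (hcz.symm ▸ hz), hzt⟩

theorem codepthLE_baseChange (k : ℕ) (x : PrimeSpectrum P) :
    CodepthLE A P (P ⊗[P₀] N₀) x.asIdeal k ↔ CodepthLE A₀ P₀ N₀ (c x).asIdeal k := by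
  rw [codepthLE_iff, codepthLE_iff]
  simp only [mem_support_baseChange, mem_pdSet_baseChange A₀ A, mem_quotDimSet_ann]

end Invariance

section Constructible

open FlatOpen

attribute [local instance] MvPolynomial.algebraMvPolynomial

variable {n r : ℕ} {R₀ : Type u} [CommRing R₀] [IsNoetherianRing R₀]
  (Z₀ : Submodule (MvPolynomial (Fin n) R₀) (Vec n r R₀))

/-- A family of subsets compatible with base change. -/
def Invariant (E : ∀ (R : Type u) [CommRing R] [Algebra R₀ R], Set (PrimeSpectrum (MvPolynomial (Fin n) R))) : Prop :=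
  ∀ (R : Type u) [CommRing R] [Algebra R₀ R],
    E R = PrimeSpectrum.comap (algebraMap (MvPolynomial (Fin n) R₀) (MvPolynomial (Fin n) R)) ⁻¹' E R₀

variable {E : ∀ (R : Type u) [CommRing R] [Algebra R₀ R], Set (PrimeSpectrum (MvPolynomial (Fin n) R))}

/-- A compatible family which is open on flat base changes is constructible over a Noetherian base. -/
theorem isConstructible_of_invariant (hinv : Invariant E)
    (hopen : ∀ (R : Type u) [CommRing R] [Algebra R₀ R], Module.Flat R (Quot R Z₀) → IsOpen (E R)) :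
    IsConstructible (E R₀) := by
  have H : ∀ I : Ideal R₀, IsConstructible (E R₀ ∩
      PrimeSpectrum.zeroLocus (I.map (algebraMap R₀ (MvPolynomial (Fin n) R₀)) : Set (MvPolynomial (Fin n) R₀))) := by
    intro I
    induction I using WellFoundedGT.induction with
    | ind I ih =>
      by_cases htop : I = ⊤
      · rw [htop, Ideal.map_top, PrimeSpectrum.zeroLocus_empty_iff_eq_top.2 rfl, Set.inter_empty]
        exact IsConstructible.empty
      by_cases hprime : I.IsPrime
      swap
      · obtain ⟨a, ha, b, hb, hab⟩ := (Ideal.not_isPrime_iff.1 hprime).resolve_left htop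
        have h : PrimeSpectrum.zeroLocus (I.map (algebraMap R₀ (MvPolynomial (Fin n) R₀)) : Set (MvPolynomial (Fin n) R₀)) =
            PrimeSpectrum.zeroLocus ((I ⊔ Ideal.span {a}).map (algebraMap R₀ (MvPolynomial (Fin n) R₀)) : Set (MvPolynomial (Fin n) R₀)) ∪
              PrimeSpectrum.zeroLocus ((I ⊔ Ideal.span {b}).map (algebraMap R₀ (MvPolynomial (Fin n) R₀)) : Set (MvPolynomial (Fin n) R₀)) := by
          ext q
          simp only [PrimeSpectrum.mem_zeroLocus, Set.mem_union, SetLike.coe_subset_coe, Ideal.map_le_iff_le_comap,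
            sup_le_iff, Ideal.span_singleton_le_iff_mem]
          constructor
          · intro hq
            exact ((q.isPrime.comap _).mem_or_mem (hq hab)).imp (fun h => ⟨hq, h⟩) fun h => ⟨hq, h⟩
          · rintro (⟨h, -⟩ | ⟨h, -⟩) <;> exact h
        rw [h, Set.inter_union_distrib_left]
        exact (ih _ (Submodule.lt_sup_iff_notMem.2 ha)).union (ih _ (Submodule.lt_sup_iff_notMem.2 hb))
      obtain ⟨g, hg, hflat⟩ := exists_flat_fibre I Z₀
      haveI := hflat
      haveI : Module.Flat (Bf I g) (Quot (Bf I g) Z₀) := Module.Flat.of_linearEquiv (quotEquiv (Bf I g) Z₀).symm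
      let c₁ := PrimeSpectrum.comap (algebraMap (MvPolynomial (Fin n) R₀) (MvPolynomial (Fin n) (Bf I g)))
      haveI : IsNoetherianRing (Bf I g) := IsLocalization.isNoetherianRing (Submonoid.powers (Ideal.Quotient.mk I g)) _ inferInstance
      haveI : Algebra.FiniteType R₀ (Bf I g) :=
        Algebra.FiniteType.trans (S := R₀ ⧸ I) inferInstance inferInstance
      haveI : Algebra.FiniteType (MvPolynomial (Fin n) R₀) (MvPolynomial (Fin n) (Bf I g)) :=
        Algebra.FiniteType.equiv inferInstance
          (Algebra.IsPushout.equiv R₀ (MvPolynomial (Fin n) R₀) (Bf I g) (MvPolynomial (Fin n) (Bf I g)))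
      have hfp : (algebraMap (MvPolynomial (Fin n) R₀) (MvPolynomial (Fin n) (Bf I g))).FinitePresentation :=
        RingHom.finitePresentation_algebraMap.2 (Algebra.FinitePresentation.of_finiteType.1 inferInstance)
      have himg : IsConstructible (c₁ '' (c₁ ⁻¹' E R₀)) := by
        refine PrimeSpectrum.isConstructible_comap_image hfp ?_
        have ho : IsOpen (E (Bf I g)) := hopen (Bf I g) inferInstance
        rw [hinv (Bf I g)] at ho
        exact IsCompact.isConstructible (TopologicalSpace.NoetherianSpace.isCompact _) ho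
      have hrange : ∀ q : PrimeSpectrum (MvPolynomial (Fin n) R₀), q ∈ Set.range c₁ ↔
          I.map (algebraMap R₀ (MvPolynomial (Fin n) R₀)) ≤ q.asIdeal ∧
            algebraMap R₀ (MvPolynomial (Fin n) R₀) g ∉ q.asIdeal := by
        intro q
        rw [Ideal.map_le_iff_le_comap]
        constructor
        · rintro ⟨z, rfl⟩
          have hz := under_comap R₀ (Bf I g) (P₀ := MvPolynomial (Fin n) R₀) z
          refine ⟨?_, ?_⟩
          · show I ≤ (c₁ z).asIdeal.under R₀
            rw [hz]
            intro a ha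
            show algebraMap R₀ (Bf I g) a ∈ z.asIdeal.under (Bf I g)
            rw [IsScalarTower.algebraMap_apply R₀ (R₀ ⧸ I) (Bf I g),
              show algebraMap R₀ (R₀ ⧸ I) a = 0 from Ideal.Quotient.eq_zero_iff_mem.2 ha, map_zero]
            exact zero_mem _
          · show g ∉ (c₁ z).asIdeal.under R₀
            rw [hz]
            intro hgz
            refine (inferInstance : (z.asIdeal.under (Bf I g)).IsPrime).ne_top (Ideal.eq_top_of_isUnit_mem _ hgz ?_)
            rw [IsScalarTower.algebraMap_apply R₀ (R₀ ⧸ I) (Bf I g)]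
            exact IsLocalization.Away.algebraMap_isUnit (Ideal.Quotient.mk I g)
        · rintro ⟨hIq, hgq⟩
          let p₀ : PrimeSpectrum R₀ := ⟨q.asIdeal.under R₀, inferInstance⟩
          obtain ⟨p', hp'⟩ : p₀ ∈ Set.range (PrimeSpectrum.comap (Ideal.Quotient.mk I)) := by
            rw [range_comap_of_surjective _ _ Ideal.Quotient.mk_surjective, Ideal.mk_ker]
            exact hIq
          obtain ⟨p'', hp''⟩ : p' ∈ Set.range (PrimeSpectrum.comap (algebraMap (R₀ ⧸ I) (Bf I g))) := by
            rw [PrimeSpectrum.localization_away_comap_range (Bf I g) (Ideal.Quotient.mk I g)]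
            intro hmem
            apply hgq
            show g ∈ p₀.asIdeal
            rw [← hp']
            exact hmem
          obtain ⟨z, -, hz⟩ := exists_point_over R₀ (Bf I g) (P₀ := MvPolynomial (Fin n) R₀) (P := MvPolynomial (Fin n) (Bf I g)) p'' q (by
            show _ = p₀.asIdeal
            rw [← hp', ← hp'']
            show p''.asIdeal.comap (algebraMap R₀ (Bf I g)) = _
            rw [IsScalarTower.algebraMap_eq R₀ (R₀ ⧸ I) (Bf I g), ← Ideal.comap_comap]
            rfl)
          exact ⟨z, hz⟩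
      have hsplit : E R₀ ∩ PrimeSpectrum.zeroLocus (I.map (algebraMap R₀ (MvPolynomial (Fin n) R₀)) : Set (MvPolynomial (Fin n) R₀)) =
          c₁ '' (c₁ ⁻¹' E R₀) ∪ (E R₀ ∩ PrimeSpectrum.zeroLocus
            ((I ⊔ Ideal.span {g}).map (algebraMap R₀ (MvPolynomial (Fin n) R₀)) : Set (MvPolynomial (Fin n) R₀))) := by
        ext q
        simp only [Set.image_preimage_eq_inter_range, Set.mem_inter_iff, Set.mem_union, hrange,
          PrimeSpectrum.mem_zeroLocus, SetLike.coe_subset_coe, Ideal.map_sup, sup_le_iff, Ideal.map_span,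
          Set.image_singleton, Ideal.span_singleton_le_iff_mem]
        tauto
      rw [hsplit]
      exact himg.union (ih _ (Submodule.lt_sup_iff_notMem.2 hg))
  simpa using H ⊥

/-- The same over an arbitrary base. -/
theorem isConstructible_of_invariant' (hinv : Invariant E)
    (hopen : ∀ (R : Type u) [CommRing R] [Algebra R₀ R], Module.Flat R (Quot R Z₀) → IsOpen (E R))
    (R : Type u) [CommRing R] [Algebra R₀ R] : IsConstructible (E R) := by
  rw [hinv R]
  refine (isConstructible_of_invariant Z₀ hinv hopen).preimage (PrimeSpectrum.continuous_comap _) fun s hs _ => ?_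
  obtain ⟨T, hT⟩ := (PrimeSpectrum.isCompact_isOpen_iff_ideal).1 ⟨TopologicalSpace.NoetherianSpace.isCompact s, hs⟩
  rw [QuasiSeparatedSpace.isRetrocompact_iff_isCompact (hs.preimage (PrimeSpectrum.continuous_comap _)), ← hT.2,
    Set.preimage_compl, PrimeSpectrum.preimage_comap_zeroLocus, ← PrimeSpectrum.zeroLocus_span]
  exact (PrimeSpectrum.isCompact_isOpen_iff_ideal.2 ⟨_, ⟨hT.1.map _, rfl⟩⟩).1

end Constructible

end Groth.Agent.FibCodepth
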