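import Groth.Agent.FibCodepth.ConsLoci
import Groth.Agent.FibCodepth.ProperLoci

/-!
# The fibrewise associated-point loci of a finitely presented module are constructible
-/

set_option autoImplicit false
set_option linter.style.haveILetI false

universe u

open TensorProduct IsLocalRing CategoryTheory Topology

namespace Groth.Agent.FibCodepth

open FlatOpen

attribute [local instance] MvPolynomial.algebraMvPolynomial

section Numeric

variable {A : Type u} [CommRing A] {n : ℕ}
variable (N : Type u) [AddCommGroup N] [Module (MvPolynomial (Fin n) A) N]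
  [Module.FinitePresentation (MvPolynomial (Fin n) A) N]

theorem assDimsIn_iff (Φ : Finset ℕ) (x : PrimeSpectrum (MvPolynomial (Fin n) A)) :
    AssDimsIn A (MvPolynomial (Fin n) A) N Φ x ↔
      ¬ ∃ (z : PrimeSpectrum (MvPolynomial (Fin n) A)) (j : ℕ), z.asIdeal ≤ x.asIdeal ∧
        z.asIdeal.under A = x.asIdeal.under A ∧ j ≤ n ∧ j ∉ Φ ∧ z ∈ pdGESet A n N (n - j) ∧ TrdegGE A z j := by
  constructor
  · rintro h ⟨z, j, hzx, hzp, hj, hjΦ, hz, ht⟩
    obtain ⟨m, hm, hzm⟩ := h z hzx hzp ((isAssFib_iff N z).2 ⟨j, hj, hz, ht⟩)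
    have hzj : TrdegEQ A z j :=
      ⟨ht, fun h' => by have := trdegGE_le_of_mem_pdGESet N hj hz h'; omega⟩
    exact hjΦ (hzj.eq hzm ▸ hm)
  · intro h z hzx hzp hz
    obtain ⟨j, hj, hzj, ht⟩ := (isAssFib_iff N z).1 hz
    refine ⟨j, by_contra fun hjΦ => h ⟨z, j, hzx, hzp, hj, hjΦ, hzj, ht⟩, ht, fun h' => ?_⟩
    have := trdegGE_le_of_mem_pdGESet N hj hzj h'
    omega

theorem noEmbFib_iff (x : PrimeSpectrum (MvPolynomial (Fin n) A)) :
    NoEmbFib A (MvPolynomial (Fin n) A) N x ↔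
      ¬ ∃ (z z' : PrimeSpectrum (MvPolynomial (Fin n) A)) (j j' : ℕ), z.asIdeal ≤ x.asIdeal ∧
        z.asIdeal.under A = x.asIdeal.under A ∧ z'.asIdeal ≤ z.asIdeal ∧ z'.asIdeal.under A = z.asIdeal.under A ∧
        j < j' ∧ j' ≤ n ∧ z ∈ pdGESet A n N (n - j) ∧ TrdegGE A z j ∧ z' ∈ pdGESet A n N (n - j') ∧
        TrdegGE A z' j' := by
  constructor
  · rintro h ⟨z, z', j, j', hzx, hzp, hz'z, hz'p, hjj, hj', hz, ht, hz', ht'⟩
    obtain rfl := h z hzx hzp ((isAssFib_iff N z).2 ⟨j, hjj.le.trans hj', hz, ht⟩) z' hz'z hz'p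
      ((isAssFib_iff N z').2 ⟨j', hj', hz', ht'⟩)
    have := trdegGE_le_of_mem_pdGESet N (hjj.le.trans hj') hz ht'
    omega
  · intro h z hzx hzp hz z' hz'z hz'p hz'
    by_contra hne
    obtain ⟨j, hj, hzj, ht⟩ := (isAssFib_iff N z).1 hz
    obtain ⟨j', hj', hzj', ht'⟩ := (isAssFib_iff N z').1 hz'
    have hlt := trdegGE_le_of_mem_pdGESet N hj' hzj' (trdegGE_succ_of_lt
      (lt_of_le_of_ne hz'z fun he => hne (PrimeSpectrum.ext he)) hz'p ht)
    exact h ⟨z, z', j, j', hzx, hzp, hz'z, hz'p, by omega, hj', hzj, ht, hzj', ht'⟩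

variable {N' : Type u} [AddCommGroup N'] [Module (MvPolynomial (Fin n) A) N'] (g : N ≃ₗ[MvPolynomial (Fin n) A] N')

omit [Module.FinitePresentation (MvPolynomial (Fin n) A) N] in
include g in
theorem isAssFib_congr (z : PrimeSpectrum (MvPolynomial (Fin n) A)) :
    IsAssFib A (MvPolynomial (Fin n) A) N z ↔ IsAssFib A (MvPolynomial (Fin n) A) N' z := by
  unfold IsAssFib
  rw [(depth_supportDim_fib_congr g z.asIdeal).1, (depth_supportDim_fib_congr g z.asIdeal).2]

omit [Module.FinitePresentation (MvPolynomial (Fin n) A) N] in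
include g in
theorem assDimsIn_congr (Φ : Finset ℕ) (x : PrimeSpectrum (MvPolynomial (Fin n) A)) :
    AssDimsIn A (MvPolynomial (Fin n) A) N Φ x ↔ AssDimsIn A (MvPolynomial (Fin n) A) N' Φ x := by
  simp only [AssDimsIn, isAssFib_congr N g]

omit [Module.FinitePresentation (MvPolynomial (Fin n) A) N] in
include g in
theorem noEmbFib_congr (x : PrimeSpectrum (MvPolynomial (Fin n) A)) :
    NoEmbFib A (MvPolynomial (Fin n) A) N x ↔ NoEmbFib A (MvPolynomial (Fin n) A) N' x := by
  simp only [NoEmbFib, isAssFib_congr N g]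

end Numeric

section Invariance

variable (A₀ A : Type u) [CommRing A₀] [CommRing A] [Algebra A₀ A] {n : ℕ}
variable (N₀ : Type u) [AddCommGroup N₀] [Module (MvPolynomial (Fin n) A₀) N₀]
  [Module.FinitePresentation (MvPolynomial (Fin n) A₀) N₀]

local notation "P₀" => MvPolynomial (Fin n) A₀
local notation "P" => MvPolynomial (Fin n) A
local notation "c" => PrimeSpectrum.comap (algebraMap (MvPolynomial (Fin n) A₀) (MvPolynomial (Fin n) A))

theorem mem_pdGESet_baseChange (m : ℕ) (z : PrimeSpectrum P) :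
    z ∈ pdGESet A n (P ⊗[P₀] N₀) m ↔ c z ∈ pdGESet A₀ n N₀ m := by
  simp only [pdGESet, Set.mem_inter_iff, mem_support_baseChange]
  refine and_congr_right' ?_
  split_ifs
  · simp
  · rw [Set.mem_compl_iff, Set.mem_compl_iff, mem_pdSet_baseChange A₀ A]

theorem assDimsIn_baseChange (Φ : Finset ℕ) (x : PrimeSpectrum P) :
    AssDimsIn A P (P ⊗[P₀] N₀) Φ x ↔ AssDimsIn A₀ P₀ N₀ Φ (c x) := by
  rw [assDimsIn_iff, assDimsIn_iff]
  refine not_congr ⟨?_, ?_⟩
  · rintro ⟨z, j, hzx, hzp, hj, hjΦ, hz, ht⟩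
    refine ⟨c z, j, Ideal.comap_mono hzx, ?_, hj, hjΦ, (mem_pdGESet_baseChange A₀ A N₀ _ z).1 hz,
      trdegGE_comap A₀ A ht⟩
    rw [under_comap A₀ A, under_comap A₀ A, hzp]
  · rintro ⟨z₀, j, hle, hp, hj, hjΦ, hz, ht⟩
    obtain ⟨z, hzx, hzp, rfl, hzt⟩ := exists_gen_over A₀ A x z₀ hle hp ht
    exact ⟨z, j, hzx, hzp, hj, hjΦ, (mem_pdGESet_baseChange A₀ A N₀ _ z).2 hz, hzt⟩

theorem noEmbFib_baseChange (x : PrimeSpectrum P) :
    NoEmbFib A P (P ⊗[P₀] N₀) x ↔ NoEmbFib A₀ P₀ N₀ (c x) := by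
  rw [noEmbFib_iff, noEmbFib_iff]
  refine not_congr ⟨?_, ?_⟩
  · rintro ⟨z, z', j, j', hzx, hzp, hz'z, hz'p, hjj, hj', hz, ht, hz', ht'⟩
    refine ⟨c z, c z', j, j', Ideal.comap_mono hzx, ?_, Ideal.comap_mono hz'z, ?_, hjj, hj',
      (mem_pdGESet_baseChange A₀ A N₀ _ z).1 hz, trdegGE_comap A₀ A ht,
      (mem_pdGESet_baseChange A₀ A N₀ _ z').1 hz', trdegGE_comap A₀ A ht'⟩
    · rw [under_comap A₀ A, under_comap A₀ A, hzp]
    · rw [under_comap A₀ A, under_comap A₀ A, hz'p]
  · rintro ⟨z₀, z₀', j, j', hle, hp, hle', hp', hjj, hj', hz, ht, hz', ht'⟩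
    obtain ⟨z, hzx, hzp, rfl, hzt⟩ := exists_gen_over A₀ A x z₀ hle hp ht
    obtain ⟨z', hz'z, hz'p, rfl, hzt'⟩ := exists_gen_over A₀ A z z₀' hle' hp' ht'
    exact ⟨z, z', j, j', hzx, hzp, hz'z, hz'p, hjj, hj', (mem_pdGESet_baseChange A₀ A N₀ _ z).2 hz, hzt,
      (mem_pdGESet_baseChange A₀ A N₀ _ z').2 hz', hzt'⟩

end Invariance

section Model

variable {n r : ℕ} {R₀ : Type u} [CommRing R₀] [IsNoetherianRing R₀]
  (Z₀ : Submodule (MvPolynomial (Fin n) R₀) (Vec n r R₀))

theorem isConstructible_assDimsIn_quot (Φ : Finset ℕ) (R : Type u) [CommRing R] [Algebra R₀ R] :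
    IsConstructible {x : PrimeSpectrum (MvPolynomial (Fin n) R) |
      AssDimsIn R (MvPolynomial (Fin n) R) (Quot R Z₀) Φ x} := by
  refine isConstructible_of_invariant' Z₀
    (E := fun R _ _ => {x | AssDimsIn R (MvPolynomial (Fin n) R) (Quot R Z₀) Φ x})
    (fun R _ _ => ?_) (fun R _ _ hflat => ?_) R
  · haveI := finitePresentation_quot Z₀ R₀
    obtain ⟨g⟩ := nonempty_quot_baseChange Z₀ R
    ext x
    exact (assDimsIn_congr _ g Φ x).symm.trans (assDimsIn_baseChange R₀ R (Quot R₀ Z₀) Φ x)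
  · haveI := finitePresentation_quot Z₀ R
    haveI := hflat
    exact isOpen_assDimsIn_poly (Quot R Z₀) Φ

theorem isConstructible_noEmbFib_quot (R : Type u) [CommRing R] [Algebra R₀ R] :
    IsConstructible {x : PrimeSpectrum (MvPolynomial (Fin n) R) |
      NoEmbFib R (MvPolynomial (Fin n) R) (Quot R Z₀) x} := by
  refine isConstructible_of_invariant' Z₀
    (E := fun R _ _ => {x | NoEmbFib R (MvPolynomial (Fin n) R) (Quot R Z₀) x})
    (fun R _ _ => ?_) (fun R _ _ hflat => ?_) R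
  · haveI := finitePresentation_quot Z₀ R₀
    obtain ⟨g⟩ := nonempty_quot_baseChange Z₀ R
    ext x
    exact (noEmbFib_congr _ g x).symm.trans (noEmbFib_baseChange R₀ R (Quot R₀ Z₀) x)
  · haveI := finitePresentation_quot Z₀ R
    haveI := hflat
    exact isOpen_noEmbFib_poly (Quot R Z₀)

end Model

section Alg

variable {A B : Type u} [CommRing A] [CommRing B] [Algebra A B] [Algebra.FinitePresentation A B]
variable (N : Type u) [AddCommGroup N] [Module B N] [Module.FinitePresentation B N]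

/-- The fibrewise associated-dimension and no-embedded-point loci are constructible. -/
theorem isConstructible_assLoci (Φ : Finset ℕ) :
    IsConstructible {x : PrimeSpectrum B | AssDimsIn A B N Φ x} ∧
      IsConstructible {x : PrimeSpectrum B | NoEmbFib A B N x} := by
  obtain ⟨n, π, hπ, hker⟩ := (inferInstance : Algebra.FinitePresentation A B).out
  letI : Algebra (MvPolynomial (Fin n) A) B := π.toRingHom.toAlgebra
  haveI : IsScalarTower A (MvPolynomial (Fin n) A) B := IsScalarTower.of_algebraMap_eq fun a => (π.commutes a).symm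
  letI : Module (MvPolynomial (Fin n) A) N := Module.compHom N π.toRingHom
  haveI : IsScalarTower (MvPolynomial (Fin n) A) B N := IsScalarTower.of_algebraMap_smul fun _ _ => rfl
  haveI : Module.FinitePresentation (MvPolynomial (Fin n) A) B :=
    Module.finitePresentation_of_surjective (Algebra.linearMap (MvPolynomial (Fin n) A) B) hπ (by
      rw [show LinearMap.ker (Algebra.linearMap (MvPolynomial (Fin n) A) B) = RingHom.ker π.toRingHom
        from by ext x; rfl]
      exact hker)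
  haveI : Module.FinitePresentation (MvPolynomial (Fin n) A) N :=
    Module.FinitePresentation.trans (MvPolynomial (Fin n) A) N B
  let c := PrimeSpectrum.comap (algebraMap (MvPolynomial (Fin n) A) B)
  have hc : ∀ z : PrimeSpectrum B, (c z).asIdeal.under A = z.asIdeal.under A := fun z => by
    show (z.asIdeal.comap (algebraMap (MvPolynomial (Fin n) A) B)).comap (algebraMap A _) = _
    rw [Ideal.comap_comap, ← IsScalarTower.algebraMap_eq]
  have hass : ∀ z : PrimeSpectrum B, IsAssFib A B N z ↔ IsAssFib A (MvPolynomial (Fin n) A) N (c z) := fun z => by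
    obtain ⟨h1, h2⟩ := depth_supportDim_fib_of_surjective (A := A) (P := MvPolynomial (Fin n) A) hπ N z.asIdeal
      (c z).asIdeal rfl
    unfold IsAssFib
    rw [h1, h2]
  have hout : ∀ w, IsAssFib A (MvPolynomial (Fin n) A) N w → ∃ z, c z = w := by
    intro w hw
    by_contra hne
    refine hw.1 (supportDim_fib_eq_bot N w ?_)
    rw [Module.support_eq_zeroLocus]
    refine fun hle => hne ?_
    have hle' : RingHom.ker (algebraMap (MvPolynomial (Fin n) A) B) ≤ w.asIdeal :=
      le_trans (fun a ha => Module.mem_annihilator.2 fun m => by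
        rw [← algebraMap_smul B a m, RingHom.mem_ker.1 ha, zero_smul]) hle
    show w ∈ Set.range (PrimeSpectrum.comap (algebraMap (MvPolynomial (Fin n) A) B))
    rw [range_comap_of_surjective _ (algebraMap (MvPolynomial (Fin n) A) B) hπ]
    exact hle'
  have hle : ∀ z z' : PrimeSpectrum B, z'.asIdeal ≤ z.asIdeal ↔ (c z').asIdeal ≤ (c z).asIdeal :=
    fun z z' => (Ideal.comap_le_comap_iff_of_surjective _ hπ _ _).symm
  have hinj : Function.Injective c := PrimeSpectrum.comap_injective_of_surjective _ hπ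
  obtain ⟨r, R₀, _, _, _, Z₀, ⟨g⟩⟩ := exists_model (R := A) (n := n) N
  constructor
  · have h : {x : PrimeSpectrum B | AssDimsIn A B N Φ x} =
        c ⁻¹' {x | AssDimsIn A (MvPolynomial (Fin n) A) (Quot A Z₀) Φ x} := by
      ext x
      refine Iff.trans ?_ (assDimsIn_congr _ g.symm Φ (c x))
      refine ⟨fun h w hwx hwp hw => ?_, fun h z hzx hzp hz => ?_⟩
      · obtain ⟨z, rfl⟩ := hout w hw
        obtain ⟨m, hm, ht⟩ := h z ((hle _ _).2 hwx) (by rw [← hc z, ← hc x]; exact hwp) ((hass z).2 hw)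
        exact ⟨m, hm, (trdegEQ_of_surjective hπ z m).1 ht⟩
      · obtain ⟨m, hm, ht⟩ := h (c z) ((hle _ _).1 hzx) (by rw [hc z, hzp]; exact (hc x).symm) ((hass z).1 hz)
        exact ⟨m, hm, (trdegEQ_of_surjective hπ z m).2 ht⟩
    rw [h]
    exact isConstructible_preimage_of_surjective hπ hker (isConstructible_assDimsIn_quot Z₀ Φ A)
  · have h : {x : PrimeSpectrum B | NoEmbFib A B N x} =
        c ⁻¹' {x | NoEmbFib A (MvPolynomial (Fin n) A) (Quot A Z₀) x} := by
      ext x
      refine Iff.trans ?_ (noEmbFib_congr _ g.symm (c x))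
      refine ⟨fun h w hwx hwp hw w' hw'w hw'p hw' => ?_, fun h z hzx hzp hz z' hz'z hz'p hz' => ?_⟩
      · obtain ⟨z, rfl⟩ := hout w hw
        obtain ⟨z', rfl⟩ := hout w' hw'
        rw [h z ((hle _ _).2 hwx) (by rw [← hc z, ← hc x]; exact hwp) ((hass z).2 hw) z' ((hle _ _).2 hw'w)
          (by rw [← hc z', ← hc z]; exact hw'p) ((hass z').2 hw')]
      · exact hinj (h (c z) ((hle _ _).1 hzx) (by rw [hc z, hzp]; exact (hc x).symm) ((hass z).1 hz) (c z')
          ((hle _ _).1 hz'z) (by rw [hc z', hc z, hz'p]) ((hass z').1 hz'))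
    rw [h]
    exact isConstructible_preimage_of_surjective hπ hker (isConstructible_noEmbFib_quot Z₀ A)

end Alg

end Groth.Agent.FibCodepth
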