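import Groth.Agent.FibCodepth.ConsRk
import Groth.Agent.FibCodepth.ConsScheme
import Groth.Agent.FibCodepth.ProperLoci
import Groth.Agent.EGA43Fib.Basic
import Groth.Agent.GeomLoc.SmoothRegular
import Groth.Agent.S2085

/-!
# Geometric `(R_n)` and geometric normality of fibres on schemes
-/

set_option autoImplicit false
set_option linter.style.haveILetI false

universe u

open CategoryTheory Limits AlgebraicGeometry IsLocalRing TensorProduct Topology
open Groth.Agent.AssSch.Stalk

namespace Groth.Agent.FibCodepth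

section OverField

variable {k : Type u} [Field k] {Z : Scheme.{u}}

/-- Every generization of dimension at most `n` is a point of smoothness. -/
def RkPt (g : Z ⟶ Spec (CommRingCat.of k)) (n : ℕ) (z : Z) : Prop :=
  ∀ w : Z, w ⤳ z → ringKrullDim (Z.presheaf.stalk w) ≤ (n : WithBot ℕ∞) → (g.stalkMap w).hom.FormallySmooth

variable (g : Z ⟶ Spec (CommRingCat.of k)) [LocallyOfFiniteType g]

/-- The chart form of `RkPt`. -/
theorem exists_chart_rkPt (n : ℕ) (z : Z) :
    letI : Z.Over (Spec (CommRingCat.of k)) := ⟨g⟩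
    ∃ (A : Type u) (_ : CommRing A) (_ : Algebra k A) (j : Spec (CommRingCat.of A) ⟶ Z) (p : PrimeSpectrum A)
      (_ : IsOpenImmersion j), j p = z ∧
      j ≫ g = Spec.map (CommRingCat.ofHom (algebraMap k A)) ∧ Algebra.FinitePresentation k A ∧
      (RkPt g n z ↔ SmRk k p.asIdeal n) ∧ Nonempty (Z.presheaf.stalk z ≃+* Localization.AtPrime p.asIdeal) := by
  letI : Z.Over (Spec (CommRingCat.of k)) := ⟨g⟩
  haveI : LocallyOfFiniteType (Z ↘ Spec (CommRingCat.of k)) := inferInstanceAs (LocallyOfFiniteType g)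
  haveI := GeomLoc.locallyOfFinitePresentation (k := k) (X := Z)
  obtain ⟨A, _, _, j, p, e, hjo, rfl, hj, -⟩ := GeomLoc.exists_chart k Z z
  haveI := hjo
  refine ⟨A, inferInstance, inferInstance, j, p, hjo, rfl, hj, GeomLoc.finitePresentation_of_chart j hj, ?_, ⟨e⟩⟩
  have hdim : ∀ q : PrimeSpectrum A, ringKrullDim (Z.presheaf.stalk (j q)) = (q.asIdeal.height : WithBot ℕ∞) := fun q =>
    (ringKrullDim_eq_of_ringEquiv (Groth.Agent.FBase.PointScheme.chartStalkEquiv j q)).trans
      (IsLocalization.AtPrime.ringKrullDim_eq_height q.asIdeal (Localization.AtPrime q.asIdeal))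
  have hsp : ∀ q : PrimeSpectrum A, j q ⤳ j p ↔ q.asIdeal ≤ p.asIdeal := fun q =>
    j.isOpenEmbedding.isInducing.specializes_iff.trans (PrimeSpectrum.le_iff_specializes q p).symm
  constructor
  · intro h q hqp hqn
    refine (GeomLoc.mem_smoothLocus_iff_chart (k := k) (X := Z) j hj q).1 (h (j q) ((hsp q).2 hqp) ?_)
    rw [hdim q]
    exact WithBot.coe_le_coe.2 hqn
  · intro h w hw hwn
    obtain ⟨q, rfl⟩ : w ∈ Set.range j := hw.mem_open j.isOpenEmbedding.isOpen_range ⟨p, rfl⟩
    rw [hdim q] at hwn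
    exact (GeomLoc.mem_smoothLocus_iff_chart (k := k) (X := Z) j hj q).2 (h q ((hsp q).1 hw) (WithBot.coe_le_coe.1 hwn))

/-- Geometric `(R_n)` over finite extensions. -/
theorem forall_hasRk_finite_iff_rkPt (n : ℕ) (z : Z) :
    (∀ (K : Type u) [Field K] [Algebra k K], Module.Finite k K → ∀ x' : ↥(FBase.bc g K),
      (FBase.bcπ g K).base x' = z → LocCoh.HasRk n ((FBase.bc g K).presheaf.stalk x')) ↔ RkPt g n z := by
  letI : Z.Over (Spec (CommRingCat.of k)) := ⟨g⟩
  obtain ⟨A, _, _, j, p, hjo, rfl, hj, hfp, hiff, -⟩ := exists_chart_rkPt g n z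
  haveI := hjo
  haveI := hfp
  rw [hiff]
  constructor
  · intro h
    refine smRk_of_hasRk_over p.asIdeal n fun L _ _ hf _ => ?_
    exact (GeomLoc.point_iff (k := k) (X := Z) j hj p L (fun R _ => LocCoh.HasRk n R) (hasRk_ringEquiv' n)).1 (h L hf)
  · intro h K _ _ _
    exact (GeomLoc.point_iff (k := k) (X := Z) j hj p K (fun R _ => LocCoh.HasRk n R) (hasRk_ringEquiv' n)).2
      fun P _ hP => hasRk_over_of_smRk p.asIdeal n h K P hP

/-- Geometric `(R_n)` over all extensions. -/
theorem forall_hasRk_iff_rkPt (n : ℕ) (z : Z) :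
    (∀ (K : Type u) [Field K] [Algebra k K] (x' : ↥(FBase.bc g K)),
      (FBase.bcπ g K).base x' = z → LocCoh.HasRk n ((FBase.bc g K).presheaf.stalk x')) ↔ RkPt g n z := by
  refine ⟨fun h => (forall_hasRk_finite_iff_rkPt g n z).1 fun K _ _ _ => h K, fun h K _ _ => ?_⟩
  letI : Z.Over (Spec (CommRingCat.of k)) := ⟨g⟩
  obtain ⟨A, _, _, j, p, hjo, rfl, hj, hfp, hiff, -⟩ := exists_chart_rkPt g n z
  haveI := hjo
  haveI := hfp
  exact (GeomLoc.point_iff (k := k) (X := Z) j hj p K (fun R _ => LocCoh.HasRk n R) (hasRk_ringEquiv' n)).2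
    fun P _ hP => hasRk_over_of_smRk p.asIdeal n (hiff.1 h) K P hP

/-- Geometric normality over finite extensions: geometric `(R_1)`, `(S_2)`; the local ring is then normal. -/
theorem forall_normal_finite_iff_rkPt (z : Z) :
    (∀ (K : Type u) [Field K] [Algebra k K], Module.Finite k K → ∀ x' : ↥(FBase.bc g K),
      (FBase.bcπ g K).base x' = z →
        IsDomain ((FBase.bc g K).presheaf.stalk x') ∧ IsIntegrallyClosed ((FBase.bc g K).presheaf.stalk x')) ↔
      RkPt g 1 z ∧ LocCoh.HasSk 2 (Z.presheaf.stalk z) (Z.presheaf.stalk z) := by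
  letI : Z.Over (Spec (CommRingCat.of k)) := ⟨g⟩
  obtain ⟨A, _, _, j, p, hjo, rfl, hj, hfp, hiff, ⟨e⟩⟩ := exists_chart_rkPt g 1 z
  haveI := hjo
  haveI := hfp
  rw [hiff]
  refine Iff.trans ?_ ((normal_over_iff_smRk (k := k) p.asIdeal).trans (and_congr_right fun _ =>
    ⟨GeomFieldLib.hasSk_of_ringEquiv 2 e.symm, GeomFieldLib.hasSk_of_ringEquiv 2 e⟩))
  exact forall_congr' fun L => forall_congr' fun _ => forall_congr' fun _ => forall_congr' fun _ =>
    GeomLoc.point_iff (k := k) (X := Z) j hj p L (fun R _ => GeomLoc.IsNormalLocal R) GeomLoc.isNormalLocal_congr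

theorem forall_normal_iff_finite (z : Z) :
    (∀ (K : Type u) [Field K] [Algebra k K] (x' : ↥(FBase.bc g K)), (FBase.bcπ g K).base x' = z →
        IsDomain ((FBase.bc g K).presheaf.stalk x') ∧ IsIntegrallyClosed ((FBase.bc g K).presheaf.stalk x')) ↔
    ∀ (K : Type u) [Field K] [Algebra k K], Module.Finite k K → ∀ x' : ↥(FBase.bc g K),
      (FBase.bcπ g K).base x' = z →
        IsDomain ((FBase.bc g K).presheaf.stalk x') ∧ IsIntegrallyClosed ((FBase.bc g K).presheaf.stalk x') := by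
  letI : Z.Over (Spec (CommRingCat.of k)) := ⟨g⟩
  refine ⟨fun h K _ _ _ => h K, fun h K _ _ => ?_⟩
  exact (GeomLoc.normal_points_of_pi (k := k) (X := Z) z (fun L _ _ hf _ => h L hf) K).1

/-- A geometrically normal point has a domain as local ring. -/
theorem isDomain_stalk_of_rkPt (z : Z) (hR : RkPt g 1 z)
    (hS : LocCoh.HasSk 2 (Z.presheaf.stalk z) (Z.presheaf.stalk z)) : IsDomain (Z.presheaf.stalk z) := by
  letI : Z.Over (Spec (CommRingCat.of k)) := ⟨g⟩
  obtain ⟨A, _, _, j, p, hjo, rfl, hj, hfp, hiff, ⟨e⟩⟩ := exists_chart_rkPt g 1 z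
  haveI := hfp
  have h := (GeomLoc.normal_over_iff p.asIdeal k).1
    ((normal_over_iff_smRk (k := k) p.asIdeal).2 ⟨hiff.1 hR, GeomFieldLib.hasSk_of_ringEquiv 2 e hS⟩ k inferInstance)
  have h' := EGA4Lib.isNormalRing_of_ringEquiv (Algebra.TensorProduct.lid k (Localization.AtPrime p.asIdeal)).toRingEquiv h
  let L := Localization.AtPrime p.asIdeal
  haveI := (h' (IsLocalRing.maximalIdeal L)).1
  let e' : L ≃ₐ[L] Localization.AtPrime (IsLocalRing.maximalIdeal L) :=
    IsLocalization.atUnits L (IsLocalRing.maximalIdeal L).primeCompl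
      fun a ha => (IsLocalRing.notMem_maximalIdeal).1 ha
  exact (e.trans e'.toRingEquiv).injective.isDomain (e.trans e'.toRingEquiv).toRingHom

end OverField

section Fibre

theorem isEquidimModule_self_iff (R : Type u) [CommRing R] : EGA4.IsEquidimModule R R ↔ EGA4.IsEquidim R := by
  have h : Module.annihilator R R = (⊥ : Ideal R) := by
    ext a
    simp only [Module.mem_annihilator, smul_eq_mul, Ideal.mem_bot]
    exact ⟨fun h => by simpa using h 1, fun h m => by rw [h, zero_mul]⟩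
  unfold EGA4.IsEquidimModule EGA4.IsEquidim
  rw [h, Module.supportDim_self_eq_ringKrullDim]

theorem isEquidim_of_isDomain (R : Type u) [CommRing R] [IsDomain R] : EGA4.IsEquidim R := by
  intro p hp
  rw [IsDomain.minimalPrimes_eq_singleton_bot, Set.mem_singleton_iff] at hp
  subst hp
  exact ringKrullDim_eq_of_ringEquiv (RingEquiv.quotientBot R)

theorem forall_ass_minimal_iff (R : Type u) [CommRing R] [IsNoetherianRing R] :
    (∀ p ∈ associatedPrimes R R, p ∈ minimalPrimes R) ↔ LocCoh.HasSk 1 R R := by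
  have h : Module.annihilator R R = (⊥ : Ideal R) := by
    ext a
    simp only [Module.mem_annihilator, smul_eq_mul, Ideal.mem_bot]
    exact ⟨fun h => by simpa using h 1, fun h m => by rw [h, zero_mul]⟩
  refine Iff.trans ?_ (S2085.result (R := R) (M := R))
  rw [h]

variable {X Y : Scheme.{u}} (f : X ⟶ Y)

theorem locallyOfFiniteType_fiberToSpec [LocallyOfFiniteType f] (s : Y) :
    LocallyOfFiniteType (f.fiberToSpecResidueField s) :=
  MorphismProperty.of_isPullback (P := @LocallyOfFiniteType)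
    (IsPullback.of_hasPullback f (Y.fromSpecResidueField s)) inferInstance

/-- A property of a point in a fibre depends only on the point of the total space. -/
theorem fiber_transfer (P : (y : Y) → ↥(f.fiber y) → Prop) (y : Y) (w : f.fiber y)
    (h : P (f.base (f.fiberι y w)) (f.asFiber (f.fiberι y w))) : P y w := by
  generalize hx : f.fiberι y w = x at h
  obtain rfl : f x = y := hx ▸ fiber_fiberι f y w
  obtain rfl : w = f.asFiber x := (f.fiberι (f x)).isEmbedding.injective (hx.trans (f.fiberι_asFiber x).symm)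
  exact h

variable {V : Y.Opens} (hV : IsAffineOpen V) {U : X.Opens} (hU : IsAffineOpen U) (e : U ≤ f ⁻¹ᵁ V)
  [LocallyOfFiniteType f]

include hV hU in
theorem smFib_iff_chart (s : Y) (y : f.fiber s) (x : X) (hxy : f.fiberι s y = x) (hx : x ∈ U) :
    letI := (f.appLE V U e).hom.toAlgebra
    ((f.fiberToSpecResidueField s).stalkMap y).hom.FormallySmooth ↔
      SmFib Γ(Y, V) (hU.primeIdealOf ⟨x, hx⟩) := by
  subst hxy
  letI := (f.appLE V U e).hom.toAlgebra
  haveI : Algebra.FiniteType Γ(Y, V) Γ(X, U) := f.finiteType_appLE hV hU e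
  rw [FlatOpen.SmoothAt.formallySmooth_fibre_iff]
  generalize f.fiberι s y = x at hx ⊢
  let A := Y.presheaf.stalk (f x)
  let B := X.presheaf.stalk x
  letI : Algebra Γ(Y, V) A := Y.presheaf.algebra_section_stalk ⟨f x, e hx⟩
  letI : Algebra Γ(X, U) B := X.presheaf.algebra_section_stalk ⟨x, hx⟩
  have hu : (hU.primeIdealOf ⟨x, hx⟩).asIdeal.under Γ(Y, V) = (hV.primeIdealOf ⟨f x, e hx⟩).asIdeal := by
    refine congrArg PrimeSpectrum.asIdeal (a₁ := PrimeSpectrum.comap (f.appLE V U e).hom (hU.primeIdealOf ⟨x, hx⟩)) ?_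
    exact hV.fromSpec.isOpenEmbedding.injective
      (((congr($(IsAffineOpen.SpecMap_appLE_fromSpec f hV hU e) (hU.primeIdealOf ⟨x, hx⟩))).trans
        (congrArg f (hU.fromSpec_primeIdealOf ⟨x, hx⟩))).trans (hV.fromSpec_primeIdealOf ⟨f x, e hx⟩).symm)
  haveI : IsLocalization.AtPrime A ((hU.primeIdealOf ⟨x, hx⟩).asIdeal.under Γ(Y, V)) := by
    have := hV.isLocalization_stalk ⟨f x, e hx⟩
    unfold IsLocalization.AtPrime at this ⊢
    convert this
  haveI : IsLocalization.AtPrime B (hU.primeIdealOf ⟨x, hx⟩).asIdeal := hU.isLocalization_stalk ⟨x, hx⟩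
  letI : Algebra A B := (f.stalkMap x).hom.toAlgebra
  letI : Algebra Γ(Y, V) B := ((algebraMap Γ(X, U) B).comp (algebraMap Γ(Y, V) Γ(X, U))).toAlgebra
  haveI : IsScalarTower Γ(Y, V) Γ(X, U) B := IsScalarTower.of_algebraMap_eq fun _ => rfl
  haveI : IsScalarTower Γ(Y, V) A B := IsScalarTower.of_algebraMap_eq fun a => by
    show X.presheaf.germ U x hx (f.appLE V U e a) =
      (f.stalkMap x).hom (Y.presheaf.germ V (f x) (e hx) a)
    exact ((f.germ_stalkMap_apply V x (e hx) a).trans
      (TopCat.Presheaf.germ_res_apply X.presheaf (homOfLE e) x hx (f.app V a)).symm).symm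
  haveI : IsLocalHom (algebraMap A B) := (inferInstance : IsLocalHom (f.stalkMap x).hom)
  exact closedMap_formallySmooth_iff_smFib (A' := A) (B' := B) (hU.primeIdealOf ⟨x, hx⟩)

include hV hU in
theorem rkPt_iff_chart (n : ℕ) (s : Y) (y : f.fiber s) (x : X) (hxy : f.fiberι s y = x) (hx : x ∈ U) :
    letI := (f.appLE V U e).hom.toAlgebra
    RkPt (f.fiberToSpecResidueField s) n y ↔ ¬ BadRk Γ(Y, V) n (hU.primeIdealOf ⟨x, hx⟩) := by
  letI := (f.appLE V U e).hom.toAlgebra
  haveI : Algebra.FiniteType Γ(Y, V) Γ(X, U) := f.finiteType_appLE hV hU e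
  set q := hU.primeIdealOf ⟨x, hx⟩
  let p := q.asIdeal.under Γ(Y, V)
  obtain ⟨Q, hQ⟩ := exists_fibre_pt (A := Γ(Y, V)) q rfl
  rw [badRk_iff_not_smRk n q (p := p) rfl Q hQ, not_not]
  have hdim : ∀ (z : PrimeSpectrum Γ(X, U)) (hz : z.asIdeal.under Γ(Y, V) = p) (P : PrimeSpectrum (p.Fiber Γ(X, U))),
      P.asIdeal.comap Algebra.TensorProduct.includeRight.toRingHom = z.asIdeal →
      ringKrullDim (EGA4.FibLocRing Γ(Y, V) Γ(X, U) z.asIdeal) = (P.asIdeal.height : WithBot ℕ∞) := by
    intro z hz P hP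
    haveI : z.asIdeal.LiesOver p := ⟨hz.symm⟩
    obtain ⟨ψ⟩ := RelDim.nonempty_equiv_fibLocRing p z.asIdeal P.asIdeal hP
    rw [ringKrullDim_eq_of_ringEquiv ψ,
      IsLocalization.AtPrime.ringKrullDim_eq_height P.asIdeal (Localization.AtPrime P.asIdeal)]
  refine Iff.trans ?_ ((forall_gen_iff f hV hU e (fun z => ringKrullDim (EGA4.FibLocRing Γ(Y, V) Γ(X, U) z.asIdeal) ≤
    (n : WithBot ℕ∞) → SmFib Γ(Y, V) z) y hxy hx).trans ?_)
  · constructor
    · intro h w hw hwy hd
      rw [← ringKrullDim_fibre_stalk f hV hU e s w _ rfl hw] at hd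
      exact (smFib_iff_chart f hV hU e s w _ rfl hw).1 (h w hwy hd)
    · intro h w hwy hd
      have hw := mem_of_specializes_fibre f hwy hxy hx
      rw [ringKrullDim_fibre_stalk f hV hU e s w _ rfl hw] at hd
      exact (smFib_iff_chart f hV hU e s w _ rfl hw).2 (h w hw hwy hd)
  · constructor
    · intro h P hPQ hPn
      let z : PrimeSpectrum Γ(X, U) := ⟨P.asIdeal.comap Algebra.TensorProduct.includeRight.toRingHom, inferInstance⟩
      have hzp : z.asIdeal.under Γ(Y, V) = p := congrArg PrimeSpectrum.asIdeal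
        ((PrimeSpectrum.preimageOrderIsoFiber Γ(Y, V) Γ(X, U) ⟨p, inferInstance⟩).symm P).2
      exact (smFib_iff Γ(Y, V) z hzp P rfl).1
        (h z (hQ ▸ Ideal.comap_mono hPQ) hzp ((hdim z hzp P rfl).trans_le (WithBot.coe_le_coe.2 hPn)))
    · intro h z hzq hzp hd
      obtain ⟨P, hP⟩ := exists_fibre_pt z hzp
      refine (smFib_iff Γ(Y, V) z hzp P hP).2
        (h P (fibre_le_of_le P Q ((hP.le.trans hzq).trans hQ.ge)) (WithBot.coe_le_coe.1 ((hdim z hzp P hP).symm.trans_le hd)))

attribute [local instance] Algebra.TensorProduct.rightAlgebra in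
include hV hU in
theorem equidim_and_sk_ring_iff_chart (k : ℕ) (hk : 1 ≤ k) (s : Y) (y : f.fiber s) (x : X)
    (hxy : f.fiberι s y = x) (hx : x ∈ U) :
    letI := (f.appLE V U e).hom.toAlgebra
    (EGA4.IsEquidim ((f.fiber s).presheaf.stalk y) ∧
      LocCoh.HasSk k ((f.fiber s).presheaf.stalk y) ((f.fiber s).presheaf.stalk y)) ↔
      FibSk Γ(Y, V) Γ(X, U) Γ(X, U) (hU.primeIdealOf ⟨x, hx⟩) k ∧
        ∃ j, AssDimsIn Γ(Y, V) Γ(X, U) Γ(X, U) {j} (hU.primeIdealOf ⟨x, hx⟩) := by
  letI := (f.appLE V U e).hom.toAlgebra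
  haveI : Algebra.FiniteType Γ(Y, V) Γ(X, U) := f.finiteType_appLE hV hU e
  rw [hasSk_ring_iff_chart f hV hU e inferInstance k s y x hxy hx, and_comm]
  refine and_congr_right fun hsk => ?_
  subst hxy
  set q := hU.primeIdealOf ⟨f.fiberι s y, hx⟩
  haveI := isLocalRing_fibLocRing (A := Γ(Y, V)) q.asIdeal
  let p := q.asIdeal.under Γ(Y, V)
  haveI : q.asIdeal.LiesOver p := ⟨rfl⟩
  letI := fibreAlg f s y hx
  obtain ⟨ε⟩ := nonempty_fibre_ring_chart f hV hU e s y hx
  obtain ⟨Q, hQ⟩ := RelDim.exists_over Γ(Y, V) Γ(X, U) q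
  obtain ⟨ψ⟩ := nonempty_fibre_algEquiv (A := Γ(Y, V)) p Q q.asIdeal hQ
  let μ : (f.fiber s).presheaf.stalk y ≃ₗ[(f.fiber s).presheaf.stalk y]
      (f.fiber s).presheaf.stalk y ⊗[Γ(X, U)] Γ(X, U) :=
    (AlgebraTensorModule.rid Γ(X, U) ((f.fiber s).presheaf.stalk y) ((f.fiber s).presheaf.stalk y)).symm
  exact ((isEquidimModule_self_iff _).symm.trans
    ((isEquidimModule_congr μ).trans (isEquidimModule_tensor_algEquiv (ψ.trans ε) Γ(X, U)).symm)).trans
    (isEquidimModule_iff_exists_assDims Γ(X, U) Q q hQ k hk hsk)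

include hV hU in
theorem rkClause_iff_chart (n : ℕ) (s : Y) (y : f.fiber s) (x : X) (hxy : f.fiberι s y = x) (hx : x ∈ U) :
    letI := (f.appLE V U e).hom.toAlgebra
    ((∀ (K : Type u) [Field K] [Algebra (IsLocalRing.ResidueField (Y.presheaf.stalk s)) K],
        Module.Finite (IsLocalRing.ResidueField (Y.presheaf.stalk s)) K →
        ∀ x' : ↥(FBase.bc (f.fiberToSpecResidueField s) K),
          (FBase.bcπ (f.fiberToSpecResidueField s) K).base x' = y →
          LocCoh.HasRk n ((FBase.bc (f.fiberToSpecResidueField s) K).presheaf.stalk x')) ∧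
      EGA4.IsEquidim ↑((f.fiber s).presheaf.stalk y) ∧
      ∀ p ∈ associatedPrimes ↑((f.fiber s).presheaf.stalk y) ↑((f.fiber s).presheaf.stalk y),
        p ∈ minimalPrimes ↑((f.fiber s).presheaf.stalk y)) ↔
      FibSk Γ(Y, V) Γ(X, U) Γ(X, U) (hU.primeIdealOf ⟨x, hx⟩) 1 ∧
        (∃ j, AssDimsIn Γ(Y, V) Γ(X, U) Γ(X, U) {j} (hU.primeIdealOf ⟨x, hx⟩)) ∧
        ¬ BadRk Γ(Y, V) n (hU.primeIdealOf ⟨x, hx⟩) := by
  haveI : LocallyOfFiniteType (X := f.fiber s) (Y := Spec (CommRingCat.of (IsLocalRing.ResidueField (Y.presheaf.stalk s))))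
    (f.fiberToSpecResidueField s) := locallyOfFiniteType_fiberToSpec f s
  haveI : IsLocallyNoetherian (f.fiber s) := LocallyOfFiniteType.isLocallyNoetherian (f.fiberToSpecResidueField s)
  rw [forall_hasRk_finite_iff_rkPt (f.fiberToSpecResidueField s) n y, rkPt_iff_chart f hV hU e n s y x hxy hx,
    forall_ass_minimal_iff, equidim_and_sk_ring_iff_chart f hV hU e 1 le_rfl s y x hxy hx]
  tauto

include hV hU in
theorem normalClause_iff_chart (s : Y) (y : f.fiber s) (x : X) (hxy : f.fiberι s y = x) (hx : x ∈ U) :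
    letI := (f.appLE V U e).hom.toAlgebra
    (∀ (K : Type u) [Field K] [Algebra (IsLocalRing.ResidueField (Y.presheaf.stalk s)) K],
        Module.Finite (IsLocalRing.ResidueField (Y.presheaf.stalk s)) K →
        ∀ x' : ↥(FBase.bc (f.fiberToSpecResidueField s) K),
          (FBase.bcπ (f.fiberToSpecResidueField s) K).base x' = y →
          IsDomain ((FBase.bc (f.fiberToSpecResidueField s) K).presheaf.stalk x') ∧
            IsIntegrallyClosed ((FBase.bc (f.fiberToSpecResidueField s) K).presheaf.stalk x')) ↔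
      FibSk Γ(Y, V) Γ(X, U) Γ(X, U) (hU.primeIdealOf ⟨x, hx⟩) 2 ∧
        (∃ j, AssDimsIn Γ(Y, V) Γ(X, U) Γ(X, U) {j} (hU.primeIdealOf ⟨x, hx⟩)) ∧
        ¬ BadRk Γ(Y, V) 1 (hU.primeIdealOf ⟨x, hx⟩) := by
  haveI : LocallyOfFiniteType (X := f.fiber s) (Y := Spec (CommRingCat.of (IsLocalRing.ResidueField (Y.presheaf.stalk s))))
    (f.fiberToSpecResidueField s) := locallyOfFiniteType_fiberToSpec f s
  rw [forall_normal_finite_iff_rkPt (f.fiberToSpecResidueField s) y]
  constructor
  · rintro ⟨hR, hS⟩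
    haveI := isDomain_stalk_of_rkPt (f.fiberToSpecResidueField s) y hR hS
    obtain ⟨h1, h2⟩ := (equidim_and_sk_ring_iff_chart f hV hU e 2 one_le_two s y x hxy hx).1
      ⟨isEquidim_of_isDomain _, hS⟩
    exact ⟨h1, h2, (rkPt_iff_chart f hV hU e 1 s y x hxy hx).1 hR⟩
  · rintro ⟨h1, h2, h3⟩
    exact ⟨(rkPt_iff_chart f hV hU e 1 s y x hxy hx).2 h3,
      ((equidim_and_sk_ring_iff_chart f hV hU e 2 one_le_two s y x hxy hx).2 ⟨h1, h2⟩).2⟩

end Fibre

section Global

variable {X Y : Scheme.{u}} (f : X ⟶ Y) [LocallyOfFinitePresentation f]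

/-- EGA IV 12.1.1 (vii). -/
theorem isOpen_geomRk_equidim_noEmb [Flat f] (n : ℕ) :
    IsOpen {x : X | (∀ (K : Type u) [Field K] [Algebra (IsLocalRing.ResidueField (Y.presheaf.stalk (f.base x))) K],
        Module.Finite (IsLocalRing.ResidueField (Y.presheaf.stalk (f.base x))) K →
        ∀ x' : ↥(FBase.bc (f.fiberToSpecResidueField (f.base x)) K),
          (FBase.bcπ (f.fiberToSpecResidueField (f.base x)) K).base x' = f.asFiber x →
          LocCoh.HasRk n ((FBase.bc (f.fiberToSpecResidueField (f.base x)) K).presheaf.stalk x')) ∧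
      EGA4.IsEquidim ↑((f.fiber (f.base x)).presheaf.stalk (f.asFiber x)) ∧
      (∀ p ∈ associatedPrimes ↑((f.fiber (f.base x)).presheaf.stalk (f.asFiber x)) ↑((f.fiber (f.base x)).presheaf.stalk (f.asFiber x)),
        p ∈ minimalPrimes ↑((f.fiber (f.base x)).presheaf.stalk (f.asFiber x)))} := by
  rw [isOpen_iff_forall_mem_open]
  intro x₀ hx₀
  obtain ⟨V, U, hV, hU, e, hx₀U⟩ := FlatSect.exists_chart f x₀
  letI := (f.appLE V U e).hom.toAlgebra
  haveI : Algebra.FinitePresentation Γ(Y, V) Γ(X, U) := f.finitePresentation_appLE hV hU e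
  haveI : Module.Flat Γ(Y, V) Γ(X, U) := f.flat_appLE hV hU e
  have hopen := isOpen_goodRk (A := Γ(Y, V)) (B := Γ(X, U)) n 1 le_rfl
  have hiff : ∀ x (hx : x ∈ U), _ ↔ hU.primeIdealOf ⟨x, hx⟩ ∈ {q | _ } := fun x hx =>
    rkClause_iff_chart f hV hU e n (f.base x) (f.asFiber x) x (f.fiberι_asFiber x) hx
  obtain ⟨W, hW, hWm⟩ := exists_open_of_primeIdealOf hU hopen
  exact ⟨W ∩ U, fun x hx => (hiff x hx.2).2 ((hWm x hx.2).1 hx.1), hW.inter U.2,
    (hWm x₀ hx₀U).2 ((hiff x₀ hx₀U).1 hx₀), hx₀U⟩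

/-- EGA IV 12.1.7: flat points with geometrically normal fibre. -/
theorem isOpen_flat_geomNormal :
    IsOpen {x : X | (f.stalkMap x).hom.Flat ∧
      ∀ (K : Type u) [Field K] [Algebra (IsLocalRing.ResidueField (Y.presheaf.stalk (f.base x))) K],
        Module.Finite (IsLocalRing.ResidueField (Y.presheaf.stalk (f.base x))) K →
        ∀ x' : ↥(FBase.bc (f.fiberToSpecResidueField (f.base x)) K),
          (FBase.bcπ (f.fiberToSpecResidueField (f.base x)) K).base x' = f.asFiber x →
          IsDomain ((FBase.bc (f.fiberToSpecResidueField (f.base x)) K).presheaf.stalk x') ∧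
            IsIntegrallyClosed ((FBase.bc (f.fiberToSpecResidueField (f.base x)) K).presheaf.stalk x')} := by
  rw [isOpen_iff_forall_mem_open]
  intro x₀ hx₀
  let W : X.Opens := ⟨_, FlatOpen.Scheme.isOpen_stalkMap_flat f⟩
  obtain ⟨V, U, hV, hU, e, hx₀U, hUW, hfl⟩ := exists_flat_chart f W (fun x hx => hx) x₀ hx₀.1
  letI := (f.appLE V U e).hom.toAlgebra
  haveI : Algebra.FinitePresentation Γ(Y, V) Γ(X, U) := f.finitePresentation_appLE hV hU e
  haveI := hfl
  have hopen := isOpen_goodRk (A := Γ(Y, V)) (B := Γ(X, U)) 1 2 one_le_two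
  have hiff : ∀ x (hx : x ∈ U), _ ↔ hU.primeIdealOf ⟨x, hx⟩ ∈ {q | _ } := fun x hx =>
    normalClause_iff_chart f hV hU e (f.base x) (f.asFiber x) x (f.fiberι_asFiber x) hx
  obtain ⟨T, hT, hTm⟩ := exists_open_of_primeIdealOf hU hopen
  exact ⟨T ∩ U, fun x hx => ⟨hUW hx.2, (hiff x hx.2).2 ((hTm x hx.2).1 hx.1)⟩, hT.inter U.2,
    (hTm x₀ hx₀U).2 ((hiff x₀ hx₀U).1 hx₀.2), hx₀U⟩

omit [LocallyOfFinitePresentation f] in
theorem isOpen_forall_fiber' [IsProper f] (P : (y : Y) → ↥(f.fiber y) → Prop)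
    (hopen : IsOpen {x : X | P (f.base x) (f.asFiber x)}) : IsOpen {y : Y | ∀ w, P y w} :=
  isOpen_forall_fiber f P hopen (fiber_transfer f P)

/-- EGA IV 12.2.4: the base locus for geometric `(R_n)`. -/
theorem isOpen_base_geomRk_equidim_noEmb [IsProper f] [Flat f] (n : ℕ) :
    IsOpen {y : Y | ∀ x : ↥(f.fiber y), (∀ (K : Type u) [Field K] [Algebra (IsLocalRing.ResidueField (Y.presheaf.stalk y)) K],
        Module.Finite (IsLocalRing.ResidueField (Y.presheaf.stalk y)) K →
        ∀ x' : ↥(FBase.bc (f.fiberToSpecResidueField y) K),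
          (FBase.bcπ (f.fiberToSpecResidueField y) K).base x' = x →
          LocCoh.HasRk n ((FBase.bc (f.fiberToSpecResidueField y) K).presheaf.stalk x')) ∧
      EGA4.IsEquidim ↑((f.fiber y).presheaf.stalk x) ∧
      (∀ p ∈ associatedPrimes ↑((f.fiber y).presheaf.stalk x) ↑((f.fiber y).presheaf.stalk x),
        p ∈ minimalPrimes ↑((f.fiber y).presheaf.stalk x))} := by
  refine isOpen_forall_fiber' f _ ?_
  exact isOpen_geomRk_equidim_noEmb f n

/-- EGA IV 12.2.4: the base locus for geometric normality. -/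
theorem isOpen_base_geomNormal [IsProper f] [Flat f] :
    IsOpen {y : Y | ∀ x : ↥(f.fiber y), (∀ (K : Type u) [Field K] [Algebra (IsLocalRing.ResidueField (Y.presheaf.stalk y)) K],
        Module.Finite (IsLocalRing.ResidueField (Y.presheaf.stalk y)) K →
        ∀ x' : ↥(FBase.bc (f.fiberToSpecResidueField y) K),
          (FBase.bcπ (f.fiberToSpecResidueField y) K).base x' = x →
          IsDomain ((FBase.bc (f.fiberToSpecResidueField y) K).presheaf.stalk x') ∧
            IsIntegrallyClosed ((FBase.bc (f.fiberToSpecResidueField y) K).presheaf.stalk x'))} := by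
  refine isOpen_forall_fiber' f _ ?_
  have h := isOpen_flat_geomNormal f
  have hflat : ∀ x : X, (f.stalkMap x).hom.Flat := fun x => Flat.stalkMap f x
  simpa only [hflat, true_and] using h

/-- EGA IV 9.9: fibrewise geometric `(R_n)` is locally constructible. -/
theorem isLocallyConstructible_geomRk (n : ℕ) :
    IsLocallyConstructible {x : X |
      ∀ (K : Type u) [Field K] [Algebra (IsLocalRing.ResidueField (Y.presheaf.stalk (f.base x))) K]
        (x' : ↥(FBase.bc (f.fiberToSpecResidueField (f.base x)) K)),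
        (FBase.bcπ (f.fiberToSpecResidueField (f.base x)) K).base x' = f.asFiber x →
          LocCoh.HasRk n ((FBase.bc (f.fiberToSpecResidueField (f.base x)) K).presheaf.stalk x')} := by
  refine isLocallyConstructible_of_charts f _ fun V U hV hU e hfp => ?_
  letI := (f.appLE V U e).hom.toAlgebra
  haveI := hfp
  refine ⟨_, (isConstructible_badRk Γ(Y, V) Γ(X, U) n).compl, fun x hx => ?_⟩
  haveI : LocallyOfFiniteType (X := f.fiber (f.base x)) (Y := Spec (CommRingCat.of (IsLocalRing.ResidueField (Y.presheaf.stalk (f.base x)))))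
    (f.fiberToSpecResidueField (f.base x)) := locallyOfFiniteType_fiberToSpec f (f.base x)
  exact (forall_hasRk_iff_rkPt _ n _).trans
    (rkPt_iff_chart f hV hU e n (f.base x) (f.asFiber x) x (f.fiberι_asFiber x) hx)

/-- EGA IV 9.9: fibrewise geometric normality is locally constructible. -/
theorem isLocallyConstructible_geomNormal :
    IsLocallyConstructible {x : X |
      ∀ (K : Type u) [Field K] [Algebra (IsLocalRing.ResidueField (Y.presheaf.stalk (f.base x))) K]
        (x' : ↥(FBase.bc (f.fiberToSpecResidueField (f.base x)) K)),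
        (FBase.bcπ (f.fiberToSpecResidueField (f.base x)) K).base x' = f.asFiber x →
          (IsDomain ((FBase.bc (f.fiberToSpecResidueField (f.base x)) K).presheaf.stalk x') ∧
            IsIntegrallyClosed ((FBase.bc (f.fiberToSpecResidueField (f.base x)) K).presheaf.stalk x'))} := by
  refine isLocallyConstructible_of_charts f _ fun V U hV hU e hfp => ?_
  letI := (f.appLE V U e).hom.toAlgebra
  haveI := hfp
  refine ⟨_, (isConstructible_badRk Γ(Y, V) Γ(X, U) 1).compl.inter
    (isConstructible_fibSk_codepthLE (A := Γ(Y, V)) (B := Γ(X, U)) Γ(X, U) 2).1, fun x hx => ?_⟩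
  haveI : LocallyOfFiniteType (X := f.fiber (f.base x)) (Y := Spec (CommRingCat.of (IsLocalRing.ResidueField (Y.presheaf.stalk (f.base x)))))
    (f.fiberToSpecResidueField (f.base x)) := locallyOfFiniteType_fiberToSpec f (f.base x)
  exact ((forall_normal_iff_finite _ _).trans (forall_normal_finite_iff_rkPt _ _)).trans
    (and_congr (rkPt_iff_chart f hV hU e 1 (f.base x) (f.asFiber x) x (f.fiberι_asFiber x) hx)
      (hasSk_ring_iff_chart f hV hU e inferInstance 2 (f.base x) (f.asFiber x) x (f.fiberι_asFiber x) hx))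

/-- A condition on all points of a fibre, for a morphism of finite presentation. -/
theorem isLocallyConstructible_forall_fiber [QuasiCompact f] (P : (y : Y) → ↥(f.fiber y) → Prop)
    (h : IsLocallyConstructible {x : X | P (f.base x) (f.asFiber x)}) :
    IsLocallyConstructible {y : Y | ∀ w, P y w} := by
  have heq : {y : Y | ∀ w, P y w} = {y : Y | f ⁻¹' {y} ⊆ {x : X | P (f.base x) (f.asFiber x)}} := by
    ext y
    constructor
    · intro hy x hx
      obtain rfl : f.base x = y := hx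
      exact hy _
    · exact fun hy w => fiber_transfer f P y w (hy (fiber_fiberι f y w))
  rw [heq]
  exact EGA43Fib.isLocallyConstructible_setOf_fibre_subset f h

end Global

end Groth.Agent.FibCodepth
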