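import Groth.Agent.FibCodepth.ConsAss
import Groth.Agent.FibCodepth.GeomRkScheme
import Groth.Agent.LimTop.Cons

/-!
# Local constructibility of the fibrewise associated-point loci on schemes
-/

set_option autoImplicit false
set_option linter.style.haveILetI false

universe u

open CategoryTheory Limits AlgebraicGeometry IsLocalRing TensorProduct Topology

namespace Groth.Agent.FibCodepth

variable {X Y : Scheme.{u}} (f : X ⟶ Y) [LocallyOfFinitePresentation f] (F : X.Modules)

/-- The points at which the associated cycles of the fibre have dimensions in `Φ`. -/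
theorem isLocallyConstructible_assDims (hF : CohB1.IsFP F) (Φ : Finset ℕ) :
    IsLocallyConstructible {x : X | ∀ z ∈ AssSch.Ass ((Scheme.Modules.pullback (f.fiberι (f.base x))).obj F),
      f.asFiber x ∈ closure {z} →
      ∃ n ∈ Φ, topologicalKrullDim ↥(closure ({z} : Set ↥(f.fiber (f.base x)))) = (n : WithBot ℕ∞)} := by
  haveI : SheafOfModules.IsFinitePresentation.{u} F := hF
  haveI : F.IsQuasicoherent := by
    obtain ⟨σ, -⟩ := SheafOfModules.IsFinitePresentation.exists_quasicoherentData.{u} F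
    exact { nonempty_quasicoherentData := ⟨σ⟩ }
  refine isLocallyConstructible_of_charts f _ fun V U hV hU e hfp => ?_
  letI := (f.appLE V U e).hom.toAlgebra
  haveI := hfp
  haveI : Module.FinitePresentation Γ(X, U) Γ(F, U) := Props.QFP.finitePresentation_sections_of_isFP F hU
  exact ⟨_, (isConstructible_assLoci (A := Γ(Y, V)) (B := Γ(X, U)) Γ(F, U) Φ).1, fun x hx =>
    assDims_iff_chart f hV hU e F inferInstance Φ (f.base x) (f.asFiber x) x (f.fiberι_asFiber x) hx⟩

/-- The points through which no embedded associated cycle of the fibre passes. -/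
theorem isLocallyConstructible_noEmb (hF : CohB1.IsFP F) :
    IsLocallyConstructible {x : X | ∀ z ∈ AssSch.Ass ((Scheme.Modules.pullback (f.fiberι (f.base x))).obj F),
      f.asFiber x ∈ closure {z} →
      ∀ z' ∈ AssSch.Ass ((Scheme.Modules.pullback (f.fiberι (f.base x))).obj F), z ∈ closure {z'} → z' = z} := by
  haveI : SheafOfModules.IsFinitePresentation.{u} F := hF
  haveI : F.IsQuasicoherent := by
    obtain ⟨σ, -⟩ := SheafOfModules.IsFinitePresentation.exists_quasicoherentData.{u} F
    exact { nonempty_quasicoherentData := ⟨σ⟩ }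
  refine isLocallyConstructible_of_charts f _ fun V U hV hU e hfp => ?_
  letI := (f.appLE V U e).hom.toAlgebra
  haveI := hfp
  haveI : Module.FinitePresentation Γ(X, U) Γ(F, U) := Props.QFP.finitePresentation_sections_of_isFP F hU
  exact ⟨_, (isConstructible_assLoci (A := Γ(Y, V)) (B := Γ(X, U)) Γ(F, U) ∅).2, fun x hx =>
    noEmb_iff_chart f hV hU e F inferInstance (f.base x) (f.asFiber x) x (f.fiberι_asFiber x) hx⟩

/-- EGA IV 9.8.3: the fibres without embedded associated points. -/
theorem isLocallyConstructible_base_noEmbedded [QuasiCompact f] (hF : CohB1.IsFP F) :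
    IsLocallyConstructible {s : Y | AssSch.NoEmbedded ((Scheme.Modules.pullback (f.fiberι s)).obj F)} := by
  have h := isLocallyConstructible_forall_fiber f
    (fun s w => ∀ z ∈ AssSch.Ass ((Scheme.Modules.pullback (f.fiberι s)).obj F), w ∈ closure {z} →
      ∀ z' ∈ AssSch.Ass ((Scheme.Modules.pullback (f.fiberι s)).obj F), z ∈ closure {z'} → z' = z)
    (isLocallyConstructible_noEmb f F hF)
  convert h using 1
  ext s
  constructor
  · intro hs w z hz _ z' hz' hzz'
    exact (hs z hz z' hz' (specializes_iff_mem_closure.2 hzz')).symm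
  · intro hs x hx y hy hyx
    exact (hs x x hx (subset_closure rfl) y hy hyx.mem_closure).symm

/-- EGA IV 9.8.5: the function `s ↦ {dim of associated cycles}` is constructible. -/
theorem isLocallyConstructible_base_assDims_eq [QuasiCompact f] (hF : CohB1.IsFP F) (Φ : Finset ℕ) :
    IsLocallyConstructible {s : Y |
      (fun z : ↥(f.fiber s) => topologicalKrullDim ↥(closure ({z} : Set ↥(f.fiber s)))) ''
          AssSch.Ass ((Scheme.Modules.pullback (f.fiberι s)).obj F) =
        (fun n : ℕ => (n : WithBot ℕ∞)) '' (Φ : Set ℕ)} := by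
  let In : Finset ℕ → Set Y := fun Ψ => {s : Y | ∀ w : ↥(f.fiber s),
    ∀ z ∈ AssSch.Ass ((Scheme.Modules.pullback (f.fiberι s)).obj F), w ∈ closure {z} →
      ∃ n ∈ Ψ, topologicalKrullDim ↥(closure ({z} : Set ↥(f.fiber s))) = (n : WithBot ℕ∞)}
  have hIn : ∀ Ψ, IsLocallyConstructible (In Ψ) := fun Ψ =>
    isLocallyConstructible_forall_fiber f
      (fun s w => ∀ z ∈ AssSch.Ass ((Scheme.Modules.pullback (f.fiberι s)).obj F), w ∈ closure {z} →
        ∃ n ∈ Ψ, topologicalKrullDim ↥(closure ({z} : Set ↥(f.fiber s))) = (n : WithBot ℕ∞))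
      (isLocallyConstructible_assDims f F hF Ψ)
  have h : IsLocallyConstructible (In Φ \ ⋃ m ∈ (Φ : Set ℕ), In (Φ.erase m)) := by
    rw [Set.sdiff_eq]
    refine (hIn Φ).inter (LimTop.isLocallyConstructible_compl ?_)
    exact IsLocallyConstructible.biUnion Φ.finite_toSet fun m _ => hIn _
  convert h using 1
  ext s
  have hiff : ∀ Ψ, s ∈ In Ψ ↔ ∀ z ∈ AssSch.Ass ((Scheme.Modules.pullback (f.fiberι s)).obj F),
      ∃ n ∈ Ψ, topologicalKrullDim ↥(closure ({z} : Set ↥(f.fiber s))) = (n : WithBot ℕ∞) := fun Ψ =>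
    ⟨fun h z hz => h z z hz (subset_closure rfl), fun h w z hz _ => h z hz⟩
  simp only [Set.mem_ofPred_eq, Set.mem_sdiff, Set.mem_iUnion, exists_prop, not_exists, not_and, hiff,
    Finset.mem_coe, Finset.mem_erase]
  constructor
  · intro hs
    refine ⟨fun z hz => ?_, fun m hm hall => ?_⟩
    · obtain ⟨n, hn, hnz⟩ := hs.subset ⟨z, hz, rfl⟩
      exact ⟨n, hn, hnz.symm⟩
    · obtain ⟨z, hz, hzm⟩ := hs.superset ⟨m, hm, rfl⟩
      obtain ⟨n, ⟨hne, -⟩, hnz⟩ := hall z hz
      exact hne (Nat.cast_inj.1 (hnz.symm.trans hzm))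
  · rintro ⟨hin, hall⟩
    refine Set.Subset.antisymm ?_ ?_
    · rintro _ ⟨z, hz, rfl⟩
      obtain ⟨n, hn, hnz⟩ := hin z hz
      exact ⟨n, hn, hnz.symm⟩
    · rintro _ ⟨m, hm, rfl⟩
      by_contra hne
      refine hall m hm fun z hz => ?_
      obtain ⟨n, hn, hnz⟩ := hin z hz
      refine ⟨n, ⟨fun he => hne ⟨z, hz, ?_⟩, hn⟩, hnz⟩
      exact hnz.trans (by rw [he])

end Groth.Agent.FibCodepth
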