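import Groth.Agent.FibCodepth.Cons

/-!
# The fibrewise loci of a finitely presented module are constructible
-/

set_option autoImplicit false
set_option linter.style.haveILetI false

universe u

open TensorProduct IsLocalRing CategoryTheory Topology

namespace Groth.Agent.FibCodepth

open FlatOpen

attribute [local instance] MvPolynomial.algebraMvPolynomial

section Model

variable {n r : ℕ} {R₀ : Type u} [CommRing R₀] [IsNoetherianRing R₀]
  (Z₀ : Submodule (MvPolynomial (Fin n) R₀) (Vec n r R₀))

theorem finitePresentation_quot (R : Type u) [CommRing R] [Algebra R₀ R] :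
    Module.FinitePresentation (MvPolynomial (Fin n) R) (Quot R Z₀) := by
  classical
  obtain ⟨s, hs⟩ : Z₀.FG := IsNoetherian.noetherian Z₀
  refine Module.finitePresentation_of_surjective (ext R Z₀).mkQ (Submodule.mkQ_surjective _) ?_
  rw [Submodule.ker_mkQ, ← hs, ext_span]
  exact Submodule.fg_span (s.finite_toSet.image _)

theorem nonempty_quot_baseChange (R : Type u) [CommRing R] [Algebra R₀ R] :
    Nonempty (MvPolynomial (Fin n) R ⊗[MvPolynomial (Fin n) R₀] Quot R₀ Z₀ ≃ₗ[MvPolynomial (Fin n) R]
      Quot R Z₀) := by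
  letI : Module (MvPolynomial (Fin n) R₀) (Quot R Z₀) :=
    Module.compHom _ (algebraMap (MvPolynomial (Fin n) R₀) (MvPolynomial (Fin n) R))
  haveI : IsScalarTower (MvPolynomial (Fin n) R₀) (MvPolynomial (Fin n) R) (Quot R Z₀) :=
    IsScalarTower.of_algebraMap_smul fun _ _ => rfl
  obtain ⟨f, hf, -⟩ := exists_isBaseChange_quot' R Z₀ R₀
  exact ⟨hf.equiv⟩

theorem isConstructible_rectGE_quot (m : ℕ) (R : Type u) [CommRing R] [Algebra R₀ R] :
    IsConstructible {x : PrimeSpectrum (MvPolynomial (Fin n) R) |
      RectGE R (MvPolynomial (Fin n) R) (Quot R Z₀) m x} := by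
  refine isConstructible_of_invariant' Z₀
    (E := fun R _ _ => {x | RectGE R (MvPolynomial (Fin n) R) (Quot R Z₀) m x})
    (fun R _ _ => ?_) (fun R _ _ hflat => ?_) R
  · haveI := finitePresentation_quot Z₀ R₀
    obtain ⟨g⟩ := nonempty_quot_baseChange Z₀ R
    ext x
    exact (rectGE_congr g m x).symm.trans (rectGE_baseChange R₀ R (Quot R₀ Z₀) m x)
  · haveI := finitePresentation_quot Z₀ R
    haveI := hflat
    exact isOpen_rectGE_poly (Quot R Z₀) m

theorem isConstructible_fibSk_quot (k : ℕ) (R : Type u) [CommRing R] [Algebra R₀ R] :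
    IsConstructible {x : PrimeSpectrum (MvPolynomial (Fin n) R) |
      FibSk R (MvPolynomial (Fin n) R) (Quot R Z₀) x k} := by
  refine isConstructible_of_invariant' Z₀
    (E := fun R _ _ => {x | FibSk R (MvPolynomial (Fin n) R) (Quot R Z₀) x k})
    (fun R _ _ => ?_) (fun R _ _ hflat => ?_) R
  · haveI := finitePresentation_quot Z₀ R₀
    obtain ⟨g⟩ := nonempty_quot_baseChange Z₀ R
    ext x
    exact (fibSk_congr g x k).symm.trans (fibSk_baseChange R₀ R (Quot R₀ Z₀) k x)
  · haveI := finitePresentation_quot Z₀ R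
    haveI := hflat
    exact isOpen_fibSk_poly (Quot R Z₀) k

theorem isConstructible_codepthLE_quot (k : ℕ) (R : Type u) [CommRing R] [Algebra R₀ R] :
    IsConstructible {x : PrimeSpectrum (MvPolynomial (Fin n) R) |
      CodepthLE R (MvPolynomial (Fin n) R) (Quot R Z₀) x.asIdeal k} := by
  refine isConstructible_of_invariant' Z₀
    (E := fun R _ _ => {x | CodepthLE R (MvPolynomial (Fin n) R) (Quot R Z₀) x.asIdeal k})
    (fun R _ _ => ?_) (fun R _ _ hflat => ?_) R
  · haveI := finitePresentation_quot Z₀ R₀
    obtain ⟨g⟩ := nonempty_quot_baseChange Z₀ R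
    ext x
    exact (codepthLE_congr g k x.asIdeal).symm.trans (codepthLE_baseChange R₀ R (Quot R₀ Z₀) k x)
  · haveI := finitePresentation_quot Z₀ R
    haveI := hflat
    exact isOpen_codepthLE_poly (Quot R Z₀) k

end Model

/-- Every finitely presented module over a polynomial ring comes from a Noetherian ring. -/
theorem exists_model {R : Type u} [CommRing R] {n : ℕ} (M : Type u) [AddCommGroup M]
    [Module (MvPolynomial (Fin n) R) M] [Module.FinitePresentation (MvPolynomial (Fin n) R) M] :
    ∃ (r : ℕ) (R₀ : Type u) (_ : CommRing R₀) (_ : IsNoetherianRing R₀) (_ : Algebra R₀ R)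
      (Z₀ : Submodule (MvPolynomial (Fin n) R₀) (Vec n r R₀)),
      Nonempty (Quot R Z₀ ≃ₗ[MvPolynomial (Fin n) R] M) := by
  classical
  obtain ⟨r, L, e, G, hG⟩ := Module.FinitePresentation.exists_fin (MvPolynomial (Fin n) R) M
  let c : Finset R := G.biUnion fun v => Finset.univ.biUnion fun i => (v i).coeffs
  let R₀ := Algebra.adjoin ℤ (c : Set R)
  haveI : IsNoetherianRing R₀ := isNoetherianRing_of_fg ⟨c, rfl⟩
  have hlift : ∀ v ∈ G, ∃ v₀ : Vec n r R₀, mapVec R v₀ = v := by
    intro v hv
    have : ∀ i, ∃ w : MvPolynomial (Fin n) R₀, MvPolynomial.map (algebraMap R₀ R) w = v i :=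
      fun i => MvPolynomial.mem_range_map_iff_coeffs_subset.2 fun x hx =>
        ⟨⟨x, Algebra.subset_adjoin (Finset.mem_biUnion.2
          ⟨v, hv, Finset.mem_biUnion.2 ⟨i, Finset.mem_univ i, hx⟩⟩)⟩, rfl⟩
    choose w hw using this
    exact ⟨w, funext hw⟩
  choose! v₀ hv₀ using hlift
  let Z₀ : Submodule (MvPolynomial (Fin n) R₀) (Vec n r R₀) :=
    Submodule.span _ (v₀ '' (G : Set (Vec n r R)))
  have hZ : ext R Z₀ = L := by
    rw [ext_span, Set.image_image, ← hG]
    exact congrArg _ ((Set.image_congr hv₀).trans (Set.image_id' _))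
  exact ⟨r, R₀, inferInstance, inferInstance, inferInstance, Z₀,
    ⟨(Submodule.quotEquivOfEq _ _ hZ).trans e.symm⟩⟩

section Alg

variable {A B : Type u} [CommRing A] [CommRing B] [Algebra A B]

theorem trdegEQ_of_surjective {P : Type u} [CommRing P] [Algebra A P] [Algebra P B] [IsScalarTower A P B]
    (hs : Function.Surjective (algebraMap P B)) (z : PrimeSpectrum B) (t : ℕ) :
    TrdegEQ A z t ↔ TrdegEQ A (PrimeSpectrum.comap (algebraMap P B) z) t :=
  and_congr (trdegGE_of_surjective hs z t) (not_congr (trdegGE_of_surjective hs z (t + 1)))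

variable [Algebra.FinitePresentation A B] (N : Type u) [AddCommGroup N] [Module B N]
  [Module.FinitePresentation B N]

theorem isConstructible_preimage_of_surjective {P : Type u} [CommRing P] [Algebra P B]
    (hs : Function.Surjective (algebraMap P B)) (hk : (RingHom.ker (algebraMap P B)).FG)
    {s : Set (PrimeSpectrum P)} (h : IsConstructible s) :
    IsConstructible (PrimeSpectrum.comap (algebraMap P B) ⁻¹' s) := by
  refine h.preimage_of_isClosedEmbedding (PrimeSpectrum.isClosedEmbedding_comap_of_surjective _ _ hs) ?_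
  rw [range_comap_of_surjective _ (algebraMap P B) hs]
  exact (PrimeSpectrum.isCompact_isOpen_iff_ideal.2 ⟨_, hk, rfl⟩).1

/-- The levels of the rectified depth are constructible; above some level nothing finite remains. -/
theorem isConstructible_rectGE :
    (∀ m, IsConstructible {x : PrimeSpectrum B | RectGE A B N m x}) ∧
      ∃ M, ∀ x : PrimeSpectrum B, RectGE A B N M x → ∀ m, RectGE A B N m x := by
  obtain ⟨n, π, hπ, hker⟩ := (inferInstance : Algebra.FinitePresentation A B).out
  letI : Algebra (MvPolynomial (Fin n) A) B := π.toRingHom.toAlgebra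
  haveI : IsScalarTower A (MvPolynomial (Fin n) A) B := IsScalarTower.of_algebraMap_eq fun a => (π.commutes a).symm
  letI : Module (MvPolynomial (Fin n) A) N := Module.compHom N π.toRingHom
  haveI : IsScalarTower (MvPolynomial (Fin n) A) B N := IsScalarTower.of_algebraMap_smul fun _ _ => rfl
  haveI : Module.FinitePresentation (MvPolynomial (Fin n) A) B :=
    Module.finitePresentation_of_surjective (Algebra.linearMap (MvPolynomial (Fin n) A) B) hπ (by
      rw [show LinearMap.ker (Algebra.linearMap (MvPolynomial (Fin n) A) B) = RingHom.ker π.toRingHom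
        from by ext x; rfl]
      exact hker)
  haveI : Module.FinitePresentation (MvPolynomial (Fin n) A) N :=
    Module.FinitePresentation.trans (MvPolynomial (Fin n) A) N B
  let c := PrimeSpectrum.comap (algebraMap (MvPolynomial (Fin n) A) B)
  have hiff : ∀ m (x : PrimeSpectrum B), RectGE A B N m x ↔ RectGE A (MvPolynomial (Fin n) A) N m (c x) := by
    intro m x
    obtain ⟨h1, -⟩ := depth_supportDim_fib_of_surjective (A := A) (P := MvPolynomial (Fin n) A) hπ N x.asIdeal
      (c x).asIdeal rfl
    exact ⟨fun h t ht => by rw [← h1]; exact h t ((trdegEQ_of_surjective hπ x t).2 ht),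
      fun h t ht => by rw [h1]; exact h t ((trdegEQ_of_surjective hπ x t).1 ht)⟩
  refine ⟨fun m => ?_, n + 1, fun x hx m => ?_⟩
  · obtain ⟨r, R₀, _, _, _, Z₀, ⟨g⟩⟩ := exists_model (R := A) (n := n) N
    have h : {x : PrimeSpectrum B | RectGE A B N m x} =
        c ⁻¹' {x | RectGE A (MvPolynomial (Fin n) A) (Quot A Z₀) m x} := by
      ext x
      exact (hiff m x).trans (rectGE_congr g m (c x)).symm
    rw [h]
    exact isConstructible_preimage_of_surjective hπ hker (isConstructible_rectGE_quot Z₀ m A)
  · rw [hiff, rectGE_iff] at hx ⊢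
    rcases hx with h | ⟨h, -⟩
    · exact Or.inl h
    · omega

/-- The fibrewise `(S_k)` locus and the codepth loci are constructible. -/
theorem isConstructible_fibSk_codepthLE (k : ℕ) :
    IsConstructible {x : PrimeSpectrum B | FibSk A B N x k} ∧
      IsConstructible {x : PrimeSpectrum B | CodepthLE A B N x.asIdeal k} := by
  obtain ⟨n, π, hπ, hker⟩ := (inferInstance : Algebra.FinitePresentation A B).out
  letI : Algebra (MvPolynomial (Fin n) A) B := π.toRingHom.toAlgebra
  haveI : IsScalarTower A (MvPolynomial (Fin n) A) B := IsScalarTower.of_algebraMap_eq fun a => (π.commutes a).symm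
  letI : Module (MvPolynomial (Fin n) A) N := Module.compHom N π.toRingHom
  haveI : IsScalarTower (MvPolynomial (Fin n) A) B N := IsScalarTower.of_algebraMap_smul fun _ _ => rfl
  haveI : Module.FinitePresentation (MvPolynomial (Fin n) A) B :=
    Module.finitePresentation_of_surjective (Algebra.linearMap (MvPolynomial (Fin n) A) B) hπ (by
      rw [show LinearMap.ker (Algebra.linearMap (MvPolynomial (Fin n) A) B) = RingHom.ker π.toRingHom
        from by ext x; rfl]
      exact hker)
  haveI : Module.FinitePresentation (MvPolynomial (Fin n) A) N :=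
    Module.FinitePresentation.trans (MvPolynomial (Fin n) A) N B
  let c := PrimeSpectrum.comap (algebraMap (MvPolynomial (Fin n) A) B)
  obtain ⟨r, R₀, _, _, _, Z₀, ⟨g⟩⟩ := exists_model (R := A) (n := n) N
  constructor
  · have h : {x : PrimeSpectrum B | FibSk A B N x k} =
        c ⁻¹' {x | FibSk A (MvPolynomial (Fin n) A) (Quot A Z₀) x k} := by
      ext x
      exact (fibSk_comap_iff hπ N k x).trans (fibSk_congr g (c x) k).symm
    rw [h]
    exact isConstructible_preimage_of_surjective hπ hker (isConstructible_fibSk_quot Z₀ k A)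
  · have h : {x : PrimeSpectrum B | CodepthLE A B N x.asIdeal k} =
        c ⁻¹' {x | CodepthLE A (MvPolynomial (Fin n) A) (Quot A Z₀) x.asIdeal k} := by
      ext x
      obtain ⟨h1, h2⟩ := depth_supportDim_fib_of_surjective (A := A) (P := MvPolynomial (Fin n) A) hπ N x.asIdeal
        (c x).asIdeal rfl
      refine Iff.trans ?_ (codepthLE_congr g k (c x).asIdeal).symm
      show CodepthLE A B N x.asIdeal k ↔ CodepthLE A (MvPolynomial (Fin n) A) N (c x).asIdeal k
      unfold CodepthLE
      rw [h1, h2]
    rw [h]
    exact isConstructible_preimage_of_surjective hπ hker (isConstructible_codepthLE_quot Z₀ k A)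

end Alg

end Groth.Agent.FibCodepth
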