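import Groth.Agent.FibCodepth.GoodRk
import Groth.Agent.FibCodepth.ConsLoci
import Groth.Agent.S0389
import Mathlib.RingTheory.Ideal.MinimalPrime.Noetherian

/-!
# The fibrewise geometric `(R_n)` locus is constructible
-/

set_option autoImplicit false
set_option linter.style.haveILetI false

universe u

open TensorProduct IsLocalRing Topology

namespace Groth.Agent.FibCodepth

section Invariance

variable (A₀ A : Type u) {P₀ P : Type u} [CommRing A₀] [CommRing A] [CommRing P₀] [CommRing P] [Algebra A₀ A]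
  [Algebra A₀ P₀] [Algebra A P] [Algebra P₀ P] [Algebra A₀ P] [IsScalarTower A₀ A P] [IsScalarTower A₀ P₀ P]
  [Algebra.IsPushout A₀ A P₀ P] [Algebra.FiniteType A₀ P₀]

theorem mem_dimLeSet_baseChange (m : ℕ) (z : PrimeSpectrum P) :
    z ∈ RelDim.dimLeSet A P m ↔ PrimeSpectrum.comap (algebraMap P₀ P) z ∈ RelDim.dimLeSet A₀ P₀ m := by
  rw [RelDim.dimLeSet_eq_preimage (Algebra.IsPushout.equiv A₀ A P₀ P) m, Set.mem_preimage]
  have h : (Algebra.IsPushout.equiv A₀ A P₀ P).toRingEquiv.toRingHom.comp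
      (Algebra.TensorProduct.includeRight (R := A₀) (A := A) (B := P₀)).toRingHom = algebraMap P₀ P := by
    ext s
    show Algebra.IsPushout.equiv A₀ A P₀ P ((1 : A) ⊗ₜ[A₀] s) = _
    rw [Algebra.IsPushout.equiv_tmul, map_one, one_mul]
  rw [h]

/-- Geometric `(R_n)` of the fibres is unchanged by base change. -/
theorem badRk_baseChange (n : ℕ) (x : PrimeSpectrum P) :
    BadRk A n x ↔ BadRk A₀ n (PrimeSpectrum.comap (algebraMap P₀ P) x) := by
  constructor
  · rintro ⟨c, z, hzx, hzp, hns, hdim, ht⟩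
    refine ⟨c, PrimeSpectrum.comap (algebraMap P₀ P) z, Ideal.comap_mono hzx, ?_,
      fun h => hns ((smFib_baseChange A₀ A z).2 h), (mem_dimLeSet_baseChange A₀ A _ z).1 hdim,
      trdegGE_comap A₀ A ht⟩
    rw [under_comap A₀ A, under_comap A₀ A, hzp]
  · rintro ⟨c, z₀, hle, hp, hns, hdim, ht⟩
    obtain ⟨z, hzx, hzp, hcz, hzt⟩ := exists_gen_over A₀ A x z₀ hle hp ht
    subst hcz
    exact ⟨c, z, hzx, hzp, fun h => hns ((smFib_baseChange A₀ A z).1 h),
      (mem_dimLeSet_baseChange A₀ A _ z).2 hdim, hzt⟩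

end Invariance

section Generic

variable {A B : Type u} [CommRing A] [CommRing B] [Algebra A B]

/-- An element regular on a ring, with generically flat cokernel, avoids the minimal primes of the
fibres there. -/
theorem notMem_of_minimal_fibre {C : Type u} [CommRing C] [Algebra A C] (f : C) (hf : IsSMulRegular C f)
    (g : A) [Module.Flat A (Localization.Away g ⊗[A] (C ⧸ Ideal.span {f}))]
    (z : Ideal C) [z.IsPrime] (hg : g ∉ z.under A)
    (hz : z ∈ ((z.under A).map (algebraMap A C)).minimalPrimes) : f ∉ z := by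
  intro hfz
  set p := z.under A with hp
  obtain ⟨m, y, hy, hfy⟩ : ∃ (m : ℕ) (y : C), y ∉ z ∧ f ^ m * y ∈ p.map (algebraMap A C) := by
    have hr : algebraMap C (Localization.AtPrime z) f ∈
        ((p.map (algebraMap A C)).map (algebraMap C (Localization.AtPrime z))).radical := by
      rw [IsLocalization.AtPrime.radical_map_of_mem_minimalPrimes (A := Localization.AtPrime z) z _ hz]
      exact Ideal.mem_map_of_mem _ hfz
    obtain ⟨m, hm⟩ := hr
    rw [← map_pow, IsLocalization.mem_map_algebraMap_iff z.primeCompl] at hm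
    obtain ⟨⟨⟨a, ha⟩, ⟨s, hs⟩⟩, h⟩ := hm
    rw [← map_mul, IsLocalization.eq_iff_exists z.primeCompl] at h
    obtain ⟨⟨c, hc⟩, h⟩ := h
    refine ⟨m, c * s, fun hcs => ((inferInstance : z.IsPrime).mem_or_mem hcs).elim hc hs, ?_⟩
    rw [show f ^ m * (c * s) = c * (f ^ m * s) by ring, h]
    exact Ideal.mul_mem_left _ _ ha
  let Ag := Localization.Away g
  let μ : C →ₗ[A] C := (LinearMap.mulLeft A f)
  let π : C →ₗ[A] C ⧸ Ideal.span {f} := (Ideal.Quotient.mkₐ A (Ideal.span {f})).toLinearMap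
  have hex : Function.Exact μ π := fun c => by
    show Ideal.Quotient.mk (Ideal.span {f}) c = 0 ↔ _
    rw [Ideal.Quotient.eq_zero_iff_mem, Ideal.mem_span_singleton']
    exact exists_congr fun a => by rw [LinearMap.mulLeft_apply, mul_comm]
  have hπ : Function.Surjective π := Ideal.Quotient.mk_surjective
  have hinj : Function.Injective (μ.lTensor Ag) :=
    Module.Flat.lTensor_preserves_injective_linearMap μ (fun a b h => hf h)
  have hinj2 : Function.Injective ((μ.lTensor Ag).lTensor (A ⧸ p)) :=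
    LocFlat.lTensor_injective_of_flat_coker (μ.lTensor Ag) (π.lTensor Ag) (lTensor_exact Ag hex hπ)
      (LinearMap.lTensor_surjective Ag hπ) hinj _
  let ι : C →ₗ[A] (A ⧸ p) ⊗[A] (Ag ⊗[A] C) :=
    (TensorProduct.mk A (A ⧸ p) (Ag ⊗[A] C) 1).comp (TensorProduct.mk A Ag C 1)
  have hμ : ∀ c : C, (μ.lTensor Ag).lTensor (A ⧸ p) (ι c) = ι (f * c) := fun c => rfl
  have hzero : ∀ d ∈ p.map (algebraMap A C), ι d = 0 := by
    intro d hd
    have hd' : d ∈ (p • ⊤ : Submodule A C) := by
      rw [Ideal.smul_top_eq_map]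
      exact hd
    refine Submodule.smul_induction_on hd' (fun a ha c _ => ?_) fun u v hu hv => by rw [map_add, hu, hv, add_zero]
    rw [map_smul]
    show a • ((1 : A ⧸ p) ⊗ₜ[A] ((1 : Ag) ⊗ₜ[A] c)) = 0
    rw [TensorProduct.smul_tmul', Algebra.smul_def, mul_one, Ideal.Quotient.algebraMap_eq,
      Ideal.Quotient.eq_zero_iff_mem.2 ha, TensorProduct.zero_tmul]
  have hreg : ∀ (i : ℕ) (c : C), ι (f ^ i * c) = 0 → ι c = 0 := by
    intro i
    induction i with
    | zero => intro c hc; simpa using hc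
    | succ i ih =>
      intro c hc
      refine ih c (hinj2 ?_)
      rw [hμ, map_zero, ← mul_assoc, ← pow_succ', hc]
  have hy0 : ι y = 0 := hreg m _ (hzero _ hfy)
  -- evaluate at `z`
  let K := z.ResidueField
  have hgu : ∀ m : Submonoid.powers g, IsUnit (algebraMap A K m) := by
    rintro ⟨_, i, rfl⟩
    rw [map_pow]
    refine (isUnit_iff_ne_zero.2 fun h0 => hg ?_).pow i
    rw [IsScalarTower.algebraMap_apply A C K, Ideal.algebraMap_residueField_eq_zero] at h0
    exact h0
  let φg : Ag →ₐ[A] K := IsLocalization.liftAlgHom (M := Submonoid.powers g) (f := Algebra.ofId A K) hgu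
  let φp : A ⧸ p →ₐ[A] K := Ideal.Quotient.liftₐ p (Algebra.ofId A K) fun a ha => by
    show algebraMap A K a = 0
    rw [IsScalarTower.algebraMap_apply A C K, Ideal.algebraMap_residueField_eq_zero]
    exact ha
  let ev₁ : Ag ⊗[A] C →ₗ[A] K := TensorProduct.lift
    ((LinearMap.mul A K).compl₁₂ φg.toLinearMap (IsScalarTower.toAlgHom A C K).toLinearMap)
  let ev : (A ⧸ p) ⊗[A] (Ag ⊗[A] C) →ₗ[A] K := TensorProduct.lift
    ((LinearMap.mul A K).compl₁₂ φp.toLinearMap ev₁)
  have hev : ∀ c : C, ev (ι c) = algebraMap C K c := fun c => by simp [ev, ev₁, ι]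
  refine hy ?_
  rw [← Ideal.algebraMap_residueField_eq_zero, ← hev, hy0, map_zero]

variable (A) in
/-- Over a Noetherian domain the bad set is constructible over a nonempty open set. -/
theorem exists_isConstructible_badRk [IsDomain A] [IsNoetherianRing A] [Algebra.FiniteType A B] (n : ℕ) :
    ∃ g : A, g ≠ 0 ∧
      IsConstructible ({x : PrimeSpectrum B | BadRk A n x} ∩ PrimeSpectrum.basicOpen (algebraMap A B g)) := by
  classical
  haveI : IsNoetherianRing B := Algebra.FiniteType.isNoetherianRing A B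
  haveI : Algebra.FinitePresentation A B := Algebra.FinitePresentation.of_finiteType.1 inferInstance
  -- a bound for the fibre dimensions
  obtain ⟨N, hN⟩ : ∃ N, ∀ z : PrimeSpectrum B, z ∈ RelDim.dimLeSet A B N := by
    have hcov : (Set.univ : Set (PrimeSpectrum B)) ⊆ ⋃ m, RelDim.dimLeSet A B m := fun z _ => by
      obtain ⟨Q, hQ⟩ := exists_fibre_pt (A := A) z rfl
      obtain ⟨r, hr⟩ := exists_tdeg_eq (k := (z.asIdeal.under A).ResidueField) Q.asIdeal
      haveI : IsNoetherianRing ((z.asIdeal.under A).Fiber B) :=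
        Algebra.FiniteType.isNoetherianRing (z.asIdeal.under A).ResidueField _
      obtain ⟨h0, hh0⟩ := ENat.ne_top_iff_exists.1 (Ideal.height_ne_top_of_isPrime (I := Q.asIdeal))
      refine Set.mem_iUnion.2 ⟨h0 + r, ?_⟩
      rw [mem_dimLeSet_iff_fibre z rfl Q hQ, localDim_eq_height_add Q r hr, ← hh0]
      exact le_of_eq (by push_cast; rfl)
    obtain ⟨T, hT⟩ := isCompact_univ.elim_finite_subcover _ (fun m => RelDim.isOpen_dimLeSet A B m) hcov
    refine ⟨T.sup id, fun z => ?_⟩
    obtain ⟨m, hm, hzm⟩ := Set.mem_iUnion₂.1 (hT (Set.mem_univ z))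
    exact fun Q hQ => (hzm Q hQ).trans (Nat.cast_le.2 (Finset.le_sup (f := id) hm))
  have hmono : ∀ (c : ℕ) (z : PrimeSpectrum B), N ≤ c → z ∈ RelDim.dimLeSet A B c :=
    fun c z hc Q hQ => (hN z Q hQ).trans (Nat.cast_le.2 hc)
  -- flatness over an open set
  obtain ⟨g₁, hg₁, -, hfree, -, -⟩ := S0389.result (R := A) (S := B) (M := B)
  haveI := hfree
  let G : Set (PrimeSpectrum B) := PrimeSpectrum.basicOpen (algebraMap A B g₁)
  have hflat : ∀ z ∈ G, Module.Flat A (Localization.AtPrime z.asIdeal) := by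
    intro z hz
    letI := Algebra.TensorProduct.rightAlgebra (R := A) (A := Localization.Away g₁) (B := B)
    haveI : Module.Flat A (Localization.Away g₁) := IsLocalization.flat _ (Submonoid.powers g₁)
    haveI : Module.Flat A (Localization.Away g₁ ⊗[A] B) := Module.Flat.trans A (Localization.Away g₁) _
    haveI : IsLocalization (Algebra.algebraMapSubmonoid B (Submonoid.powers g₁)) (Localization.Away g₁ ⊗[A] B) :=
      (Algebra.isLocalization_iff_isPushout (Submonoid.powers g₁) (Localization.Away g₁)).2 inferInstance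
    obtain ⟨Q, hQ⟩ : z ∈ Set.range (PrimeSpectrum.comap (algebraMap B (Localization.Away g₁ ⊗[A] B))) := by
      rw [PrimeSpectrum.localization_comap_range _ (Algebra.algebraMapSubmonoid B (Submonoid.powers g₁))]
      rw [Set.mem_ofPred_eq, Set.disjoint_left]
      rintro _ ⟨_, ⟨i, rfl⟩, rfl⟩ h
      exact hz (z.isPrime.mem_of_pow_mem i (by rwa [← map_pow]))
    subst hQ
    haveI := IsLocalization.isLocalization_isLocalization_atPrime_isLocalization
      (Algebra.algebraMapSubmonoid B (Submonoid.powers g₁)) (Localization.AtPrime Q.asIdeal) Q.asIdeal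
    haveI : Module.Flat A (Localization.AtPrime Q.asIdeal) :=
      Module.Flat.trans A (Localization.Away g₁ ⊗[A] B) _
    exact Module.Flat.of_linearEquiv
      (((IsLocalization.algEquiv (Q.asIdeal.comap (algebraMap B (Localization.Away g₁ ⊗[A] B))).primeCompl
        (Localization.AtPrime (Q.asIdeal.comap (algebraMap B (Localization.Away g₁ ⊗[A] B))))
        (Localization.AtPrime Q.asIdeal)).restrictScalars A).toLinearEquiv)
  let D : Set (PrimeSpectrum B) := (Algebra.smoothLocus A B)ᶜ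
  have hD : IsClosed D := Algebra.isOpen_smoothLocus.isClosed_compl
  have hDiff : ∀ z ∈ G, (z ∈ D ↔ ¬ SmFib A z) := fun z hz => not_congr (isSmoothAt_iff_smFib z (hflat z hz))
  -- one closed set for each transcendence degree
  have step : ∀ c : ℕ, ∃ g : A, g ≠ 0 ∧ ∃ W : Set (PrimeSpectrum B), IsClosed W ∧
      D ∩ RelDim.dimLeSet A B (c + n) ∩ G ⊆ W ∧
      ∀ z ∈ W, algebraMap A B g ∉ z.asIdeal →
        (∀ z' ∈ W, z'.asIdeal ≤ z.asIdeal → z'.asIdeal.under A = z.asIdeal.under A → z' = z) →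
        z ∈ D ∩ RelDim.dimLeSet A B (c + n) ∩ G := by
    intro c
    let U : Set (PrimeSpectrum B) := RelDim.dimLeSet A B (c + n) ∩ G
    have hU : IsOpen U := (RelDim.isOpen_dimLeSet A B _).inter (PrimeSpectrum.basicOpen _).2
    let W := closure (D ∩ U)
    let J := PrimeSpectrum.vanishingIdeal W
    let K := PrimeSpectrum.vanishingIdeal (W ∩ Uᶜ)
    have hJW : PrimeSpectrum.zeroLocus (J : Set B) = W := by
      rw [PrimeSpectrum.zeroLocus_vanishingIdeal_eq_closure, closure_closure]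
    have hCK : PrimeSpectrum.zeroLocus (K : Set B) = W ∩ Uᶜ := by
      rw [PrimeSpectrum.zeroLocus_vanishingIdeal_eq_closure, (isClosed_closure.inter hU.isClosed_compl).closure_eq]
    have hfin := Ideal.finite_minimalPrimes_of_isNoetherianRing B J
    have hηU : ∀ η (hη : η ∈ J.minimalPrimes), (⟨η, hη.1.1⟩ : PrimeSpectrum B) ∈ U := by
      intro η hη
      by_contra hn
      let e : J.minimalPrimes → PrimeSpectrum B := fun η' => ⟨η'.1, η'.2.1.1⟩
      haveI := hfin.to_subtype
      have hclosed : IsClosed (⋃ η' ∈ {η' | e η' ∈ U}, PrimeSpectrum.zeroLocus ((e η').asIdeal : Set B)) :=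
        (Set.toFinite _).isClosed_biUnion fun η' _ => PrimeSpectrum.isClosed_zeroLocus _
      have hsub : W ⊆ ⋃ η' ∈ {η' | e η' ∈ U}, PrimeSpectrum.zeroLocus ((e η').asIdeal : Set B) := by
        refine closure_minimal (fun w hw => ?_) hclosed
        have hwJ : J ≤ w.asIdeal := by
          have : w ∈ PrimeSpectrum.zeroLocus (J : Set B) := hJW.symm ▸ subset_closure hw
          exact this
        obtain ⟨η', hη', hle⟩ := Ideal.exists_minimalPrimes_le hwJ
        exact Set.mem_iUnion₂.2 ⟨⟨η', hη'⟩, ((PrimeSpectrum.le_iff_specializes ⟨η', hη'.1.1⟩ w).1 hle).mem_open hU hw.2, hle⟩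
      have hηW : (⟨η, hη.1.1⟩ : PrimeSpectrum B) ∈ W := hJW ▸ hη.1.2
      obtain ⟨η', hη'U, hle⟩ := Set.mem_iUnion₂.1 (hsub hηW)
      have he : e η' = ⟨η, hη.1.1⟩ := PrimeSpectrum.ext (le_antisymm hle (hη.2 η'.2.1 hle))
      exact hn (he ▸ hη'U)
    obtain ⟨f, hfK, hf⟩ : ∃ f ∈ K, ∀ η ∈ J.minimalPrimes, f ∉ η := by
      by_contra hno
      push Not at hno
      have hsub : (K : Set B) ⊆ ⋃ η ∈ J.minimalPrimes, (η : Set B) := fun f hf => by
        obtain ⟨η, hη, hfη⟩ := hno f hf
        exact Set.mem_biUnion hη hfη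
      obtain ⟨η, hη, hle⟩ := (Ideal.subset_union_prime_finite hfin (f := id) 0 0 fun η hη _ _ => hη.1.1).1 hsub
      have : (⟨η, hη.1.1⟩ : PrimeSpectrum B) ∈ W ∩ Uᶜ := hCK ▸ hle
      exact this.2 (hηU η hη)
    let f' : B ⧸ J := Ideal.Quotient.mk J f
    have hreg : IsSMulRegular (B ⧸ J) f' := by
      refine IsSMulRegular.of_right_eq_zero_of_smul fun b hb => ?_
      obtain ⟨b, rfl⟩ := Ideal.Quotient.mk_surjective b
      rw [smul_eq_mul, ← map_mul, Ideal.Quotient.eq_zero_iff_mem] at hb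
      have hJr : J.IsRadical := PrimeSpectrum.isRadical_vanishingIdeal W
      rw [Ideal.Quotient.eq_zero_iff_mem, ← hJr.radical, ← Ideal.sInf_minimalPrimes, Submodule.mem_sInf]
      intro η hη
      exact ((hη.1.1.mem_or_mem (hη.1.2 hb)).resolve_left (hf η hη))
    obtain ⟨g₂, hg₂, hfree₂, -, -, -⟩ :=
      S0389.result (R := A) (S := B) (M := (B ⧸ J) ⧸ Ideal.span {f'})
    haveI := hfree₂
    haveI : Module.Flat A (Localization.Away g₂) := IsLocalization.flat _ (Submonoid.powers g₂)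
    haveI : Module.Flat (Localization.Away g₂) (Localization.Away g₂ ⊗[A] ((B ⧸ J) ⧸ Ideal.span {f'})) :=
      @Module.Flat.of_free _ _ _ _ _ hfree₂
    haveI : Module.Flat A (Localization.Away g₂ ⊗[A] ((B ⧸ J) ⧸ Ideal.span {f'})) :=
      Module.Flat.trans A (Localization.Away g₂) _
    refine ⟨g₁ * g₂, mul_ne_zero hg₁ hg₂, W, isClosed_closure, fun w hw => subset_closure ⟨hw.1.1, hw.1.2, hw.2⟩, ?_⟩
    intro z hzW hgz hmin
    have hzJ : J ≤ z.asIdeal := by rw [← hJW] at hzW; exact hzW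
    let zb : Ideal (B ⧸ J) := z.asIdeal.map (Ideal.Quotient.mk J)
    haveI hzb : zb.IsPrime := Ideal.map_isPrime_of_surjective Ideal.Quotient.mk_surjective (by rwa [Ideal.mk_ker])
    have hcz : zb.comap (Ideal.Quotient.mk J) = z.asIdeal := by
      rw [Ideal.comap_map_of_surjective' _ Ideal.Quotient.mk_surjective, Ideal.mk_ker, sup_eq_left.2 hzJ]
    have hu : zb.under A = z.asIdeal.under A :=
      ((Ideal.comap_comap (algebraMap A B) (Ideal.Quotient.mk J)).symm.trans (congrArg _ hcz))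
    have hfz : f ∉ z.asIdeal := by
      intro hfz
      refine notMem_of_minimal_fibre (A := A) f' hreg g₂ zb ?_ ⟨⟨hzb, Ideal.map_comap_le⟩, fun r hr hle => ?_⟩
        (Ideal.mem_map_of_mem _ hfz)
      · rw [hu]
        exact fun h => hgz (by rw [map_mul]; exact Ideal.mul_mem_left _ _ h)
      · haveI := hr.1
        have h1 : r.under A = z.asIdeal.under A :=
          le_antisymm ((Ideal.comap_mono hle).trans hu.le) (hu.ge.trans (Ideal.map_le_iff_le_comap.1 hr.2))
        have h2 := hmin (PrimeSpectrum.comap (Ideal.Quotient.mk J) ⟨r, inferInstance⟩) (by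
            rw [← hJW]
            intro b hb
            show Ideal.Quotient.mk J b ∈ r
            rw [Ideal.Quotient.eq_zero_iff_mem.2 hb]
            exact zero_mem _)
          ((Ideal.comap_mono hle).trans hcz.le)
          ((Ideal.comap_comap (algebraMap A B) (Ideal.Quotient.mk J)).trans h1)
        exact Ideal.map_le_iff_le_comap.2 (congrArg PrimeSpectrum.asIdeal h2).ge
    have hzU : z ∈ U := by
      by_contra hn
      exact hfz ((hCK.symm ▸ (show z ∈ W ∩ Uᶜ from ⟨hzW, hn⟩) : z ∈ PrimeSpectrum.zeroLocus (K : Set B)) hfK)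
    exact ⟨⟨closure_minimal Set.inter_subset_left hD hzW, hzU.1⟩, hzU.2⟩
  choose g hg W hW hsub hmin using step
  let gg := g₁ * ∏ c ∈ Finset.range (N + 1), g c
  have hgg : ∀ z : PrimeSpectrum B, algebraMap A B gg ∉ z.asIdeal →
      z ∈ G ∧ ∀ c ≤ N, algebraMap A B (g c) ∉ z.asIdeal := by
    intro z hz
    refine ⟨fun h => hz (by rw [map_mul]; exact Ideal.mul_mem_right _ _ h), fun c hc h => hz ?_⟩
    obtain ⟨d, hd⟩ := Finset.dvd_prod_of_mem g (Finset.mem_range.2 (by omega : c < N + 1))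
    show algebraMap A B (g₁ * _) ∈ z.asIdeal
    rw [hd, map_mul, map_mul]
    exact Ideal.mul_mem_left _ _ (Ideal.mul_mem_right _ _ h)
  refine ⟨gg, mul_ne_zero hg₁ (Finset.prod_ne_zero_iff.2 fun c _ => hg c), ?_⟩
  have hsame : ∀ (x z : PrimeSpectrum B), z.asIdeal.under A = x.asIdeal.under A →
      algebraMap A B gg ∉ x.asIdeal → algebraMap A B gg ∉ z.asIdeal :=
    fun x z hzp hx h => hx (show gg ∈ x.asIdeal.under A from hzp ▸ h)
  have heq : {x : PrimeSpectrum B | BadRk A n x} ∩ PrimeSpectrum.basicOpen (algebraMap A B gg) =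
      (⋃ c ∈ Set.Iic N, gset A (W c) c) ∩ PrimeSpectrum.basicOpen (algebraMap A B gg) := by
    ext x
    simp only [Set.mem_inter_iff, Set.mem_ofPred_eq, Set.mem_iUnion, Set.mem_Iic, exists_prop]
    refine and_congr_left fun hx => ⟨?_, ?_⟩
    · rintro ⟨c, z, hzx, hzp, hns, hdim, ht⟩
      obtain ⟨hzG, -⟩ := hgg z (hsame x z hzp hx)
      have hmem : ∀ c', z ∈ RelDim.dimLeSet A B (c' + n) → z ∈ W c' := fun c' h =>
        hsub c' ⟨⟨(hDiff z hzG).2 hns, h⟩, hzG⟩
      rcases le_or_gt c N with hc | hc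
      · exact ⟨c, hc, (mem_gset_iff (hW c) c x).2 ⟨z, hzx, hzp, hmem c hdim, ht⟩⟩
      · exact ⟨N, le_rfl, (mem_gset_iff (hW N) N x).2
          ⟨z, hzx, hzp, hmem N (hmono _ z (Nat.le_add_right N n)), ht.mono hc.le⟩⟩
    · rintro ⟨c, hc, hx'⟩
      obtain ⟨z, hzx, hzp, hzW, ht⟩ := (mem_gset_iff (hW c) c x).1 hx'
      let I := PrimeSpectrum.vanishingIdeal (W c)
      have hWI : ∀ y : PrimeSpectrum B, y ∈ W c ↔ I ≤ y.asIdeal := fun y => by
        conv_lhs => rw [← (hW c).closure_eq, ← PrimeSpectrum.zeroLocus_vanishingIdeal_eq_closure]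
        rfl
      obtain ⟨P, hP, hPz⟩ := Ideal.exists_minimalPrimes_le (I := I ⊔ (z.asIdeal.under A).map (algebraMap A B))
        (J := z.asIdeal) (sup_le ((hWI z).1 hzW) Ideal.map_comap_le)
      haveI := hP.1.1
      let z' : PrimeSpectrum B := ⟨P, inferInstance⟩
      have hz'W : z' ∈ W c := (hWI z').2 (le_sup_left.trans hP.1.2)
      have hz'z : z'.asIdeal ≤ z.asIdeal := hPz
      have hz'p : z'.asIdeal.under A = z.asIdeal.under A :=
        le_antisymm (Ideal.comap_mono hPz) (Ideal.map_le_iff_le_comap.1 (le_sup_right.trans hP.1.2))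
      have hgz' := hsame x z' (hz'p.trans hzp) hx
      obtain ⟨⟨hz'D, hz'dim⟩, hz'G⟩ := hmin c z' hz'W ((hgg z' hgz').2 c hc) fun y hy hyle hyp =>
        PrimeSpectrum.ext (le_antisymm hyle (hP.2 ⟨y.isPrime, sup_le ((hWI y).1 hy)
          (Ideal.map_le_iff_le_comap.2 (hyp.trans hz'p).ge)⟩ hyle))
      exact ⟨c, z', hz'z.trans hzx, hz'p.trans hzp, (hDiff z' hz'G).1 hz'D, hz'dim, trdegGE_of_le hz'z hz'p ht⟩
  rw [heq]
  have hclosed : IsClosed (⋃ c ∈ Set.Iic N, gset A (W c) c) :=
    (Set.finite_Iic N).isClosed_biUnion fun c _ => isClosed_gset (hW c) c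
  have hc : IsConstructible (⋃ c ∈ Set.Iic N, gset A (W c) c)ᶜ :=
    (TopologicalSpace.NoetherianSpace.isCompact _).isConstructible hclosed.isOpen_compl
  exact (compl_compl (⋃ c ∈ Set.Iic N, gset A (W c) c) ▸ hc.compl).inter
    ((TopologicalSpace.NoetherianSpace.isCompact _).isConstructible (PrimeSpectrum.basicOpen _).2)

end Generic

section Constructible

variable {R₀ B : Type u} [CommRing R₀] [IsNoetherianRing R₀] [CommRing B] [Algebra R₀ B] [Algebra.FiniteType R₀ B]

attribute [local instance] Algebra.TensorProduct.rightAlgebra in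
theorem isConstructible_badRk_noetherian (n : ℕ) :
    IsConstructible {x : PrimeSpectrum B | BadRk R₀ n x} := by
  haveI : IsNoetherianRing B := Algebra.FiniteType.isNoetherianRing R₀ B
  have H : ∀ I : Ideal R₀, IsConstructible ({x : PrimeSpectrum B | BadRk R₀ n x} ∩
      PrimeSpectrum.zeroLocus (I.map (algebraMap R₀ B) : Set B)) := by
    intro I
    induction I using WellFoundedGT.induction with
    | ind I ih =>
      by_cases htop : I = ⊤
      · rw [htop, Ideal.map_top, PrimeSpectrum.zeroLocus_empty_iff_eq_top.2 rfl, Set.inter_empty]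
        exact IsConstructible.empty
      by_cases hprime : I.IsPrime
      swap
      · obtain ⟨a, ha, b, hb, hab⟩ := (Ideal.not_isPrime_iff.1 hprime).resolve_left htop
        have h : PrimeSpectrum.zeroLocus (I.map (algebraMap R₀ B) : Set B) =
            PrimeSpectrum.zeroLocus ((I ⊔ Ideal.span {a}).map (algebraMap R₀ B) : Set B) ∪
              PrimeSpectrum.zeroLocus ((I ⊔ Ideal.span {b}).map (algebraMap R₀ B) : Set B) := by
          ext q
          simp only [PrimeSpectrum.mem_zeroLocus, Set.mem_union, SetLike.coe_subset_coe, Ideal.map_le_iff_le_comap,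
            sup_le_iff, Ideal.span_singleton_le_iff_mem]
          constructor
          · intro hq
            exact ((q.isPrime.comap _).mem_or_mem (hq hab)).imp (fun h => ⟨hq, h⟩) fun h => ⟨hq, h⟩
          · rintro (⟨h, -⟩ | ⟨h, -⟩) <;> exact h
        rw [h, Set.inter_union_distrib_left]
        exact (ih _ (Submodule.lt_sup_iff_notMem.2 ha)).union (ih _ (Submodule.lt_sup_iff_notMem.2 hb))
      obtain ⟨g', hg', hcons⟩ := exists_isConstructible_badRk (R₀ ⧸ I) (B := (R₀ ⧸ I) ⊗[R₀] B) n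
      obtain ⟨g, rfl⟩ := Ideal.Quotient.mk_surjective g'
      have hg : g ∉ I := fun h => hg' (Ideal.Quotient.eq_zero_iff_mem.2 h)
      let c₁ := PrimeSpectrum.comap (algebraMap B ((R₀ ⧸ I) ⊗[R₀] B))
      have hinc : ∀ z, algebraMap (R₀ ⧸ I) ((R₀ ⧸ I) ⊗[R₀] B) (Ideal.Quotient.mk I g) ∈ PrimeSpectrum.asIdeal z ↔
          algebraMap R₀ B g ∈ (c₁ z).asIdeal := by
        intro z
        show _ ↔ algebraMap B ((R₀ ⧸ I) ⊗[R₀] B) (algebraMap R₀ B g) ∈ z.asIdeal
        rw [← IsScalarTower.algebraMap_apply R₀ B, IsScalarTower.algebraMap_apply R₀ (R₀ ⧸ I), Ideal.Quotient.algebraMap_eq]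
      have hfp : (algebraMap B ((R₀ ⧸ I) ⊗[R₀] B)).FinitePresentation := by
        haveI : Algebra.FiniteType B ((R₀ ⧸ I) ⊗[R₀] B) :=
          Algebra.FiniteType.equiv inferInstance (Algebra.IsPushout.equiv R₀ B (R₀ ⧸ I) ((R₀ ⧸ I) ⊗[R₀] B))
        exact RingHom.finitePresentation_algebraMap.2 (Algebra.FinitePresentation.of_finiteType.1 inferInstance)
      have himg := PrimeSpectrum.isConstructible_comap_image hfp hcons
      have hsplit : {x : PrimeSpectrum B | BadRk R₀ n x} ∩ PrimeSpectrum.zeroLocus (I.map (algebraMap R₀ B) : Set B) =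
          c₁ '' ({x | BadRk (R₀ ⧸ I) n x} ∩
            PrimeSpectrum.basicOpen (algebraMap (R₀ ⧸ I) ((R₀ ⧸ I) ⊗[R₀] B) (Ideal.Quotient.mk I g))) ∪
            ({x : PrimeSpectrum B | BadRk R₀ n x} ∩ PrimeSpectrum.zeroLocus
              ((I ⊔ Ideal.span {g}).map (algebraMap R₀ B) : Set B)) := by
        ext q
        simp only [Set.mem_inter_iff, Set.mem_union, Set.mem_image, Set.mem_ofPred_eq, PrimeSpectrum.mem_zeroLocus,
          SetLike.coe_subset_coe, Ideal.map_sup, sup_le_iff, Ideal.map_span, Set.image_singleton,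
          Ideal.span_singleton_le_iff_mem]
        constructor
        · rintro ⟨hbad, hI⟩
          by_cases hgq : algebraMap R₀ B g ∈ q.asIdeal
          · exact Or.inr ⟨hbad, hI, hgq⟩
          obtain ⟨p', hp'⟩ : (⟨q.asIdeal.under R₀, inferInstance⟩ : PrimeSpectrum R₀) ∈
              Set.range (PrimeSpectrum.comap (Ideal.Quotient.mk I)) := by
            rw [range_comap_of_surjective _ _ Ideal.Quotient.mk_surjective, Ideal.mk_ker]
            exact Ideal.map_le_iff_le_comap.1 hI
          obtain ⟨z, -, hz⟩ := exists_point_over R₀ (R₀ ⧸ I) (P₀ := B) (P := (R₀ ⧸ I) ⊗[R₀] B) p' q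
            (congrArg PrimeSpectrum.asIdeal hp')
          refine Or.inl ⟨z, ⟨(badRk_baseChange R₀ (R₀ ⧸ I) n z).2 (by rw [hz]; exact hbad), fun h => hgq ?_⟩, hz⟩
          rw [← hz]
          exact (hinc z).1 h
        · rintro (⟨z, ⟨hbad, -⟩, rfl⟩ | ⟨hbad, hI, -⟩)
          · refine ⟨(badRk_baseChange R₀ (R₀ ⧸ I) n z).1 hbad, Ideal.map_le_iff_le_comap.2 fun a ha => ?_⟩
            show algebraMap B ((R₀ ⧸ I) ⊗[R₀] B) (algebraMap R₀ B a) ∈ z.asIdeal
            rw [← IsScalarTower.algebraMap_apply R₀ B, IsScalarTower.algebraMap_apply R₀ (R₀ ⧸ I),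
              Ideal.Quotient.algebraMap_eq, Ideal.Quotient.eq_zero_iff_mem.2 ha, map_zero]
            exact zero_mem _
          · exact ⟨hbad, hI⟩
      rw [hsplit]
      exact himg.union (ih _ (Submodule.lt_sup_iff_notMem.2 hg))
  simpa using H ⊥

end Constructible

theorem isConstructible_badRk_of_model (A₀ A : Type u) {B₀ B : Type u} [CommRing A₀] [CommRing A] [CommRing B₀]
    [CommRing B] [Algebra A₀ A] [Algebra A₀ B₀] [Algebra A B] [Algebra B₀ B] [Algebra A₀ B] [IsScalarTower A₀ A B]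
    [IsScalarTower A₀ B₀ B] [Algebra.IsPushout A₀ A B₀ B] [IsNoetherianRing A₀] [Algebra.FiniteType A₀ B₀] (n : ℕ) :
    IsConstructible {x : PrimeSpectrum B | BadRk A n x} := by
  haveI : IsNoetherianRing B₀ := Algebra.FiniteType.isNoetherianRing A₀ B₀
  have h : {x : PrimeSpectrum B | BadRk A n x} =
      PrimeSpectrum.comap (algebraMap B₀ B) ⁻¹' {x | BadRk A₀ n x} :=
    Set.ext fun x => badRk_baseChange A₀ A n x
  rw [h]
  refine (isConstructible_badRk_noetherian (R₀ := A₀) (B := B₀) n).preimage (PrimeSpectrum.continuous_comap _) fun s hs _ => ?_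
  obtain ⟨T, hT⟩ := (PrimeSpectrum.isCompact_isOpen_iff_ideal).1 ⟨TopologicalSpace.NoetherianSpace.isCompact s, hs⟩
  rw [QuasiSeparatedSpace.isRetrocompact_iff_isCompact (hs.preimage (PrimeSpectrum.continuous_comap _)), ← hT.2,
    Set.preimage_compl, PrimeSpectrum.preimage_comap_zeroLocus, ← PrimeSpectrum.zeroLocus_span]
  exact (PrimeSpectrum.isCompact_isOpen_iff_ideal.2 ⟨_, ⟨hT.1.map _, rfl⟩⟩).1

theorem isConstructible_badRk_of_equiv {A₀ A B₀ B : Type u} [CommRing A₀] [CommRing A] [CommRing B₀]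
    [CommRing B] [Algebra A₀ A] [Algebra A₀ B₀] [Algebra A B] [IsNoetherianRing A₀] [Algebra.FiniteType A₀ B₀]
    (e : A ⊗[A₀] B₀ ≃ₐ[A] B) (n : ℕ) : IsConstructible {x : PrimeSpectrum B | BadRk A n x} := by
  letI : Algebra A₀ B := ((algebraMap A B).comp (algebraMap A₀ A)).toAlgebra
  haveI : IsScalarTower A₀ A B := IsScalarTower.of_algebraMap_eq' rfl
  letI : Algebra B₀ B := ((e : A ⊗[A₀] B₀ →+* B).comp
    (Algebra.TensorProduct.includeRight (R := A₀) (A := A) (B := B₀)).toRingHom).toAlgebra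
  haveI : IsScalarTower A₀ B₀ B := IsScalarTower.of_algebraMap_eq fun r => by
    show algebraMap A B (algebraMap A₀ A r) = e ((Algebra.TensorProduct.includeRight : B₀ →ₐ[A₀] A ⊗[A₀] B₀) (algebraMap A₀ B₀ r))
    rw [AlgHom.commutes, IsScalarTower.algebraMap_apply A₀ A (A ⊗[A₀] B₀), e.commutes]
  haveI : Algebra.IsPushout A₀ A B₀ B := by
    letI := Algebra.TensorProduct.rightAlgebra (R := A₀) (A := A) (B := B₀)
    exact Algebra.IsPushout.of_equiv e (RingHom.ext fun _ => rfl)
  exact isConstructible_badRk_of_model A₀ A (B₀ := B₀) n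

/-- The geometric `(R_n)` locus of the fibres of a finitely presented algebra is constructible. -/
theorem isConstructible_badRk (A B : Type u) [CommRing A] [CommRing B] [Algebra A B]
    [Algebra.FinitePresentation A B] (n : ℕ) : IsConstructible {x : PrimeSpectrum B | BadRk A n x} := by
  let P := Algebra.Presentation.ofFinitePresentation A B
  haveI : IsNoetherianRing P.Core := Algebra.FiniteType.isNoetherianRing ℤ P.Core
  exact isConstructible_badRk_of_equiv (P.tensorModelOfHasCoeffsEquiv P.Core) n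

end Groth.Agent.FibCodepth
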