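import Groth.Agent.FibCodepth.ConsRk
import Groth.Agent.FibCodepth.GeomRkScheme
import Mathlib.RingTheory.KrullDimension.Polynomial

/-!
# The smooth locus of the fibres is constructible
-/

set_option autoImplicit false
set_option linter.style.haveILetI false

universe u

open TensorProduct IsLocalRing Topology CategoryTheory AlgebraicGeometry

namespace Groth.Agent.FibCodepth

section Alg

variable (A B : Type u) [CommRing A] [CommRing B] [Algebra A B] [Algebra.FinitePresentation A B]

/-- The fibres of an algebra generated by `N` elements have dimension at most `N`. -/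
theorem exists_bound_fibre_height :
    ∃ N : ℕ, ∀ (p : Ideal A) [p.IsPrime] (Q : PrimeSpectrum (p.Fiber B)), Q.asIdeal.height ≤ N := by
  obtain ⟨N, π, hπ⟩ := Algebra.FiniteType.iff_quotient_mvPolynomial''.1 (inferInstance : Algebra.FiniteType A B)
  refine ⟨N, fun p hp Q => ?_⟩
  let φ : p.ResidueField ⊗[A] MvPolynomial (Fin N) A →ₐ[p.ResidueField] p.Fiber B :=
    Algebra.TensorProduct.map (AlgHom.id p.ResidueField p.ResidueField) π
  have hφ : Function.Surjective φ := LinearMap.lTensor_surjective p.ResidueField (g := π.toLinearMap) hπ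
  have h := ringKrullDim_le_of_surjective φ.toRingHom hφ
  rw [ringKrullDim_eq_of_ringEquiv (MvPolynomial.algebraTensorAlgEquiv A p.ResidueField).toRingEquiv,
    MvPolynomial.ringKrullDim_of_isNoetherianRing, ringKrullDim_eq_zero_of_field, zero_add, Nat.card_fin] at h
  exact WithBot.coe_le_coe.1 ((Ideal.height_le_ringKrullDim_of_ne_top Q.isPrime.ne_top).trans h)

/-- Fibrewise smoothness is geometric regularity in all codimensions. -/
theorem exists_forall_smFib_iff_not_badRk :
    ∃ N : ℕ, ∀ x : PrimeSpectrum B, SmFib A x ↔ ¬ BadRk A N x := by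
  obtain ⟨N, hN⟩ := exists_bound_fibre_height A B
  refine ⟨N, fun x => ?_⟩
  obtain ⟨Q, hQ⟩ := exists_fibre_pt (A := A) x rfl
  rw [smFib_iff A x rfl Q hQ, badRk_iff_not_smRk N x rfl Q hQ, not_not]
  constructor
  · intro h q hq _
    exact Algebra.isOpen_smoothLocus.stableUnderGeneralization ((PrimeSpectrum.le_iff_specializes q Q).1 hq) h
  · intro h
    exact h Q le_rfl (hN _ Q)

theorem isConstructible_smFib : IsConstructible {x : PrimeSpectrum B | SmFib A x} := by
  obtain ⟨N, hN⟩ := exists_forall_smFib_iff_not_badRk A B
  rw [show {x : PrimeSpectrum B | SmFib A x} = {x | BadRk A N x}ᶜ from Set.ext hN]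
  exact (isConstructible_badRk A B N).compl

end Alg

section Scheme

variable {X Y : Scheme.{u}} (f : X ⟶ Y) [LocallyOfFinitePresentation f]

/-- EGA IV 9.9.4 (iv): the points at which the fibre is smooth form a locally constructible set. -/
theorem isLocallyConstructible_fibre_smooth :
    IsLocallyConstructible {x : X |
      ((f.fiberToSpecResidueField (f.base x)).stalkMap (f.asFiber x)).hom.FormallySmooth} := by
  refine isLocallyConstructible_of_charts f _ fun V U hV hU e hfp => ?_
  letI := (f.appLE V U e).hom.toAlgebra
  haveI := hfp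
  exact ⟨_, isConstructible_smFib Γ(Y, V) Γ(X, U), fun x hx =>
    smFib_iff_chart f hV hU e (f.base x) (f.asFiber x) x (f.fiberι_asFiber x) hx⟩

end Scheme

end Groth.Agent.FibCodepth
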