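import Groth.Agent.FibCodepth.SchemeAss
import Groth.Agent.S9180

/-!
# Equidimensional fibre stalks
-/

set_option autoImplicit false
set_option linter.style.haveILetI false

universe u

open CategoryTheory Limits AlgebraicGeometry IsLocalRing TensorProduct
open Groth.Agent.AssSch.Stalk

namespace Groth.Agent.FibCodepth

section Congr

variable {A : Type u} [CommRing A] {M N : Type u} [AddCommGroup M] [Module A M] [AddCommGroup N] [Module A N]

theorem isEquidimModule_congr (e : M ≃ₗ[A] N) : EGA4.IsEquidimModule A M ↔ EGA4.IsEquidimModule A N := by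
  unfold EGA4.IsEquidimModule
  rw [LinearEquiv.annihilator_eq e, Module.supportDim_eq_of_equiv e]

theorem isEquidimModule_of_surjective {A' : Type u} [CommRing A'] [Algebra A A']
    (hs : Function.Surjective (algebraMap A A')) [IsLocalRing A] [IsLocalRing A'] (P : Type u) [AddCommGroup P]
    [Module A' P] [Module A P] [IsScalarTower A A' P] [Module.Finite A' P] :
    EGA4.IsEquidimModule A P ↔ EGA4.IsEquidimModule A' P := by
  have hann : Module.annihilator A P = (Module.annihilator A' P).comap (algebraMap A A') := by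
    ext a
    simp [Module.mem_annihilator, algebraMap_smul]
  have hdim : ∀ I : Ideal A', ringKrullDim (A ⧸ I.comap (algebraMap A A')) = ringKrullDim (A' ⧸ I) := fun I =>
    ringKrullDim_eq_of_ringEquiv ((Ideal.quotEquivOfEq (J := RingHom.ker ((Ideal.Quotient.mk I).comp (algebraMap A A')))
        (by ext a; exact (Ideal.Quotient.eq_zero_iff_mem (I := I) (a := algebraMap A A' a)).symm)).trans
      (RingHom.quotientKerEquivOfSurjective (f := (Ideal.Quotient.mk I).comp (algebraMap A A'))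
        (Ideal.Quotient.mk_surjective.comp hs)))
  have hsd := (EGA4Lib.depth_supportDim_of_surjective hs P).2
  unfold EGA4.IsEquidimModule
  rw [hann, Ideal.comap_minimalPrimes_eq_of_surjective hs]
  constructor
  · intro h I hI
    rw [hsd, ← hdim, h _ ⟨I, hI, rfl⟩]
  · rintro h _ ⟨I, hI, rfl⟩
    rw [hdim, h I hI, hsd]

theorem isEquidimModule_tensor_algEquiv {B L L' : Type u} [CommRing B] [CommRing L] [CommRing L']
    [IsLocalRing L] [IsLocalRing L'] [Algebra B L] [Algebra B L'] (e : L ≃ₐ[B] L') (P : Type u)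
    [AddCommGroup P] [Module B P] [Module.Finite B P] :
    EGA4.IsEquidimModule L (L ⊗[B] P) ↔ EGA4.IsEquidimModule L' (L' ⊗[B] P) := by
  letI : Algebra L L' := e.toRingHom.toAlgebra
  let f : L ≃ₗ[L] L' :=
    { e.toRingEquiv.toAddEquiv with
      map_smul' := fun r x => by
        show e (r • x) = e r * e x
        rw [smul_eq_mul, map_mul] }
  haveI : IsScalarTower B L L' := IsScalarTower.of_algebraMap_eq fun b => (e.commutes b).symm
  exact (isEquidimModule_congr (AlgebraTensorModule.congr f (LinearEquiv.refl B P))).trans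
    (isEquidimModule_of_surjective (A := L) (A' := L') e.surjective (L' ⊗[B] P))

/-- If all minimal elements of the support have the same quotient dimension, it is the dimension. -/
theorem supportDim_eq_of_forall_minimal [Module.Finite A M] (d : WithBot ℕ∞)
    (h : ∀ p ∈ (Module.annihilator A M).minimalPrimes, ringKrullDim (A ⧸ p) = d)
    (p₀ : Ideal A) (hp₀ : p₀ ∈ (Module.annihilator A M).minimalPrimes) : Module.supportDim A M = d := by
  rw [Module.supportDim, Module.support_eq_zeroLocus]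
  refine le_antisymm ?_ ?_
  · refine iSup_le fun l => ?_
    obtain ⟨p, hp, hle⟩ := Ideal.exists_minimalPrimes_le (J := l.head.1.asIdeal) l.head.2
    rw [← h p hp, ringKrullDim_quotient]
    let g : LTSeries (PrimeSpectrum.zeroLocus (p : Set A)) :=
      { length := l.length
        toFun := fun i => ⟨(l i).1, fun a ha => (l.monotone (Fin.zero_le i)) (hle ha)⟩
        step := fun i => l.step i }
    exact Order.LTSeries.length_le_krullDim g
  · rw [← h p₀ hp₀, ringKrullDim_quotient]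
    refine Order.krullDim_le_of_strictMono (fun x => ⟨x.1, fun a ha => x.2 (hp₀.1.2 ha)⟩) fun x y hxy => hxy

end Congr

section Field

attribute [local instance] Algebra.TensorProduct.rightAlgebra

variable {k B F : Type u} [Field k] [CommRing B] [CommRing F] [Algebra k F] [Algebra B F]
  (N : Type u) [AddCommGroup N] [Module B N] [Module.Finite B N] (Q : Ideal F) [Q.IsPrime]

variable (B) in
/-- The primes under `Q` in the support of `F ⊗ N`. -/
def suppBelow : Set (PrimeSpectrum F) :=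
  {P | P.asIdeal ≤ Q ∧ PrimeSpectrum.comap (algebraMap B F) P ∈ Module.support B N}

local notation "L" => Localization.AtPrime Q
local notation "c" => PrimeSpectrum.comap (algebraMap F (Localization.AtPrime Q))

theorem c_le_iff (P P' : PrimeSpectrum L) : P ≤ P' ↔ c P ≤ c P' := by
  refine ⟨fun h => Ideal.comap_mono h, fun h => ?_⟩
  have h1 : (P.asIdeal.comap (algebraMap F L)).map (algebraMap F L) ≤
      (P'.asIdeal.comap (algebraMap F L)).map (algebraMap F L) := Ideal.map_mono h
  rwa [IsLocalization.map_under Q.primeCompl, IsLocalization.map_under Q.primeCompl] at h1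

theorem mem_support_loc_iff (P : PrimeSpectrum L) :
    P ∈ Module.support L (L ⊗[B] N) ↔ c P ∈ suppBelow B N Q := by
  rw [Dim.support_tensor B L L N]
  have h0 : P ∈ Module.support L L := by
    rw [Module.mem_support_iff']
    exact ⟨1, fun a ha h => ha (by rw [smul_eq_mul, mul_one] at h; exact h ▸ P.asIdeal.zero_mem)⟩
  have hle : (c P).asIdeal ≤ Q := by
    have : c P ∈ Set.range c := ⟨P, rfl⟩
    rw [PrimeSpectrum.localization_comap_range L Q.primeCompl, Set.mem_ofPred_eq] at this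
    intro a ha
    by_contra hn
    exact Set.disjoint_left.1 this hn ha
  simp only [Set.mem_inter_iff, h0, true_and, Set.mem_preimage, suppBelow, Set.mem_ofPred_eq, hle]
  rw [show PrimeSpectrum.comap (algebraMap B L) P = PrimeSpectrum.comap (algebraMap B F) (c P) from
    PrimeSpectrum.ext (by rw [PrimeSpectrum.comap_asIdeal, PrimeSpectrum.comap_asIdeal,
      PrimeSpectrum.comap_asIdeal, Ideal.comap_comap, ← IsScalarTower.algebraMap_eq])]

theorem exists_c_eq {P : PrimeSpectrum F} (h : P.asIdeal ≤ Q) : ∃ P' : PrimeSpectrum L, c P' = P := by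
  have : P ∈ Set.range c := by
    rw [PrimeSpectrum.localization_comap_range L Q.primeCompl]
    exact Set.disjoint_left.2 fun a ha ha' => ha (h ha')
  exact this

theorem mem_minimalPrimes_ann_iff (P : PrimeSpectrum L) :
    P.asIdeal ∈ (Module.annihilator L (L ⊗[B] N)).minimalPrimes ↔ Minimal (· ∈ suppBelow B N Q) (c P) := by
  have hmem : ∀ P : PrimeSpectrum L, c P ∈ suppBelow B N Q ↔ Module.annihilator L (L ⊗[B] N) ≤ P.asIdeal := by
    intro P
    rw [← mem_support_loc_iff, Module.support_eq_zeroLocus]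
    rfl
  constructor
  · intro h
    refine ⟨(hmem P).2 h.1.2, fun R hR hle => ?_⟩
    obtain ⟨R', rfl⟩ := exists_c_eq Q hR.1
    exact (c_le_iff Q P R').1 (h.2 ⟨R'.isPrime, (hmem R').1 hR⟩ ((c_le_iff Q R' P).2 hle))
  · intro h
    refine ⟨⟨P.isPrime, (hmem P).1 h.1⟩, fun R hR hle => ?_⟩
    exact (c_le_iff Q P ⟨R, hR.1⟩).2 (h.2 ((hmem ⟨R, hR.1⟩).2 hR.2) ((c_le_iff Q ⟨R, hR.1⟩ P).1 hle))

variable [Algebra.FiniteType k F]

theorem exists_tdeg_eq (P : Ideal F) [P.IsPrime] : ∃ t : ℕ, tdeg k P = t := by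
  haveI := VarDim.finiteType_quotient k F P
  obtain ⟨t, -, ht, -⟩ := VarDim.exists_ringKrullDim_eq_trdeg (k := k) (A := F ⧸ P)
  haveI : Algebra.IsAlgebraic (F ⧸ P) P.ResidueField :=
    IsLocalization.isAlgebraic P.ResidueField (nonZeroDivisors (F ⧸ P))
  refine ⟨t, ?_⟩
  show Algebra.trdeg k P.ResidueField = t
  rw [← trdeg_add_eq k (F ⧸ P), trdeg_eq_zero (R := F ⧸ P), add_zero, ht]

/-- The dimension of the quotient of `F_Q` at a prime of the support. -/
theorem ringKrullDim_loc_quot_add (P : PrimeSpectrum L) (r t : ℕ) (hr : tdeg k Q = r)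
    (ht : tdeg k (c P).asIdeal = t) :
    ringKrullDim (L ⧸ P.asIdeal) + (r : WithBot ℕ∞) = (t : WithBot ℕ∞) := by
  have hle : (c P).asIdeal ≤ Q := by
    intro a ha
    by_contra hn
    exact (P.isPrime.ne_top) (Ideal.eq_top_of_isUnit_mem _ ha (IsLocalization.map_units L (⟨a, hn⟩ : Q.primeCompl)))
  rw [← ringKrullDim_eq_of_ringEquiv (Ideal.quotEquivOfEq
    (IsLocalization.map_under Q.primeCompl L P.asIdeal)),
    show Ideal.under F P.asIdeal = (c P).asIdeal from rfl, S9180.ringKrullDim_loc_quot Q (c P).asIdeal hle, ← TrdegDim.ringKrullDim_quotient_eq_add Q (c P).asIdeal hle r hr,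
    TrdegDim.ringKrullDim_quotient_eq (c P).asIdeal t ht]

theorem isEquidimModule_loc_iff :
    EGA4.IsEquidimModule L (L ⊗[B] N) ↔
      ∀ P P' : PrimeSpectrum F, Minimal (· ∈ suppBelow B N Q) P → Minimal (· ∈ suppBelow B N Q) P' →
        tdeg k P.asIdeal = tdeg k P'.asIdeal := by
  obtain ⟨r, hr⟩ := exists_tdeg_eq (k := k) Q
  constructor
  · intro h P P' hP hP'
    obtain ⟨R, rfl⟩ := exists_c_eq Q hP.1.1
    obtain ⟨R', rfl⟩ := exists_c_eq Q hP'.1.1
    obtain ⟨t, ht⟩ := exists_tdeg_eq (k := k) (c R).asIdeal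
    obtain ⟨t', ht'⟩ := exists_tdeg_eq (k := k) (c R').asIdeal
    have h1 := ringKrullDim_loc_quot_add Q R r t hr ht
    have h2 := ringKrullDim_loc_quot_add Q R' r t' hr ht'
    rw [h _ ((mem_minimalPrimes_ann_iff N Q R).2 hP)] at h1
    rw [h _ ((mem_minimalPrimes_ann_iff N Q R').2 hP'), h1, Nat.cast_inj] at h2
    rw [ht, ht', h2]
  · intro h p hp
    haveI := hp.1.1
    refine (supportDim_eq_of_forall_minimal _ (fun p' hp' => ?_) p hp).symm
    haveI := hp'.1.1
    obtain ⟨t, ht⟩ := exists_tdeg_eq (k := k) (c (⟨p, inferInstance⟩ : PrimeSpectrum L)).asIdeal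
    have ht' : tdeg k (c (⟨p', inferInstance⟩ : PrimeSpectrum L)).asIdeal = t :=
      ht ▸ h _ _ ((mem_minimalPrimes_ann_iff N Q ⟨p', inferInstance⟩).1 hp')
        ((mem_minimalPrimes_ann_iff N Q ⟨p, inferInstance⟩).1 hp)
    have h1 := ringKrullDim_loc_quot_add Q ⟨p, inferInstance⟩ r t hr ht
    have h2 := ringKrullDim_loc_quot_add Q ⟨p', inferInstance⟩ r t hr ht'
    exact ENat.WithBot.add_natCast_cancel.1 (h2.trans h1.symm)

omit [Algebra.FiniteType k F] in
theorem supportDim_loc_eq_zero (hQ : Minimal (· ∈ suppBelow B N Q) (⟨Q, inferInstance⟩ : PrimeSpectrum F)) :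
    Module.supportDim L (L ⊗[B] N) = 0 := by
  have hmem : closedPoint L ∈ Module.support L (L ⊗[B] N) := by
    rw [mem_support_loc_iff]
    have : c (closedPoint L) = ⟨Q, inferInstance⟩ := PrimeSpectrum.ext (IsLocalization.AtPrime.comap_maximalIdeal L Q)
    rw [this]
    exact hQ.1
  haveI : Nonempty (Module.support L (L ⊗[B] N)) := ⟨⟨_, hmem⟩⟩
  rw [Module.supportDim]
  refine le_antisymm (Order.krullDim_nonpos_iff_forall_isMax.2 fun a b hb => ?_) Order.krullDim_nonneg
  have ha' := (mem_support_loc_iff N Q a.1).1 a.2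
  have hb' := (mem_support_loc_iff N Q b.1).1 b.2
  exact (c_le_iff Q _ _).2 (le_trans (show (c b.1).asIdeal ≤ Q from hb'.1) (hQ.2 ha' ha'.1))

omit [Algebra.FiniteType k F] in
theorem minimal_of_supportDim_eq_zero (h : Module.supportDim L (L ⊗[B] N) = 0) :
    Minimal (· ∈ suppBelow B N Q) (⟨Q, inferInstance⟩ : PrimeSpectrum F) := by
  rw [Module.supportDim] at h
  have hne : Nonempty (Module.support L (L ⊗[B] N)) := by
    by_contra hn
    rw [not_nonempty_iff] at hn
    rw [Order.krullDim_eq_bot] at h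
    simp at h
  obtain ⟨a⟩ := hne
  have hall := Order.krullDim_nonpos_iff_forall_isMin.1 h.le
  have hclosed : closedPoint L ∈ Module.support L (L ⊗[B] N) :=
    Module.mem_support_mono (IsLocalRing.le_maximalIdeal a.1.isPrime.ne_top) a.2
  have hc : c (closedPoint L) = ⟨Q, inferInstance⟩ := PrimeSpectrum.ext (IsLocalization.AtPrime.comap_maximalIdeal L Q)
  refine ⟨hc ▸ (mem_support_loc_iff N Q _).1 hclosed, fun R hR _ => ?_⟩
  obtain ⟨R', rfl⟩ := exists_c_eq Q hR.1
  have hR' := (mem_support_loc_iff N Q R').2 hR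
  have := (hall ⟨_, hclosed⟩) (b := ⟨R', hR'⟩) (IsLocalRing.le_maximalIdeal R'.isPrime.ne_top)
  exact hc ▸ (c_le_iff Q _ _).1 this

end Field

section Fibre

attribute [local instance] Algebra.TensorProduct.rightAlgebra

variable {A B : Type u} [CommRing A] [CommRing B] [Algebra A B] [Algebra.FiniteType A B]
  (N : Type u) [AddCommGroup N] [Module B N] [Module.Finite B N]

theorem trdegEQ_iff_tdeg (z : PrimeSpectrum B) {p : Ideal A} [p.IsPrime] (hzp : z.asIdeal.under A = p)
    (Qz : PrimeSpectrum (p.Fiber B))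
    (hQz : Qz.asIdeal.comap Algebra.TensorProduct.includeRight.toRingHom = z.asIdeal) (t : ℕ) :
    TrdegEQ A z t ↔ tdeg p.ResidueField Qz.asIdeal = t := by
  obtain ⟨t', h0, ht'⟩ := exists_trdeg_fibre z hzp Qz hQz (trdegGE_zero z)
  constructor
  · rintro ⟨h1, h2⟩
    obtain ⟨t'', ht1, ht2⟩ := exists_trdeg_fibre z hzp Qz hQz h1
    rw [ht2, Nat.cast_inj]
    by_contra hne
    refine h2 (trdegGE_of_fibre z hzp Qz hQz fun u hu => ?_)
    have : u = t'' := Nat.cast_inj.1 (hu.symm.trans ht2)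
    omega
  · intro ht
    refine ⟨trdegGE_of_fibre z hzp Qz hQz fun u hu => (Nat.cast_inj.1 (ht.symm.trans hu)).le, fun h => ?_⟩
    obtain ⟨u, hu1, hu2⟩ := exists_trdeg_fibre z hzp Qz hQz h
    have : t = u := Nat.cast_inj.1 (ht.symm.trans hu2)
    omega

theorem suppBelow_under {p : Ideal A} [p.IsPrime] (P : PrimeSpectrum (p.Fiber B)) :
    (P.asIdeal.comap (algebraMap B (p.Fiber B))).under A = p :=
  congrArg PrimeSpectrum.asIdeal ((PrimeSpectrum.preimageOrderIsoFiber A B ⟨p, inferInstance⟩).symm P).2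

theorem isAssFib_iff_minimal {p : Ideal A} [p.IsPrime] (Q P : PrimeSpectrum (p.Fiber B)) (hPQ : P ≤ Q)
    (q z : PrimeSpectrum B) (hQ : Q.asIdeal.comap (algebraMap B (p.Fiber B)) = q.asIdeal)
    (hz : P.asIdeal.comap (algebraMap B (p.Fiber B)) = z.asIdeal)
    (k : ℕ) (hk : 1 ≤ k) (hsk : FibSk A B N q k) :
    IsAssFib A B N z ↔ Minimal (· ∈ suppBelow B N Q.asIdeal) P := by
  haveI := isLocalRing_fibLocRing (A := A) z.asIdeal
  have hzp : z.asIdeal.under A = p := hz ▸ suppBelow_under P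
  have hqp : q.asIdeal.under A = p := hQ ▸ suppBelow_under Q
  haveI : z.asIdeal.LiesOver p := ⟨hzp.symm⟩
  obtain ⟨ψ⟩ := nonempty_fibre_algEquiv (A := A) p P z.asIdeal hz
  obtain ⟨-, hsd⟩ := EGA4Lib.depth_supportDim_tensor_algEquiv (L := Localization.AtPrime P.asIdeal) (L' := EGA4.FibLocRing A B z.asIdeal) ψ N
  have hmin : Minimal (· ∈ suppBelow B N Q.asIdeal) P ↔ Minimal (· ∈ suppBelow B N P.asIdeal) P := by
    constructor
    · rintro ⟨⟨h1, h2⟩, h3⟩
      exact ⟨⟨le_rfl, h2⟩, fun R hR hle => h3 ⟨hR.1.trans hPQ, hR.2⟩ hle⟩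
    · rintro ⟨⟨h1, h2⟩, h3⟩
      exact ⟨⟨hPQ, h2⟩, fun R hR hle => h3 ⟨hle, hR.2⟩ hle⟩
  rw [hmin]
  constructor
  · rintro ⟨hne, hd⟩
    refine minimal_of_supportDim_eq_zero N P.asIdeal ?_
    have h1 := hsk z (hz ▸ hQ ▸ Ideal.comap_mono hPQ) (hzp.trans hqp.symm)
    rw [hd] at h1
    rw [hsd]
    rcases min_le_iff.1 h1 with hk' | hs
    · exact absurd hk' (by simp; omega)
    · refine le_antisymm hs ?_
      generalize Module.supportDim (EGA4.FibLocRing A B z.asIdeal) (EGA4.FibLocRing A B z.asIdeal ⊗[B] N) = s at hne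
      induction s with
      | bot => exact absurd rfl hne
      | coe s => exact WithBot.coe_le_coe.2 bot_le
  · intro h
    have h0 := supportDim_loc_eq_zero N P.asIdeal h
    rw [hsd] at h0
    refine ⟨by rw [h0]; simp, ?_⟩
    haveI : IsNoetherianRing (p.Fiber B) := Algebra.FiniteType.isNoetherianRing p.ResidueField _
    haveI : IsNoetherianRing (EGA4.FibLocRing A B z.asIdeal) :=
      isNoetherianRing_of_surjective _ _ ψ.toRingHom ψ.surjective
    haveI : Nontrivial (EGA4.FibLocRing A B z.asIdeal ⊗[B] N) := by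
      rw [← not_subsingleton_iff_nontrivial]
      intro hs
      rw [(Module.supportDim_eq_bot_iff_subsingleton _ _).2 hs] at h0
      simp at h0
    have hle := h0.le.trans' (Depth.depth_le_supportDim (R := EGA4.FibLocRing A B z.asIdeal))
    exact le_antisymm (WithBot.coe_le_coe.1 hle) bot_le

theorem isEquidimModule_iff_exists_assDims {p : Ideal A} [p.IsPrime] (Q : PrimeSpectrum (p.Fiber B))
    (q : PrimeSpectrum B) (hQ : Q.asIdeal.comap (algebraMap B (p.Fiber B)) = q.asIdeal) (k : ℕ) (hk : 1 ≤ k)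
    (hsk : FibSk A B N q k) :
    EGA4.IsEquidimModule (Localization.AtPrime Q.asIdeal) (Localization.AtPrime Q.asIdeal ⊗[B] N) ↔
      ∃ j : ℕ, AssDimsIn A B N {j} q := by
  rw [isEquidimModule_loc_iff (k := p.ResidueField)]
  have hqp : q.asIdeal.under A = p := hQ ▸ suppBelow_under Q
  constructor
  · intro h
    by_cases hex : ∃ P : PrimeSpectrum (p.Fiber B), Minimal (· ∈ suppBelow B N Q.asIdeal) P
    · obtain ⟨P₀, hP₀⟩ := hex
      obtain ⟨j, hj⟩ := exists_tdeg_eq (k := p.ResidueField) P₀.asIdeal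
      refine ⟨j, fun z hzq hzp hass => ⟨j, Finset.mem_singleton_self j, ?_⟩⟩
      obtain ⟨P, hP⟩ := exists_fibre_pt z (hzp.trans hqp)
      have hPQ : P ≤ Q := fibre_le_of_le P Q ((hP.le.trans hzq).trans hQ.ge)
      rw [trdegEQ_iff_tdeg z (hzp.trans hqp) P hP]
      exact (h _ _ ((isAssFib_iff_minimal N Q P hPQ q z hQ hP k hk hsk).1 hass) hP₀).trans hj
    · refine ⟨0, fun z hzq hzp hass => ?_⟩
      obtain ⟨P, hP⟩ := exists_fibre_pt z (hzp.trans hqp)
      have hPQ : P ≤ Q := fibre_le_of_le P Q ((hP.le.trans hzq).trans hQ.ge)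
      exact absurd ⟨P, (isAssFib_iff_minimal N Q P hPQ q z hQ hP k hk hsk).1 hass⟩ hex
  · rintro ⟨j, hj⟩ P P' hP hP'
    have key : ∀ R : PrimeSpectrum (p.Fiber B), Minimal (· ∈ suppBelow B N Q.asIdeal) R →
        tdeg p.ResidueField R.asIdeal = j := by
      intro R hR
      let z : PrimeSpectrum B := PrimeSpectrum.comap (algebraMap B (p.Fiber B)) R
      have hzp : z.asIdeal.under A = p := suppBelow_under R
      obtain ⟨j', hj', ht⟩ := hj z (hQ ▸ Ideal.comap_mono hR.1.1) (hzp.trans hqp.symm)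
        ((isAssFib_iff_minimal N Q R hR.1.1 q z hQ rfl k hk hsk).2 hR)
      rw [Finset.mem_singleton.1 hj'] at ht
      exact (trdegEQ_iff_tdeg z hzp R rfl j).1 ht
    rw [key P hP, key P' hP']

end Fibre

section Scheme

attribute [local instance] Algebra.TensorProduct.rightAlgebra

variable {X Y : Scheme.{u}} (f : X ⟶ Y)

theorem equidim_and_sk_iff_chart {V : Y.Opens} (hV : IsAffineOpen V) {U : X.Opens} (hU : IsAffineOpen U)
    (e : U ≤ f ⁻¹ᵁ V) (F : X.Modules) [F.IsQuasicoherent] [LocallyOfFiniteType f]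
    (hF : Module.Finite Γ(X, U) Γ(F, U)) (k : ℕ) (hk : 1 ≤ k) (s : Y) (y : f.fiber s) (x : X)
    (hxy : f.fiberι s y = x) (hx : x ∈ U) :
    letI := (f.appLE V U e).hom.toAlgebra
    (EGA4.IsEquidimModule ((f.fiber s).presheaf.stalk y) (((Scheme.Modules.pullback (f.fiberι s)).obj F).presheaf.stalk y) ∧
      LocCoh.HasSk k ((f.fiber s).presheaf.stalk y) (((Scheme.Modules.pullback (f.fiberι s)).obj F).presheaf.stalk y)) ↔
      FibSk Γ(Y, V) Γ(X, U) Γ(F, U) (hU.primeIdealOf ⟨x, hx⟩) k ∧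
        ∃ j, AssDimsIn Γ(Y, V) Γ(X, U) Γ(F, U) {j} (hU.primeIdealOf ⟨x, hx⟩) := by
  letI := (f.appLE V U e).hom.toAlgebra
  haveI : Algebra.FiniteType Γ(Y, V) Γ(X, U) := f.finiteType_appLE hV hU e
  haveI := hF
  rw [hasSk_iff_chart f hV hU e F inferInstance hF k s y x hxy hx, and_comm]
  refine and_congr_right fun hsk => ?_
  subst hxy
  set q := hU.primeIdealOf ⟨f.fiberι s y, hx⟩
  haveI := isLocalRing_fibLocRing (A := Γ(Y, V)) q.asIdeal
  let p := q.asIdeal.under Γ(Y, V)
  haveI : q.asIdeal.LiesOver p := ⟨rfl⟩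
  letI := fibreAlg f s y hx
  obtain ⟨ε⟩ := nonempty_fibre_ring_chart f hV hU e s y hx
  obtain ⟨μ⟩ := nonempty_fibre_module_chart f hU F s y hx
  obtain ⟨Q, hQ⟩ := RelDim.exists_over Γ(Y, V) Γ(X, U) q
  obtain ⟨ψ⟩ := nonempty_fibre_algEquiv (A := Γ(Y, V)) p Q q.asIdeal hQ
  exact ((isEquidimModule_congr μ).trans (isEquidimModule_tensor_algEquiv (ψ.trans ε) Γ(F, U)).symm).trans
    (isEquidimModule_iff_exists_assDims Γ(F, U) Q q hQ k hk hsk)

/-- EGA IV 12.1.1 (iv): equidimensional with `(S_k)` is open. -/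
theorem isOpen_equidim_and_sk [LocallyOfFinitePresentation f] (F : X.Modules) (hF : CohB1.IsFP F)
    (hflat : FlatMod.IsFlatOver f F) (k : ℕ) (hk : 1 ≤ k) :
    IsOpen {x : X | EGA4.IsEquidimModule ((f.fiber (f.base x)).presheaf.stalk (f.asFiber x))
        (((Scheme.Modules.pullback (f.fiberι (f.base x))).obj F).presheaf.stalk (f.asFiber x)) ∧
      LocCoh.HasSk k ((f.fiber (f.base x)).presheaf.stalk (f.asFiber x))
        (((Scheme.Modules.pullback (f.fiberι (f.base x))).obj F).presheaf.stalk (f.asFiber x))} := by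
  refine isOpen_of_charts f F hF hflat _ fun V U hV hU e _ _ hfl _ => ?_
  letI := (f.appLE V U e).hom.toAlgebra
  letI : Module Γ(Y, V) Γ(F, U) := Module.compHom _ (f.appLE V U e).hom
  haveI : IsScalarTower Γ(Y, V) Γ(X, U) Γ(F, U) := IsScalarTower.of_algebraMap_smul fun _ _ => rfl
  haveI := hfl
  refine ⟨{q | FibSk Γ(Y, V) Γ(X, U) Γ(F, U) q k} ∩ ⋃ j, {q | AssDimsIn Γ(Y, V) Γ(X, U) Γ(F, U) {j} q},
    (isOpen_fibSk Γ(F, U) k).inter (isOpen_iUnion fun j => (isOpen_assLoci Γ(F, U) {j} 0).1), fun x hx => ?_⟩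
  rw [equidim_and_sk_iff_chart f hV hU e F inferInstance k hk (f.base x) (f.asFiber x) x (f.fiberι_asFiber x) hx]
  simp

end Scheme

end Groth.Agent.FibCodepth
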