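import Groth.Agent.FibCodepth.FibExactGeneric
import Groth.Agent.FibCodepth.FibVanish

/-!
# Exactness in the fibres is constructible
-/

set_option autoImplicit false
set_option linter.style.haveILetI false

universe u

open TensorProduct Function Topology Groth.Agent.FlatOpen

namespace Groth.Agent.FibCodepth

/-- The points over which the fibres of a sequence are exact. -/
def exactSet {R F G H : Type u} [CommRing R] [AddCommGroup F] [AddCommGroup G] [AddCommGroup H]
    [Module R F] [Module R G] [Module R H] (u : F →ₗ[R] G) (v : G →ₗ[R] H) : Set (PrimeSpectrum R) :=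
  {p | Exact (u.baseChange p.asIdeal.ResidueField) (v.baseChange p.asIdeal.ResidueField)}

section Noeth

variable {R B : Type u} [CommRing R] [CommRing B] [Algebra R B] [Algebra.FiniteType R B] [IsNoetherianRing R]
  {F G H : Type u} [AddCommGroup F] [Module B F] [Module R F] [IsScalarTower R B F]
  [AddCommGroup G] [Module B G] [Module R G] [IsScalarTower R B G] [Module.Finite B G]
  [AddCommGroup H] [Module B H] [Module R H] [IsScalarTower R B H] [Module.Finite B H]

theorem isConstructible_exactSet_of_noetherian (u : F →ₗ[B] G) (v : G →ₗ[B] H) :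
    IsConstructible (exactSet (u.restrictScalars R) (v.restrictScalars R)) := by
  set E := exactSet (u.restrictScalars R) (v.restrictScalars R) with hE
  have hZ : ∀ I : Ideal R, IsConstructible (PrimeSpectrum.zeroLocus (I : Set R)) := by
    intro I
    obtain ⟨s, rfl⟩ : I.FG := IsNoetherian.noetherian I
    have h := (PrimeSpectrum.isCompact_isOpen_iff_ideal (s := (PrimeSpectrum.zeroLocus (Ideal.span (s : Set R) : Set R))ᶜ)).2
      ⟨_, ⟨⟨s, rfl⟩, rfl⟩⟩
    simpa using (IsCompact.isConstructible h.1 h.2).compl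
  have H' : ∀ I : Ideal R, IsConstructible (E ∩ PrimeSpectrum.zeroLocus (I : Set R)) := by
    intro I
    induction I using WellFoundedGT.induction with
    | ind I ih =>
      by_cases htop : I = ⊤
      · rw [htop, PrimeSpectrum.zeroLocus_empty_iff_eq_top.2 rfl, Set.inter_empty]
        exact IsConstructible.empty
      by_cases hprime : I.IsPrime
      swap
      · obtain ⟨a, ha, b, hb, hab⟩ := (Ideal.not_isPrime_iff.1 hprime).resolve_left htop
        have h : PrimeSpectrum.zeroLocus (I : Set R) =
            PrimeSpectrum.zeroLocus ((I ⊔ Ideal.span {a} : Ideal R) : Set R) ∪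
              PrimeSpectrum.zeroLocus ((I ⊔ Ideal.span {b} : Ideal R) : Set R) := by
          ext q
          simp only [PrimeSpectrum.mem_zeroLocus, Set.mem_union, SetLike.coe_subset_coe, sup_le_iff,
            Ideal.span_singleton_le_iff_mem]
          constructor
          · intro hq
            exact (q.isPrime.mem_or_mem (hq hab)).imp (fun h => ⟨hq, h⟩) fun h => ⟨hq, h⟩
          · rintro (⟨h, -⟩ | ⟨h, -⟩) <;> exact h
        rw [h, Set.inter_union_distrib_left]
        exact (ih _ (Submodule.lt_sup_iff_notMem.2 ha)).union (ih _ (Submodule.lt_sup_iff_notMem.2 hb))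
      obtain ⟨c, hc, hiff⟩ := exists_forall_exact_iff (R := R) u v (R ⧸ I)
      obtain ⟨g, rfl⟩ := Ideal.Quotient.mk_surjective c
      have hg : g ∉ I := fun h => hc (Ideal.Quotient.eq_zero_iff_mem.2 h)
      have key : ∀ p : PrimeSpectrum R, I ≤ p.asIdeal → g ∉ p.asIdeal →
          (p ∈ E ↔ Exact ((u.restrictScalars R).baseChange (FractionRing (R ⧸ I)))
            ((v.restrictScalars R).baseChange (FractionRing (R ⧸ I)))) := by
        intro p hIp hgp
        letI : Algebra (R ⧸ I) p.asIdeal.ResidueField :=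
          (Ideal.Quotient.lift I (algebraMap R p.asIdeal.ResidueField) fun a ha =>
            Ideal.algebraMap_residueField_eq_zero.2 (hIp ha)).toAlgebra
        haveI : IsScalarTower R (R ⧸ I) p.asIdeal.ResidueField := IsScalarTower.of_algebraMap_eq fun a => rfl
        refine hiff p.asIdeal.ResidueField (FractionRing (R ⧸ I)) ?_ ?_
        · show algebraMap R p.asIdeal.ResidueField g ≠ 0
          rwa [Ne, Ideal.algebraMap_residueField_eq_zero]
        · rwa [Ne, IsFractionRing.to_map_eq_zero_iff]
      have hrest := ih _ (Submodule.lt_sup_iff_notMem.2 hg)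
      by_cases hgen : Exact ((u.restrictScalars R).baseChange (FractionRing (R ⧸ I)))
          ((v.restrictScalars R).baseChange (FractionRing (R ⧸ I)))
      · have hsplit : E ∩ PrimeSpectrum.zeroLocus (I : Set R) =
            PrimeSpectrum.zeroLocus (I : Set R) \ PrimeSpectrum.zeroLocus ((I ⊔ Ideal.span {g} : Ideal R) : Set R) ∪
              (E ∩ PrimeSpectrum.zeroLocus ((I ⊔ Ideal.span {g} : Ideal R) : Set R)) := by
          ext q
          simp only [Set.mem_inter_iff, Set.mem_union, Set.mem_sdiff, PrimeSpectrum.mem_zeroLocus, SetLike.coe_subset_coe,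
            sup_le_iff, Ideal.span_singleton_le_iff_mem]
          have := fun a b => (key q a b).2 hgen
          tauto
        rw [hsplit]
        exact ((hZ _).sdiff (hZ _)).union hrest
      · have hsplit : E ∩ PrimeSpectrum.zeroLocus (I : Set R) =
            E ∩ PrimeSpectrum.zeroLocus ((I ⊔ Ideal.span {g} : Ideal R) : Set R) := by
          ext q
          simp only [Set.mem_inter_iff, PrimeSpectrum.mem_zeroLocus, SetLike.coe_subset_coe,
            sup_le_iff, Ideal.span_singleton_le_iff_mem]
          have := fun a b h => hgen ((key q a b).1 h)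
          tauto
        rw [hsplit]
        exact hrest
  simpa using H' ⊥

end Noeth

section Descent

theorem mem_exactSet_comap {R₀ R F G H : Type u} [CommRing R₀] [CommRing R] [Algebra R₀ R]
    [AddCommGroup F] [AddCommGroup G] [AddCommGroup H] [Module R₀ F] [Module R₀ G] [Module R₀ H]
    (u : F →ₗ[R₀] G) (v : G →ₗ[R₀] H) (p : PrimeSpectrum R) :
    p ∈ exactSet (u.baseChange R) (v.baseChange R) ↔
      PrimeSpectrum.comap (algebraMap R₀ R) p ∈ exactSet u v := by
  let k := p.asIdeal.ResidueField
  let p₀ := (PrimeSpectrum.comap (algebraMap R₀ R) p).asIdeal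
  let φ : p₀.ResidueField →+* k := Ideal.ResidueField.map p₀ p.asIdeal (algebraMap R₀ R) rfl
  letI : Algebra p₀.ResidueField k := φ.toAlgebra
  haveI : IsScalarTower R₀ p₀.ResidueField k := IsScalarTower.of_algebraMap_eq fun a => by
    rw [RingHom.algebraMap_toAlgebra, IsScalarTower.algebraMap_apply R₀ R k]
    exact (Ideal.ResidueField.map_algebraMap p₀ p.asIdeal (algebraMap R₀ R) rfl a).symm
  show Exact ((u.baseChange R).baseChange k) ((v.baseChange R).baseChange k) ↔ _
  rw [exact_baseChange_tower_iff u v R k]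
  exact exact_baseChange_field_iff u v p₀.ResidueField k

/-- The exactness locus only depends on the range of the first map. -/
theorem exactSet_comp_of_surjective {R F' F G H : Type u} [CommRing R] [AddCommGroup F'] [AddCommGroup F]
    [AddCommGroup G] [AddCommGroup H] [Module R F'] [Module R F] [Module R G] [Module R H]
    (s : F' →ₗ[R] F) (hs : Surjective s) (u : F →ₗ[R] G) (v : G →ₗ[R] H) :
    exactSet (u ∘ₗ s) v = exactSet u v := by
  ext p
  have hrange : LinearMap.range ((u ∘ₗ s).baseChange p.asIdeal.ResidueField) =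
      LinearMap.range (u.baseChange p.asIdeal.ResidueField) := by
    rw [LinearMap.baseChange_comp]
    exact LinearMap.range_comp_of_range_eq_top _ (LinearMap.range_eq_top.2 (LinearMap.lTensor_surjective _ hs))
  show Exact _ _ ↔ Exact _ _
  rw [LinearMap.exact_iff, LinearMap.exact_iff, hrange]

theorem exactSet_congr {R F G H F' G' H' : Type u} [CommRing R] [AddCommGroup F] [AddCommGroup G] [AddCommGroup H]
    [AddCommGroup F'] [AddCommGroup G'] [AddCommGroup H']
    [Module R F] [Module R G] [Module R H] [Module R F'] [Module R G'] [Module R H']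
    (u : F →ₗ[R] G) (v : G →ₗ[R] H) (u' : F' →ₗ[R] G') (v' : G' →ₗ[R] H')
    (e₁ : F ≃ₗ[R] F') (e₂ : G ≃ₗ[R] G') (e₃ : H ≃ₗ[R] H')
    (h₁ : u' ∘ₗ e₁.toLinearMap = e₂.toLinearMap ∘ₗ u) (h₂ : v' ∘ₗ e₂.toLinearMap = e₃.toLinearMap ∘ₗ v) :
    exactSet u v = exactSet u' v' := by
  ext p
  refine (Function.Exact.iff_of_ladder_linearEquiv (e₁ := e₁.baseChange R p.asIdeal.ResidueField _ _)
    (e₂ := e₂.baseChange R p.asIdeal.ResidueField _ _) (e₃ := e₃.baseChange R p.asIdeal.ResidueField _ _) ?_ ?_).symm
  · show u'.baseChange _ ∘ₗ e₁.toLinearMap.baseChange _ = e₂.toLinearMap.baseChange _ ∘ₗ u.baseChange _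
    rw [← LinearMap.baseChange_comp, h₁, LinearMap.baseChange_comp]
  · show v'.baseChange _ ∘ₗ e₂.toLinearMap.baseChange _ = e₃.toLinearMap.baseChange _ ∘ₗ v.baseChange _
    rw [← LinearMap.baseChange_comp, h₂, LinearMap.baseChange_comp]

attribute [local instance] MvPolynomial.algebraMvPolynomial

variable {R : Type u} [CommRing R] {n : ℕ}

/-- The fibrewise exactness locus of a sequence with a Noetherian model. -/
theorem isConstructible_exactSet_model {R₀ : Type u} [CommRing R₀] [IsNoetherianRing R₀] [Algebra R₀ R]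
    {a rG rH : ℕ} (ZG : Submodule (MvPolynomial (Fin n) R₀) (Vec n rG R₀))
    (ZH : Submodule (MvPolynomial (Fin n) R₀) (Vec n rH R₀)) (g₀ : Fin a → Vec n rG R₀)
    (Mw : Vec n rG R₀ →ₗ[MvPolynomial (Fin n) R₀] Vec n rH R₀) (hle : ZG ≤ ZH.comap Mw)
    {F G H : Type u} [AddCommGroup F] [AddCommGroup G] [AddCommGroup H] [Module R F] [Module R G] [Module R H]
    (u : F →ₗ[R] G) (v : G →ₗ[R] H) (s : Vec n a R →ₗ[R] F) (hs : Surjective s)
    (eG : G ≃ₗ[R] Quot R ZG) (eH : H ≃ₗ[R] Quot R ZH)
    (hu : ∀ x, eG (u (s (mapVec R x))) =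
      Submodule.Quotient.mk (mapVec R (Fintype.linearCombination (MvPolynomial (Fin n) R₀) g₀ x)))
    (hv : ∀ x, eH (v (eG.symm (Submodule.Quotient.mk (mapVec R x)))) = Submodule.Quotient.mk (mapVec R (Mw x))) :
    IsConstructible (exactSet u v) := by
  let u₀ : Vec n a R₀ →ₗ[MvPolynomial (Fin n) R₀] Vec n rG R₀ ⧸ ZG :=
    ZG.mkQ ∘ₗ Fintype.linearCombination (MvPolynomial (Fin n) R₀) g₀
  let v₀ : (Vec n rG R₀ ⧸ ZG) →ₗ[MvPolynomial (Fin n) R₀] (Vec n rH R₀ ⧸ ZH) := Submodule.mapQ ZG ZH Mw hle
  have h₀ := isConstructible_exactSet_of_noetherian (R := R₀) (B := MvPolynomial (Fin n) R₀) u₀ v₀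
  let εG : R ⊗[R₀] (Vec n rG R₀ ⧸ ZG) ≃ₗ[R] G := (quotEquiv R ZG).trans eG.symm
  let εH : R ⊗[R₀] (Vec n rH R₀ ⧸ ZH) ≃ₗ[R] H := (quotEquiv R ZH).trans eH.symm
  have key : exactSet ((u₀.restrictScalars R₀).baseChange R) ((v₀.restrictScalars R₀).baseChange R) =
      exactSet (u ∘ₗ s) v := by
    refine exactSet_congr _ _ _ _ (vecEquiv R) εG εH (LinearMap.ext fun t => ?_) (LinearMap.ext fun t => ?_)
    · induction t with
      | zero => simp
      | add t t' ht ht' => simp only [map_add, ht, ht']
      | tmul b x => ?_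
      simp only [LinearMap.comp_apply, LinearEquiv.coe_coe, LinearMap.baseChange_tmul, vecEquiv_tmul, map_smul]
      rw [show u₀.restrictScalars R₀ x = Submodule.Quotient.mk (Fintype.linearCombination _ g₀ x) from rfl,
        LinearEquiv.trans_apply, quotEquiv_tmul_mk, ← hu, map_smul, eG.symm_apply_apply]
    · induction t with
      | zero => simp
      | add t t' ht ht' => simp only [map_add, ht, ht']
      | tmul b y => ?_
      obtain ⟨x, rfl⟩ := Submodule.Quotient.mk_surjective ZG y
      simp only [LinearMap.comp_apply, LinearEquiv.coe_coe, LinearMap.baseChange_tmul]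
      rw [show v₀.restrictScalars R₀ (Submodule.Quotient.mk x) = Submodule.Quotient.mk (Mw x) from rfl,
        LinearEquiv.trans_apply, quotEquiv_tmul_mk, map_smul, map_smul, LinearEquiv.trans_apply, quotEquiv_tmul_mk,
        ← hv, map_smul, eH.symm_apply_apply]
  rw [← exactSet_comp_of_surjective s hs, ← key]
  have hcomap : exactSet ((u₀.restrictScalars R₀).baseChange R) ((v₀.restrictScalars R₀).baseChange R) =
      PrimeSpectrum.comap (algebraMap R₀ R) ⁻¹' exactSet (u₀.restrictScalars R₀) (v₀.restrictScalars R₀) :=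
    Set.ext fun p => mem_exactSet_comap _ _ p
  rw [hcomap]
  refine h₀.preimage (PrimeSpectrum.continuous_comap _) fun o ho _ => ?_
  obtain ⟨T, hT⟩ := (PrimeSpectrum.isCompact_isOpen_iff_ideal).1 ⟨TopologicalSpace.NoetherianSpace.isCompact o, ho⟩
  rw [QuasiSeparatedSpace.isRetrocompact_iff_isCompact (ho.preimage (PrimeSpectrum.continuous_comap _)), ← hT.2,
    Set.preimage_compl, PrimeSpectrum.preimage_comap_zeroLocus, ← PrimeSpectrum.zeroLocus_span]
  exact (PrimeSpectrum.isCompact_isOpen_iff_ideal.2 ⟨_, ⟨hT.1.map _, rfl⟩⟩).1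

theorem exists_lift_of_coeffs {r : ℕ} {c : Finset R} {v : Vec n r R} (h : ∀ i, (v i).coeffs ⊆ c) :
    ∃ v₀ : Vec n r (Algebra.adjoin ℤ (c : Set R)), mapVec R v₀ = v := by
  classical
  have : ∀ i, ∃ w : MvPolynomial (Fin n) (Algebra.adjoin ℤ (c : Set R)),
      MvPolynomial.map (algebraMap (Algebra.adjoin ℤ (c : Set R)) R) w = v i :=
    fun i => MvPolynomial.mem_range_map_iff_coeffs_subset.2 fun x hx =>
      ⟨⟨x, Algebra.subset_adjoin (h i hx)⟩, rfl⟩
  choose w hw using this
  exact ⟨w, funext hw⟩

theorem mk_eq_sum_smul {P : Type*} [CommRing P] {m : ℕ} {M : Type*} [AddCommGroup M] [Module P M]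
    (f : (Fin m → P) →ₗ[P] M) (x : Fin m → P) : f x = ∑ j, x j • f (Pi.single j 1) := by
  conv_lhs => rw [pi_eq_sum_univ' x]
  simp only [map_sum, map_smul]

/-- Exactness in the fibres is constructible, over a polynomial ring. -/
theorem isConstructible_exactSet_mvPolynomial {F G H : Type u} [AddCommGroup F] [AddCommGroup G] [AddCommGroup H]
    [Module (MvPolynomial (Fin n) R) F] [Module (MvPolynomial (Fin n) R) G] [Module (MvPolynomial (Fin n) R) H]
    [Module R F] [Module R G] [Module R H] [IsScalarTower R (MvPolynomial (Fin n) R) F]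
    [IsScalarTower R (MvPolynomial (Fin n) R) G] [IsScalarTower R (MvPolynomial (Fin n) R) H]
    [Module.Finite (MvPolynomial (Fin n) R) F] [Module.FinitePresentation (MvPolynomial (Fin n) R) G]
    [Module.FinitePresentation (MvPolynomial (Fin n) R) H]
    (u : F →ₗ[MvPolynomial (Fin n) R] G) (v : G →ₗ[MvPolynomial (Fin n) R] H) :
    IsConstructible (exactSet (u.restrictScalars R) (v.restrictScalars R)) := by
  classical
  let P := MvPolynomial (Fin n) R
  obtain ⟨a, s, hs⟩ := Module.Finite.exists_fin' P F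
  obtain ⟨rG, LG, eG, SG, hSG⟩ := Module.FinitePresentation.exists_fin P G
  obtain ⟨rH, LH, eH, SH, hSH⟩ := Module.FinitePresentation.exists_fin P H
  choose g hg using fun i : Fin a => Submodule.Quotient.mk_surjective LG (eG (u (s (Pi.single i 1))))
  choose w hw using fun j : Fin rG =>
    Submodule.Quotient.mk_surjective LH (eH (v (eG.symm (Submodule.Quotient.mk (Pi.single j 1)))))
  have hvmk : ∀ x : Vec n rG R, eH (v (eG.symm (Submodule.Quotient.mk x))) =
      Submodule.Quotient.mk (∑ j, x j • w j) := by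
    intro x
    have h := mk_eq_sum_smul ((eH.toLinearMap ∘ₗ v ∘ₗ eG.symm.toLinearMap) ∘ₗ LG.mkQ) x
    refine h.trans ?_
    rw [← Submodule.mkQ_apply, map_sum]
    refine Finset.sum_congr rfl fun j _ => ?_
    rw [map_smul, Submodule.mkQ_apply, hw]
    rfl
  have hrel : ∀ z ∈ SG, ∃ q : Vec n rH R → P, ∑ y ∈ SH, q y • y = ∑ j, z j • w j := by
    intro z hz
    have hmem : ∑ j, z j • w j ∈ Submodule.span P (SH : Set (Vec n rH R)) := by
      rw [hSH, ← Submodule.Quotient.mk_eq_zero, ← hvmk, (Submodule.Quotient.mk_eq_zero LG).2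
        (hSG ▸ Submodule.subset_span hz), map_zero, map_zero, map_zero]
    obtain ⟨q, -, hq⟩ := Submodule.mem_span_finset.1 hmem
    exact ⟨q, hq⟩
  choose! q hq using hrel
  let cv : ∀ {r : ℕ}, Vec n r R → Finset R := fun x => Finset.univ.biUnion fun i => (x i).coeffs
  let c : Finset R := (Finset.univ.biUnion fun i => cv (g i)) ∪ (Finset.univ.biUnion fun j => cv (w j)) ∪
    SG.biUnion cv ∪ SH.biUnion cv ∪ SG.biUnion (fun z => SH.biUnion fun y => (q z y).coeffs)
  let R₀ := Algebra.adjoin ℤ (c : Set R)
  haveI : IsNoetherianRing R₀ := isNoetherianRing_of_fg ⟨c, rfl⟩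
  have hinj : Injective (algebraMap R₀ R) := Subtype.val_injective
  have hcv : ∀ {r : ℕ} (x : Vec n r R), cv x ⊆ c → ∃ x₀ : Vec n r R₀, mapVec R x₀ = x := fun x hx =>
    exists_lift_of_coeffs fun i => (Finset.subset_biUnion_of_mem (fun i => (x i).coeffs) (Finset.mem_univ i)).trans hx
  choose g₀ hg₀ using fun i => hcv (g i) (fun x hx => by
    simp only [c, Finset.mem_union, Finset.mem_biUnion]
    exact Or.inl (Or.inl (Or.inl (Or.inl ⟨i, Finset.mem_univ i, hx⟩))))
  choose w₀ hw₀ using fun j => hcv (w j) (fun x hx => by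
    simp only [c, Finset.mem_union, Finset.mem_biUnion]
    exact Or.inl (Or.inl (Or.inl (Or.inr ⟨j, Finset.mem_univ j, hx⟩))))
  choose! zG hzG using fun z (hz : z ∈ SG) => hcv z (fun x hx => by
    simp only [c, Finset.mem_union, Finset.mem_biUnion]
    exact Or.inl (Or.inl (Or.inr ⟨z, hz, hx⟩)))
  choose! yH hyH using fun y (hy : y ∈ SH) => hcv y (fun x hx => by
    simp only [c, Finset.mem_union, Finset.mem_biUnion]
    exact Or.inl (Or.inr ⟨y, hy, hx⟩))
  have hqlift : ∀ z ∈ SG, ∀ y ∈ SH, ∃ p : MvPolynomial (Fin n) R₀, MvPolynomial.map (algebraMap R₀ R) p = q z y :=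
    fun z hz y hy => MvPolynomial.mem_range_map_iff_coeffs_subset.2 fun x hx => ⟨⟨x, Algebra.subset_adjoin (by
      simp only [c, Finset.coe_union, Set.mem_union, Finset.mem_coe, Finset.mem_biUnion]
      exact Or.inr ⟨z, hz, y, hy, hx⟩)⟩, rfl⟩
  choose! q₀ hq₀ using hqlift
  let P₀ := MvPolynomial (Fin n) R₀
  let ZG : Submodule P₀ (Vec n rG R₀) := Submodule.span P₀ (zG '' (SG : Set (Vec n rG R)))
  let ZH : Submodule P₀ (Vec n rH R₀) := Submodule.span P₀ (yH '' (SH : Set (Vec n rH R)))
  have hZG : ext R ZG = LG := by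
    rw [ext_span, Set.image_image, ← hSG]
    exact congrArg _ ((Set.image_congr hzG).trans (Set.image_id' _))
  have hZH : ext R ZH = LH := by
    rw [ext_span, Set.image_image, ← hSH]
    exact congrArg _ ((Set.image_congr hyH).trans (Set.image_id' _))
  let Mw : Vec n rG R₀ →ₗ[P₀] Vec n rH R₀ := Fintype.linearCombination P₀ w₀
  have hMw : ∀ x, mapVec R (Mw x) = ∑ j, (mapVec R x) j • w j := by
    intro x
    rw [show Mw x = ∑ j, x j • w₀ j from Fintype.linearCombination_apply P₀ w₀ x, map_sum]
    refine Finset.sum_congr rfl fun j _ => ?_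
    refine (mapVec_smul R (x j) (w₀ j)).trans ?_
    rw [hw₀]
    rfl
  have hle : ZG ≤ ZH.comap Mw := by
    refine Submodule.span_le.2 ?_
    rintro _ ⟨z, hz, rfl⟩
    have heq : Mw (zG z) = ∑ y ∈ SH, q₀ z y • yH y := by
      refine mapVec_injective R hinj ?_
      rw [hMw, hzG z hz, ← hq z hz, map_sum]
      refine Finset.sum_congr rfl fun y hy => ?_
      rw [mapVec_smul, hq₀ z hz y hy, hyH y hy]
    show Mw (zG z) ∈ ZH
    rw [heq]
    exact Submodule.sum_mem _ fun y hy => Submodule.smul_mem _ _ (Submodule.subset_span ⟨y, hy, rfl⟩)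
  let εG : G ≃ₗ[R] Quot R ZG := (eG.trans (Submodule.quotEquivOfEq _ _ hZG.symm)).restrictScalars R
  let εH : H ≃ₗ[R] Quot R ZH := (eH.trans (Submodule.quotEquivOfEq _ _ hZH.symm)).restrictScalars R
  refine isConstructible_exactSet_model (R₀ := R₀) ZG ZH g₀ Mw hle (u.restrictScalars R) (v.restrictScalars R)
    (s.restrictScalars R) hs εG εH (fun x => ?_) (fun x => ?_)
  · show Submodule.quotEquivOfEq _ _ hZG.symm (eG (u (s (mapVec R x)))) = _
    rw [show eG (u (s (mapVec R x))) = (eG.toLinearMap ∘ₗ u ∘ₗ s) (mapVec R x) from rfl, mk_eq_sum_smul,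
      Fintype.linearCombination_apply, map_sum, map_sum, ← Submodule.mkQ_apply, map_sum]
    refine Finset.sum_congr rfl fun i _ => ?_
    rw [map_smul, mapVec_smul, hg₀, map_smul]
    exact congrArg _ (congrArg (Submodule.quotEquivOfEq _ _ hZG.symm) (hg i).symm)
  · show Submodule.quotEquivOfEq _ _ hZH.symm (eH (v (eG.symm ((Submodule.quotEquivOfEq _ _ hZG.symm).symm
      (Submodule.Quotient.mk (mapVec R x)))))) = Submodule.Quotient.mk (mapVec R (Mw x))
    rw [hMw, show (Submodule.quotEquivOfEq _ _ hZG.symm).symm (Submodule.Quotient.mk (mapVec R x)) =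
      Submodule.Quotient.mk (mapVec R x) from rfl, hvmk]
    rfl

/-- EGA IV 9.4.4: exactness in the fibres is constructible. -/
theorem isConstructible_exactSet {B : Type u} [CommRing B] [Algebra R B] [Algebra.FinitePresentation R B]
    {F G H : Type u} [AddCommGroup F] [Module B F] [Module R F] [IsScalarTower R B F] [Module.Finite B F]
    [AddCommGroup G] [Module B G] [Module R G] [IsScalarTower R B G] [Module.FinitePresentation B G]
    [AddCommGroup H] [Module B H] [Module R H] [IsScalarTower R B H] [Module.FinitePresentation B H]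
    (u : F →ₗ[B] G) (v : G →ₗ[B] H) :
    IsConstructible (exactSet (u.restrictScalars R) (v.restrictScalars R)) := by
  obtain ⟨m, π, hπ, hker⟩ := (inferInstance : Algebra.FinitePresentation R B).out
  let P := MvPolynomial (Fin m) R
  letI : Algebra P B := π.toRingHom.toAlgebra
  letI : Module P F := Module.compHom F π.toRingHom
  letI : Module P G := Module.compHom G π.toRingHom
  letI : Module P H := Module.compHom H π.toRingHom
  haveI : IsScalarTower P B F := IsScalarTower.of_algebraMap_smul fun _ _ => rfl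
  haveI : IsScalarTower P B G := IsScalarTower.of_algebraMap_smul fun _ _ => rfl
  haveI : IsScalarTower P B H := IsScalarTower.of_algebraMap_smul fun _ _ => rfl
  haveI : IsScalarTower R P B := IsScalarTower.of_algebraMap_eq fun a => (π.commutes a).symm
  haveI : IsScalarTower R P F := IsScalarTower.of_algebraMap_smul fun c x => by
    rw [← algebraMap_smul B (algebraMap R P c) x, ← IsScalarTower.algebraMap_apply, algebraMap_smul]
  haveI : IsScalarTower R P G := IsScalarTower.of_algebraMap_smul fun c x => by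
    rw [← algebraMap_smul B (algebraMap R P c) x, ← IsScalarTower.algebraMap_apply, algebraMap_smul]
  haveI : IsScalarTower R P H := IsScalarTower.of_algebraMap_smul fun c x => by
    rw [← algebraMap_smul B (algebraMap R P c) x, ← IsScalarTower.algebraMap_apply, algebraMap_smul]
  haveI : Module.FinitePresentation P B :=
    Module.finitePresentation_of_surjective (Algebra.linearMap P B) hπ (by
      rw [show LinearMap.ker (Algebra.linearMap P B) = RingHom.ker π.toRingHom from by ext x; rfl]
      exact hker)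
  haveI : Module.Finite P F := Module.Finite.trans B F
  haveI : Module.FinitePresentation P G := Module.FinitePresentation.trans P G B
  haveI : Module.FinitePresentation P H := Module.FinitePresentation.trans P H B
  exact isConstructible_exactSet_mvPolynomial (u.restrictScalars P) (v.restrictScalars P)

end Descent

end Groth.Agent.FibCodepth
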