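import Groth.Agent.FlatOpen.Presented
import Groth.Agent.FlatMisc.GenericFreeLoc

/-!
# Generic exactness of a sequence in the fibres

Over a domain, exactness of the fibres of a sequence of finite modules over an algebra of finite
type is constant on a non-empty open set.
-/

set_option autoImplicit false
set_option linter.style.haveILetI false

universe u

open TensorProduct Function

namespace Groth.Agent.FibCodepth

section Free

variable {T : Type u} [CommRing T]

/-- A non-zero element of a free module has a coefficient which detects it in the fibres. -/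
theorem exists_coord {H : Type u} [AddCommGroup H] [Module T H] [Module.Free T H] {h : H} (hh : h ≠ 0) :
    ∃ c : T, c ≠ 0 ∧ ∀ (k : Type u) [Field k] [Algebra T k], algebraMap T k c ≠ 0 → (1 : k) ⊗ₜ[T] h ≠ 0 := by
  let b := Module.Free.chooseBasis T H
  obtain ⟨i, hi⟩ : ∃ i, b.repr h i ≠ 0 := by
    by_contra! hall
    exact hh (b.repr.map_eq_zero_iff.1 (Finsupp.ext hall))
  refine ⟨_, hi, fun k _ _ hk h0 => hk ?_⟩
  have := congrArg (TensorProduct.lift (LinearMap.mk₂ T (fun (x : k) (y : H) => x * algebraMap T k (b.repr y i))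
    (fun x y z => add_mul _ _ _) (fun a x z => smul_mul_assoc _ _ _)
    (fun x y z => by simp [mul_add]) (fun a x z => by simp [Algebra.smul_def, mul_left_comm]))) h0
  simpa using this

variable {F G H N C : Type u} [AddCommGroup F] [AddCommGroup G] [AddCommGroup H] [AddCommGroup N] [AddCommGroup C]
  [Module T F] [Module T G] [Module T H] [Module T N] [Module T C]

/-- Over a domain, a sequence whose modules and cokernels are free has constant exactness in the fibres
away from a non-zero element. -/
theorem exists_forall_exact_iff_of_free [IsDomain T] [Module.Free T H] [Module.Free T N] [Module.Free T C]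
    (u : F →ₗ[T] G) (v : G →ₗ[T] H) (q : G →ₗ[T] N) (hq : Exact u q) (hqs : Surjective q)
    (r : H →ₗ[T] C) (hr : Exact v r) (hrs : Surjective r) :
    ∃ c : T, c ≠ 0 ∧ ∀ (k k' : Type u) [Field k] [Field k'] [Algebra T k] [Algebra T k'],
      algebraMap T k c ≠ 0 → algebraMap T k' c ≠ 0 →
      (Exact (u.baseChange k) (v.baseChange k) ↔ Exact (u.baseChange k') (v.baseChange k')) := by
  classical
  by_cases hvu : v ∘ₗ u = 0
  swap
  · obtain ⟨x, hx⟩ : ∃ x, v (u x) ≠ 0 := by
      by_contra! hall
      exact hvu (LinearMap.ext hall)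
    obtain ⟨c, hc, hk⟩ := exists_coord (T := T) hx
    refine ⟨c, hc, fun k k' _ _ _ _ h h' => iff_of_false (fun he => hk k h ?_) fun he => hk k' h' ?_⟩ <;>
      simpa using he.apply_apply_eq_zero ((1 : _) ⊗ₜ[T] x)
  have hker : LinearMap.ker q ≤ LinearMap.ker v := by
    intro g hg
    obtain ⟨x, rfl⟩ := (hq g).1 hg
    exact LinearMap.congr_fun hvu x
  let w : N →ₗ[T] H := (Submodule.liftQ _ v hker).comp (q.quotKerEquivOfSurjective hqs).symm.toLinearMap
  have hwq : ∀ g, w (q g) = v g := by
    intro g
    show Submodule.liftQ _ v hker ((q.quotKerEquivOfSurjective hqs).symm (q g)) = v g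
    rw [show (q.quotKerEquivOfSurjective hqs).symm (q g) = Submodule.Quotient.mk g by
      rw [LinearEquiv.symm_apply_eq]; rfl]
    rfl
  have hwq' : w ∘ₗ q = v := LinearMap.ext hwq
  by_cases hw : Injective w
  · refine ⟨1, one_ne_zero, fun k k' _ _ _ _ _ _ => ?_⟩
    obtain ⟨s, hs⟩ := Module.projective_lifting_property r LinearMap.id hrs
    have hmem : ∀ h, (LinearMap.id - s ∘ₗ r : H →ₗ[T] H) h ∈ LinearMap.range w := by
      intro h
      obtain ⟨g, hg⟩ := (hr (h - s (r h))).1 (by
        rw [map_sub, show r (s (r h)) = r h from LinearMap.congr_fun hs (r h), sub_self])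
      exact ⟨q g, (hwq g).trans hg⟩
    let ρ : H →ₗ[T] N := (LinearEquiv.ofInjective w hw).symm.toLinearMap.comp
      ((LinearMap.id - s ∘ₗ r).codRestrict _ hmem)
    have hρ : ρ ∘ₗ w = LinearMap.id := by
      refine LinearMap.ext fun n => ?_
      obtain ⟨g, rfl⟩ := hqs n
      show (LinearEquiv.ofInjective w hw).symm _ = q g
      rw [LinearEquiv.symm_apply_eq]
      ext
      show w (q g) - s (r (w (q g))) = w (q g)
      rw [hwq, hr.apply_apply_eq_zero, map_zero, sub_zero]
    have key : ∀ (l : Type u) [Field l] [Algebra T l], Exact (u.baseChange l) (v.baseChange l) := by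
      intro l _ _
      have hinj : Injective (w.lTensor l) := LeftInverse.injective (g := ρ.lTensor l) fun z => by
        rw [← LinearMap.comp_apply, ← LinearMap.lTensor_comp, hρ, LinearMap.lTensor_id, LinearMap.id_apply]
      have h := (lTensor_exact l hq hqs)
      intro z
      refine Iff.trans ?_ (h z)
      show v.lTensor l z = 0 ↔ _
      rw [← hwq', LinearMap.lTensor_comp, LinearMap.comp_apply, map_eq_zero_iff _ hinj]
    exact iff_of_true (key k) (key k')
  · obtain ⟨n, hn, hn0⟩ : ∃ n, w n = 0 ∧ n ≠ 0 := by
      by_contra! hall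
      exact hw ((injective_iff_map_eq_zero w).2 hall)
    obtain ⟨g, rfl⟩ := hqs n
    obtain ⟨c, hc, hk⟩ := exists_coord (T := T) hn0
    have key : ∀ (l : Type u) [Field l] [Algebra T l], algebraMap T l c ≠ 0 →
        ¬ Exact (u.baseChange l) (v.baseChange l) := by
      intro l _ _ hl he
      obtain ⟨z, hz⟩ := (he ((1 : l) ⊗ₜ[T] g)).1 (by
        rw [LinearMap.baseChange_tmul, ← hwq, hn, TensorProduct.tmul_zero])
      refine hk l hl ?_
      rw [← LinearMap.lTensor_tmul l q (1 : l) g, ← hz]
      exact ((lTensor_exact l hq hqs) _).2 ⟨z, rfl⟩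
    exact ⟨c, hc, fun k k' _ _ _ _ h h' => iff_of_false (key k h) (key k' h')⟩

end Free

section Field

variable {R : Type u} [CommRing R] {F G H : Type u} [AddCommGroup F] [AddCommGroup G] [AddCommGroup H]
  [Module R F] [Module R G] [Module R H] (u : F →ₗ[R] G) (v : G →ₗ[R] H)

theorem cancel_baseChange_comm (T k : Type u) [CommRing T] [CommRing k] [Algebra R T] [Algebra R k]
    [Algebra T k] [IsScalarTower R T k] {X Y : Type u} [AddCommGroup X] [AddCommGroup Y] [Module R X] [Module R Y]
    (f : X →ₗ[R] Y) (z : k ⊗[T] (T ⊗[R] X)) :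
    AlgebraTensorModule.cancelBaseChange R T k k Y ((f.baseChange T).baseChange k z) =
      f.baseChange k (AlgebraTensorModule.cancelBaseChange R T k k X z) := by
  induction z with
  | zero => simp
  | tmul a y =>
    induction y with
    | zero => simp
    | tmul b x => simp [AlgebraTensorModule.cancelBaseChange_tmul]
    | add y y' hy hy' => simp only [TensorProduct.tmul_add, map_add, hy, hy']
  | add z z' hz hz' => simp only [map_add, hz, hz']

theorem exact_baseChange_tower_iff (T k : Type u) [CommRing T] [CommRing k] [Algebra R T] [Algebra R k]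
    [Algebra T k] [IsScalarTower R T k] :
    Exact ((u.baseChange T).baseChange k) ((v.baseChange T).baseChange k) ↔
      Exact (u.baseChange k) (v.baseChange k) :=
  (Function.Exact.iff_of_ladder_linearEquiv (e₁ := AlgebraTensorModule.cancelBaseChange R T k k F)
    (e₂ := AlgebraTensorModule.cancelBaseChange R T k k G) (e₃ := AlgebraTensorModule.cancelBaseChange R T k k H)
    (f₁₂ := (u.baseChange T).baseChange k) (f₂₃ := (v.baseChange T).baseChange k)
    (g₁₂ := u.baseChange k) (g₂₃ := v.baseChange k)
    (LinearMap.ext fun z => (cancel_baseChange_comm T k u z).symm)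
    (LinearMap.ext fun z => (cancel_baseChange_comm T k v z).symm)).symm

/-- Exactness in the fibre only depends on the point. -/
theorem exact_baseChange_field_iff (k l : Type u) [Field k] [Field l] [Algebra R k] [Algebra R l]
    [Algebra k l] [IsScalarTower R k l] :
    Exact (u.baseChange l) (v.baseChange l) ↔ Exact (u.baseChange k) (v.baseChange k) :=
  (exact_baseChange_tower_iff u v k l).symm.trans
    (Module.FaithfullyFlat.lTensor_exact_iff_exact k l _ _)

end Field

open FlatOpen FlatMisc.GenericFree in
/-- Generic freeness in every fibre family. -/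
theorem exists_free_away {R B X : Type u} [CommRing R] [CommRing B] [Algebra R B] [Algebra.FiniteType R B]
    [AddCommGroup X] [Module R X] [Module B X] [IsScalarTower R B X] [Module.Finite B X]
    (D : Type u) [CommRing D] [IsDomain D] [Algebra R D] {a : D} (ha : a ≠ 0) :
    ∃ f : D, a ∣ f ∧ f ≠ 0 ∧ Module.Free (Localization.Away f) (Localization.Away f ⊗[R] X) := by
  obtain ⟨n, π, hπ⟩ := Algebra.FiniteType.iff_quotient_mvPolynomial''.mp ‹Algebra.FiniteType R B›
  letI : Module (MvPolynomial (Fin n) R) X := Module.compHom X π.toRingHom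
  haveI : IsScalarTower R (MvPolynomial (Fin n) R) X := IsScalarTower.of_algebraMap_smul fun c x => by
    show π (algebraMap R _ c) • x = c • x
    rw [π.commutes, algebraMap_smul]
  haveI : Module.Finite (MvPolynomial (Fin n) R) X := by
    letI : Algebra (MvPolynomial (Fin n) R) B := π.toRingHom.toAlgebra
    haveI : IsScalarTower (MvPolynomial (Fin n) R) B X := IsScalarTower.of_algebraMap_smul fun _ _ => rfl
    haveI : Module.Finite (MvPolynomial (Fin n) R) B :=
      Module.Finite.of_surjective (Algebra.linearMap (MvPolynomial (Fin n) R) B) hπ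
    exact Module.Finite.trans B X
  obtain ⟨r, p, hp⟩ := Module.Finite.exists_fin' (MvPolynomial (Fin n) R) X
  let Z := LinearMap.ker p
  obtain ⟨f, haf, hf, hfree⟩ :=
    genFree (R := D) (MvPolynomial (Fin n) D) (FlatOpen.Quot D Z) a ha
  let e : FlatOpen.Quot D Z ≃ₗ[D] D ⊗[R] X :=
    (FlatOpen.quotEquiv D Z).symm.trans
      (LinearEquiv.baseChange R D _ _ ((p.quotKerEquivOfSurjective hp).restrictScalars R))
  haveI := hfree.free_tensor
  exact ⟨f, haf, hf, Module.Free.of_equiv ((LinearEquiv.baseChange D (Localization.Away f) _ _ e).trans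
    (AlgebraTensorModule.cancelBaseChange R D (Localization.Away f) (Localization.Away f) X))⟩

section Generic

variable {R B : Type u} [CommRing R] [CommRing B] [Algebra R B] [Algebra.FiniteType R B]
  {F G H : Type u} [AddCommGroup F] [Module B F] [Module R F] [IsScalarTower R B F]
  [AddCommGroup G] [Module B G] [Module R G] [IsScalarTower R B G] [Module.Finite B G]
  [AddCommGroup H] [Module B H] [Module R H] [IsScalarTower R B H] [Module.Finite B H]

omit [Algebra.FiniteType R B] in
theorem exists_forall_exact_iff_of_free_tensor {F G H M C : Type u} [AddCommGroup F] [AddCommGroup G] [AddCommGroup H]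
    [AddCommGroup M] [AddCommGroup C] [Module R F] [Module R G] [Module R H] [Module R M] [Module R C]
    (T : Type u) [CommRing T] [IsDomain T] [Algebra R T]
    [Module.Free T (T ⊗[R] H)] [Module.Free T (T ⊗[R] M)] [Module.Free T (T ⊗[R] C)]
    (u : F →ₗ[R] G) (v : G →ₗ[R] H) (q : G →ₗ[R] M) (hq : Exact u q) (hqs : Surjective q)
    (r : H →ₗ[R] C) (hr : Exact v r) (hrs : Surjective r) :
    ∃ c : T, c ≠ 0 ∧ ∀ (k k' : Type u) [Field k] [Field k'] [Algebra T k] [Algebra T k'],
      algebraMap T k c ≠ 0 → algebraMap T k' c ≠ 0 →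
      (Exact ((u.baseChange T).baseChange k) ((v.baseChange T).baseChange k) ↔
        Exact ((u.baseChange T).baseChange k') ((v.baseChange T).baseChange k')) :=
  exists_forall_exact_iff_of_free (u.baseChange T) (v.baseChange T) (q.baseChange T)
    (lTensor_exact T hq hqs) (LinearMap.lTensor_surjective T hqs) (r.baseChange T)
    (lTensor_exact T hr hrs) (LinearMap.lTensor_surjective T hrs)

set_option maxHeartbeats 800000 in
/-- EGA IV 9.4.2: generic constancy of exactness in the fibres. -/
theorem exists_forall_exact_iff (u : F →ₗ[B] G) (v : G →ₗ[B] H) (D : Type u) [CommRing D] [IsDomain D] [Algebra R D] :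
    ∃ c : D, c ≠ 0 ∧ ∀ (k k' : Type u) [Field k] [Field k'] [Algebra D k] [Algebra D k'] [Algebra R k] [Algebra R k']
      [IsScalarTower R D k] [IsScalarTower R D k'],
      algebraMap D k c ≠ 0 → algebraMap D k' c ≠ 0 →
      (Exact ((u.restrictScalars R).baseChange k) ((v.restrictScalars R).baseChange k) ↔
        Exact ((u.restrictScalars R).baseChange k') ((v.restrictScalars R).baseChange k')) := by
  let M := G ⧸ LinearMap.range u
  let C := H ⧸ LinearMap.range v
  obtain ⟨f₁, -, hf₁, hH⟩ := exists_free_away (R := R) (B := B) (X := H) D one_ne_zero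
  obtain ⟨f₂, hd₂, hf₂, hM⟩ := exists_free_away (R := R) (B := B) (X := M) D hf₁
  obtain ⟨f, hd, hf, hC⟩ := exists_free_away (R := R) (B := B) (X := C) D hf₂
  let T := Localization.Away f
  haveI : IsDomain T := IsLocalization.isDomain_localization (powers_le_nonZeroDivisors_of_noZeroDivisors hf)
  have up : ∀ (g : D) (X : Type u) [AddCommGroup X] [Module R X], g ∣ f →
      Module.Free (Localization.Away g) (Localization.Away g ⊗[R] X) → Module.Free T (T ⊗[R] X) := by
    intro g X _ _ hg hX
    letI : Algebra (Localization.Away g) T :=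
      (IsLocalization.Away.lift g (isUnit_of_dvd_unit (map_dvd (algebraMap D T) hg)
        (IsLocalization.Away.algebraMap_isUnit f))).toAlgebra
    haveI : IsScalarTower D (Localization.Away g) T := IsScalarTower.of_algebraMap_eq fun a =>
      (IsLocalization.Away.lift_eq g _ a).symm
    haveI : IsScalarTower R (Localization.Away g) T := IsScalarTower.of_algebraMap_eq fun a => by
      rw [IsScalarTower.algebraMap_apply R D T, IsScalarTower.algebraMap_apply R D (Localization.Away g),
        ← IsScalarTower.algebraMap_apply D (Localization.Away g) T]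
    haveI := hX
    exact Module.Free.of_equiv (AlgebraTensorModule.cancelBaseChange R (Localization.Away g) T T X)
  haveI := up f₁ H (hd₂.trans hd) hH
  haveI := up f₂ M hd hM
  haveI : Module.Free T (T ⊗[R] C) := hC
  let q : G →ₗ[R] M := (LinearMap.range u).mkQ.restrictScalars R
  let r : H →ₗ[R] C := (LinearMap.range v).mkQ.restrictScalars R
  have hq : Exact (u.restrictScalars R) q := LinearMap.exact_map_mkQ_range u
  have hr : Exact (v.restrictScalars R) r := LinearMap.exact_map_mkQ_range v
  have hqs : Surjective q := Submodule.mkQ_surjective (LinearMap.range u)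
  have hrs : Surjective r := Submodule.mkQ_surjective (LinearMap.range v)
  obtain ⟨c', hc', hc⟩ := exists_forall_exact_iff_of_free_tensor T _ _ q hq hqs r hr hrs
  obtain ⟨⟨a, ⟨_, m, rfl⟩⟩, ha⟩ := IsLocalization.surj (Submonoid.powers f) c'
  have ha0 : a ≠ 0 := by
    rintro rfl
    rw [map_zero] at ha
    exact hc' ((((IsLocalization.Away.algebraMap_isUnit f).pow m).mul_left_eq_zero).1 (by simpa [map_pow] using ha))
  refine ⟨f * a, mul_ne_zero hf ha0, fun k k' _ _ _ _ _ _ _ _ hk hk' => ?_⟩
  have key : ∀ (l : Type u) [Field l] [Algebra D l] [Algebra R l] [IsScalarTower R D l], algebraMap D l (f * a) ≠ 0 →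
      ∃ (_ : Algebra T l) (_ : IsScalarTower R T l), algebraMap T l c' ≠ 0 := by
    intro l _ _ _ _ hl
    rw [map_mul, mul_ne_zero_iff] at hl
    letI : Algebra T l := (IsLocalization.Away.lift f (IsUnit.mk0 _ hl.1)).toAlgebra
    haveI : IsScalarTower D T l := IsScalarTower.of_algebraMap_eq fun x => (IsLocalization.Away.lift_eq f _ x).symm
    refine ⟨inferInstance, IsScalarTower.of_algebraMap_eq fun x => ?_, fun h0 => hl.2 ?_⟩
    · rw [IsScalarTower.algebraMap_apply R D l, IsScalarTower.algebraMap_apply R D T,
        ← IsScalarTower.algebraMap_apply D T l]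
    · rw [IsScalarTower.algebraMap_apply D T l, ← ha, map_mul, h0, zero_mul]
  obtain ⟨_, _, h⟩ := key k hk
  obtain ⟨_, _, h'⟩ := key k' hk'
  rw [← exact_baseChange_tower_iff (u.restrictScalars R) (v.restrictScalars R) T k,
    ← exact_baseChange_tower_iff (u.restrictScalars R) (v.restrictScalars R) T k']
  exact hc k k' h h'

end Generic

end Groth.Agent.FibCodepth
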