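import Groth.Agent.S1441
import Groth.Agent.ConsPairLib.ModLoci
import Groth.Agent.CBC.Stage

/-!
# Fibrewise flatness of a module at a point

For `f : X ⟶ Y` over `S` the condition that `F_s` is flat over `Y_s` at `x`, and its invariance under
base change and localisation.
-/

set_option autoImplicit false
set_option linter.style.haveILetI false

universe u

open CategoryTheory Limits AlgebraicGeometry

namespace Groth.Agent.FibCodepth

variable {X Y S : Scheme.{u}}

/-- The morphism between the fibres over `s`. -/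
noncomputable def fibMap (f : X ⟶ Y) (g : Y ⟶ S) (s : S) : (f ≫ g).fiber s ⟶ g.fiber s :=
  pullback.lift ((f ≫ g).fiberι s ≫ f) ((f ≫ g).fiberToSpecResidueField s)
    (by rw [Category.assoc]; exact (f ≫ g).fiber_fac s)

/-- `F_s` is flat over `Y_s` at `x`, `s` the image of `x`. -/
def FibFlatAt (f : X ⟶ Y) (g : Y ⟶ S) (F : X.Modules) (x : X) : Prop :=
  FlatMod.IsFlatOverAt (fibMap f g ((f ≫ g) x))
    ((Scheme.Modules.pullback ((f ≫ g).fiberι ((f ≫ g) x))).obj F) ((f ≫ g).asFiber x)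

theorem fibMap_fiberι (f : X ⟶ Y) (g : Y ⟶ S) (s : S) :
    fibMap f g s ≫ g.fiberι s = (f ≫ g).fiberι s ≫ f :=
  pullback.lift_fst _ _ _

theorem fibMap_toSpec (f : X ⟶ Y) (g : Y ⟶ S) (s : S) :
    fibMap f g s ≫ g.fiberToSpecResidueField s = (f ≫ g).fiberToSpecResidueField s :=
  pullback.lift_snd _ _ _

theorem isPullback_fibre (f : X ⟶ Y) (g : Y ⟶ S) (s : S) :
    IsPullback ((f ≫ g).fiberι s) (fibMap f g s ≫ g.fiberToSpecResidueField s) (f ≫ g)
      (S.fromSpecResidueField s) := by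
  rw [fibMap_toSpec]
  exact IsPullback.of_hasPullback _ _

/-- Modules over the spectrum of a field are flat. -/
theorem isFlatOverAt_field {Z : Scheme.{u}} {k : Type u} [Field k] (π : Z ⟶ Spec (CommRingCat.of k))
    (M : Z.Modules) (z : Z) : FlatMod.IsFlatOverAt π M z := by
  letI := FlatMod.moduleStalkOver π M z
  have hF : IsField ((Spec (CommRingCat.of k)).presheaf.stalk (π z)) := by
    let Sp := Spec (CommRingCat.of k)
    letI := Sp.presheaf.algebra_section_stalk (U := ⊤) ⟨π z, trivial⟩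
    haveI := (isAffineOpen_top Sp).isLocalization_stalk ⟨π z, trivial⟩
    have hΓ : IsField Γ(Sp, ⊤) := MulEquiv.isField (Field.toIsField k)
      (Scheme.ΓSpecIso (CommRingCat.of k)).commRingCatIsoToRingEquiv.toMulEquiv
    have h0 : (0 : Γ(Sp, ⊤)) ∉ ((isAffineOpen_top Sp).primeIdealOf ⟨π z, trivial⟩).asIdeal.primeCompl :=
      fun h => h (zero_mem _)
    exact MulEquiv.isField hΓ (RingEquiv.ofBijective _ (hΓ.localization_map_bijective h0)).symm.toMulEquiv
  letI := hF.toField
  show Module.Flat ((Spec (CommRingCat.of k)).presheaf.stalk (π z)) (M.presheaf.stalk z)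
  exact Module.Flat.of_free

theorem flatAt_iff_of_fields {f : X ⟶ Y} {g : Y ⟶ S} [LocallyOfFinitePresentation (f ≫ g)]
    [LocallyOfFiniteType g] {F : X.Modules} [F.IsQuasicoherent] (hF : CohB1.IsFP F)
    {k k' : Type u} [Field k] [Field k'] {a : Spec (CommRingCat.of k) ⟶ S}
    (t : Spec (CommRingCat.of k') ⟶ Spec (CommRingCat.of k))
    {Yk : Scheme.{u}} {ιY : Yk ⟶ Y} {gk : Yk ⟶ Spec (CommRingCat.of k)} (hY : IsPullback ιY gk g a)
    {Xk : Scheme.{u}} {ιX : Xk ⟶ X} {fk : Xk ⟶ Yk} (hX : IsPullback ιX (fk ≫ gk) (f ≫ g) a)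
    (hw : ιX ≫ f = fk ≫ ιY)
    {Yk' : Scheme.{u}} {ιY' : Yk' ⟶ Y} {gk' : Yk' ⟶ Spec (CommRingCat.of k')}
    (hY' : IsPullback ιY' gk' g (t ≫ a))
    {Xk' : Scheme.{u}} {ιX' : Xk' ⟶ X} {fk' : Xk' ⟶ Yk'} (hX' : IsPullback ιX' (fk' ≫ gk') (f ≫ g) (t ≫ a))
    (hw' : ιX' ≫ f = fk' ≫ ιY') :
    ∃ q : Xk' ⟶ Xk, q ≫ ιX = ιX' ∧ ∀ z,
      (FlatMod.IsFlatOverAt fk' ((Scheme.Modules.pullback ιX').obj F) z ↔
        FlatMod.IsFlatOverAt fk ((Scheme.Modules.pullback ιX).obj F) (q z)) := by
  let qY : Yk' ⟶ Yk := hY.lift ιY' (gk' ≫ t) (by rw [hY'.w, Category.assoc])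
  let q : Xk' ⟶ Xk := hX.lift ιX' ((fk' ≫ gk') ≫ t) (by rw [hX'.w]; simp only [Category.assoc])
  have hq : q ≫ ιX = ιX' := hX.lift_fst _ _ _
  have hqY : qY ≫ ιY = ιY' := hY.lift_fst _ _ _
  have hY2 : IsPullback qY gk' gk t :=
    IsPullback.of_right (by rw [hqY]; exact hY') (hY.lift_snd _ _ _) hY
  have hX2 : IsPullback q (fk' ≫ gk') (fk ≫ gk) t :=
    IsPullback.of_right (by rw [hq]; exact hX') (hX.lift_snd _ _ _) hX
  have hw2 : q ≫ fk = fk' ≫ qY := by
    refine hY.hom_ext ?_ ?_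
    · rw [Category.assoc, Category.assoc, ← hw, ← Category.assoc, hq, hqY, hw']
    · rw [Category.assoc, Category.assoc, hX2.w, hY2.w, Category.assoc]
  haveI : LocallyOfFinitePresentation (fk ≫ gk) := MorphismProperty.of_isPullback hX inferInstance
  haveI : LocallyOfFiniteType gk := MorphismProperty.of_isPullback hY inferInstance
  obtain ⟨hqc, hfp⟩ := ConsPairLib.isFP_pullback ιX F hF
  refine ⟨q, hq, fun z => ?_⟩
  have h := Set.ext_iff.1 ((S1441.result fk gk _ hqc hfp (fun x => isFlatOverAt_field (fk ≫ gk) _ x)).2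
    t qY gk' hY2 q fk' hX2 hw2) z
  exact (CBC.isFlatOverAt_congr_iso fk' ((Scheme.Modules.pullbackComp q ιX).app F ≪≫
    (Scheme.Modules.pullbackCongr hq).app F) z).symm.trans h

/-- Fibrewise flatness can be tested on any field valued point. -/
theorem fibFlatAt_iff {f : X ⟶ Y} {g : Y ⟶ S} [LocallyOfFinitePresentation (f ≫ g)]
    [LocallyOfFiniteType g] {F : X.Modules} [F.IsQuasicoherent] (hF : CohB1.IsFP F)
    {k : Type u} [Field k] {a : Spec (CommRingCat.of k) ⟶ S}
    {Yk : Scheme.{u}} {ιY : Yk ⟶ Y} {gk : Yk ⟶ Spec (CommRingCat.of k)} (hY : IsPullback ιY gk g a)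
    {Xk : Scheme.{u}} {ιX : Xk ⟶ X} {fk : Xk ⟶ Yk} (hX : IsPullback ιX (fk ≫ gk) (f ≫ g) a)
    (hw : ιX ≫ f = fk ≫ ιY) {x : X} (z : Xk) (hz : ιX z = x) :
    FibFlatAt f g F x ↔ FlatMod.IsFlatOverAt fk ((Scheme.Modules.pullback ιX).obj F) z := by
  let s := a (IsLocalRing.closedPoint k)
  let t : Spec (CommRingCat.of k) ⟶ Spec (S.residueField s) :=
    Spec.map (S.descResidueField (Scheme.stalkClosedPointTo a))
  have ht : t ≫ S.fromSpecResidueField s = a :=
    S.descResidueField_stalkClosedPointTo_fromSpecResidueField k a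
  have hs : (f ≫ g) x = s := by
    rw [← hz, ← Scheme.Hom.comp_apply, hX.w, Scheme.Hom.comp_apply]
    exact congrArg a (Subsingleton.elim (α := PrimeSpectrum k) _ _)
  have hY' : IsPullback ιY gk g (t ≫ S.fromSpecResidueField s) := by rwa [ht]
  have hX' : IsPullback ιX (fk ≫ gk) (f ≫ g) (t ≫ S.fromSpecResidueField s) := by rwa [ht]
  obtain ⟨q, hq, h⟩ := flatAt_iff_of_fields (k := S.residueField s) (k' := k) hF t
    (IsPullback.of_hasPullback g (S.fromSpecResidueField s))
    (isPullback_fibre f g s) (fibMap_fiberι f g s).symm hY' hX' hw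
  rw [h z]
  have hqz : (f ≫ g).fiberι s (q z) = x := by rw [← Scheme.Hom.comp_apply, hq, hz]
  clear hq h hY' hX' ht t
  generalize q z = w at hqz
  clear_value s
  subst hs
  obtain rfl : w = (f ≫ g).asFiber x :=
    ((f ≫ g).fiberι _).isEmbedding.injective (hqz.trans ((f ≫ g).fiberι_asFiber x).symm)
  exact Iff.rfl

section Transport

variable {f : X ⟶ Y} {g : Y ⟶ S} [LocallyOfFinitePresentation (f ≫ g)] [LocallyOfFiniteType g]
  {F : X.Modules} [F.IsQuasicoherent]

/-- Fibrewise flatness is invariant under base change. -/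
theorem fibFlatAt_baseChange (hF : CohB1.IsFP F) {X' Y' S' : Scheme.{u}} {h : S' ⟶ S} {gY : Y' ⟶ Y}
    {g' : Y' ⟶ S'} (hY : IsPullback gY g' g h) {gX : X' ⟶ X} {f' : X' ⟶ Y'}
    (hX : IsPullback gX (f' ≫ g') (f ≫ g) h) (hw : gX ≫ f = f' ≫ gY) (x' : X') :
    FibFlatAt f' g' ((Scheme.Modules.pullback gX).obj F) x' ↔ FibFlatAt f g F (gX x') := by
  let s' := (f' ≫ g') x'
  let ι := (f' ≫ g').fiberι s'
  have h1 := fibFlatAt_iff (f := f) (g := g) hF
    (show IsPullback (g'.fiberι s' ≫ gY) (g'.fiberToSpecResidueField s') g (S'.fromSpecResidueField s' ≫ h) from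
      (IsPullback.of_hasPullback g' (S'.fromSpecResidueField s')).paste_horiz hY)
    (show IsPullback (ι ≫ gX) (fibMap f' g' s' ≫ g'.fiberToSpecResidueField s') (f ≫ g)
        (S'.fromSpecResidueField s' ≫ h) from (isPullback_fibre f' g' s').paste_horiz hX)
    (by rw [Category.assoc, hw, ← Category.assoc, ← fibMap_fiberι, Category.assoc])
    (x := gX x') ((f' ≫ g').asFiber x') (by rw [Scheme.Hom.comp_apply, (f' ≫ g').fiberι_asFiber])
  rw [h1]
  exact CBC.isFlatOverAt_congr_iso _ ((Scheme.Modules.pullbackComp ι gX).app F) _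

/-- For a module flat over the base, fibrewise flatness is flatness. -/
theorem fibFlatAt_iff_flat (hF : CohB1.IsFP F) (hfl : FlatMod.IsFlatOver (f ≫ g) F) (x : X) :
    FibFlatAt f g F x ↔ FlatMod.IsFlatOverAt f F x := by
  let s := (f ≫ g) x
  have h := Set.ext_iff.1 ((S1441.result f g F ‹F.IsQuasicoherent› hF hfl).2 (S.fromSpecResidueField s)
    (g.fiberι s) (g.fiberToSpecResidueField s) (IsPullback.of_hasPullback _ _)
    ((f ≫ g).fiberι s) (fibMap f g s) (isPullback_fibre f g s) (fibMap_fiberι f g s).symm) ((f ≫ g).asFiber x)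
  exact h.trans (Set.mem_preimage.trans ((congrArg (fun y => FlatMod.IsFlatOverAt f F y)
    ((f ≫ g).fiberι_asFiber x)).to_iff))

end Transport

theorem flat_iff_of_bijective {A A' M : Type u} [CommRing A] [CommRing A'] [AddCommGroup M] [Algebra A A']
    [Module A M] [Module A' M] [IsScalarTower A A' M] (hb : Function.Bijective (algebraMap A A')) :
    Module.Flat A M ↔ Module.Flat A' M := by
  let el : A ≃ₗ[A] A' := LinearEquiv.ofBijective (Algebra.linearMap A A') hb
  haveI : Module.Flat A A' := Module.Flat.of_linearEquiv el.symm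
  refine ⟨fun h => ?_, fun h => Module.Flat.trans A A' M⟩
  let e := RingEquiv.ofBijective (algebraMap A A') hb
  letI : Algebra A' A := e.symm.toRingHom.toAlgebra
  have hcomp : ∀ a, algebraMap A A' (algebraMap A' A a) = a := fun a => e.apply_symm_apply a
  haveI : IsScalarTower A' A M := IsScalarTower.of_algebraMap_smul fun a m => by
    rw [← algebraMap_smul A' (algebraMap A' A a) m, hcomp]
  let el' : A' ≃ₗ[A'] A := LinearEquiv.ofBijective (Algebra.linearMap A' A) e.symm.bijective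
  haveI : Module.Flat A' A := Module.Flat.of_linearEquiv el'.symm
  exact Module.Flat.trans A' A M

/-- Flatness does not see an open immersion of the base. -/
theorem isFlatOverAt_comp_iff {Z V W : Scheme.{u}} (f : Z ⟶ V) (j : V ⟶ W) [IsOpenImmersion j]
    (M : Z.Modules) (z : Z) : FlatMod.IsFlatOverAt (f ≫ j) M z ↔ FlatMod.IsFlatOverAt f M z := by
  letI : Algebra (W.presheaf.stalk (j (f z))) (V.presheaf.stalk (f z)) := (j.stalkMap (f z)).hom.toAlgebra
  letI := FlatMod.moduleStalkOver f M z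
  letI : Module (W.presheaf.stalk (j (f z))) (M.presheaf.stalk z) := FlatMod.moduleStalkOver (f ≫ j) M z
  haveI : IsScalarTower (W.presheaf.stalk (j (f z))) (V.presheaf.stalk (f z)) (M.presheaf.stalk z) :=
    IsScalarTower.of_algebraMap_smul fun a m => by
      show (f.stalkMap z).hom ((j.stalkMap (f z)).hom a) • m = ((f ≫ j).stalkMap z).hom a • m
      rw [Scheme.Hom.stalkMap_comp]
      rfl
  exact flat_iff_of_bijective (A := W.presheaf.stalk (j (f z))) (A' := V.presheaf.stalk (f z))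
    (ConcreteCategory.bijective_of_isIso (j.stalkMap (f z)))

/-- Flatness is local on the source and the target. -/
theorem isFlatOverAt_openImmersion {U V : Scheme.{u}} (f : X ⟶ Y) (f' : U ⟶ V) (jX : U ⟶ X) (jY : V ⟶ Y)
    [IsOpenImmersion jX] [IsOpenImmersion jY] (hw : jX ≫ f = f' ≫ jY) (F : X.Modules) (u : U) :
    FlatMod.IsFlatOverAt f' ((Scheme.Modules.pullback jX).obj F) u ↔ FlatMod.IsFlatOverAt f F (jX u) := by
  rw [← isFlatOverAt_comp_iff f' jY, ← hw]
  refine FDesc.Stalk.flatOverAt_pullback_iff jX f F u ?_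
  exact RingHom.Flat.of_bijective (ConcreteCategory.bijective_of_isIso (jX.stalkMap u))

/-- Fibrewise flatness is local on the source, the target and the base. -/
theorem fibFlatAt_openImmersion {f : X ⟶ Y} {g : Y ⟶ S} [LocallyOfFinitePresentation (f ≫ g)]
    [LocallyOfFiniteType g] {F : X.Modules} [F.IsQuasicoherent] (hF : CohB1.IsFP F)
    {U V W : Scheme.{u}} (jX : U ⟶ X) (jY : V ⟶ Y) (jS : W ⟶ S) [IsOpenImmersion jX] [IsOpenImmersion jY]
    [IsOpenImmersion jS] (f' : U ⟶ V) (g' : V ⟶ W) (hwf : jX ≫ f = f' ≫ jY) (hwg : jY ≫ g = g' ≫ jS)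
    [LocallyOfFinitePresentation (f' ≫ g')] [LocallyOfFiniteType g'] (u : U) :
    FibFlatAt f' g' ((Scheme.Modules.pullback jX).obj F) u ↔ FibFlatAt f g F (jX u) := by
  let s := (f' ≫ g') u
  let a := W.fromSpecResidueField s ≫ jS
  let ι := (f' ≫ g').fiberι s
  let qY : g'.fiber s ⟶ pullback g a :=
    pullback.lift (g'.fiberι s ≫ jY) (g'.fiberToSpecResidueField s) (by
      rw [Category.assoc, hwg, ← Category.assoc]
      show (g'.fiberι s ≫ g') ≫ jS = g'.fiberToSpecResidueField s ≫ W.fromSpecResidueField s ≫ jS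
      rw [(show g'.fiberι s ≫ g' = g'.fiberToSpecResidueField s ≫ W.fromSpecResidueField s from g'.fiber_fac s),
        Category.assoc])
  let qX : (f' ≫ g').fiber s ⟶ pullback (f ≫ g) a :=
    pullback.lift (ι ≫ jX) ((f' ≫ g').fiberToSpecResidueField s) (by
      rw [Category.assoc, ← Category.assoc jX, hwf, Category.assoc f', hwg, ← Category.assoc f', ← Category.assoc ι,
        (show ι ≫ (f' ≫ g') = (f' ≫ g').fiberToSpecResidueField s ≫ W.fromSpecResidueField s from (f' ≫ g').fiber_fac s),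
        Category.assoc])
  haveI : IsOpenImmersion qY := by
    have : qY = pullback.map g' (W.fromSpecResidueField s) g a jY (𝟙 _) jS hwg.symm (by simp [a]) := by
      refine pullback.hom_ext ?_ ?_ <;> simp [qY, Scheme.Hom.fiberι, Scheme.Hom.fiberToSpecResidueField] <;> rfl
    rw [this]
    exact Scheme.pullback_map_isOpenImmersion _ _ _ _ _ _ _ _ _
  haveI : IsOpenImmersion qX := by
    have : qX = pullback.map (f' ≫ g') (W.fromSpecResidueField s) (f ≫ g) a jX (𝟙 _) jS
        (by rw [Category.assoc, hwg.symm, ← Category.assoc, ← hwf, Category.assoc]) (by simp [a]) := by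
      refine pullback.hom_ext ?_ ?_ <;> simp [qX, ι, Scheme.Hom.fiberι, Scheme.Hom.fiberToSpecResidueField] <;> rfl
    rw [this]
    exact Scheme.pullback_map_isOpenImmersion _ _ _ _ _ _ _ _ _
  let fk : pullback (f ≫ g) a ⟶ pullback g a :=
    pullback.lift (pullback.fst (f ≫ g) a ≫ f) (pullback.snd (f ≫ g) a) (by rw [Category.assoc, pullback.condition])
  have hqw : qX ≫ fk = fibMap f' g' s ≫ qY := by
    refine pullback.hom_ext ?_ ?_
    · simp only [fk, qX, qY, ι, Category.assoc, pullback.lift_fst]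
      rw [pullback.lift_fst_assoc, Category.assoc, hwf, ← Category.assoc, ← fibMap_fiberι, Category.assoc]
    · simp only [fk, qX, qY, Category.assoc, pullback.lift_snd]
      exact (fibMap_toSpec f' g' s).symm
  have h1 := fibFlatAt_iff (f := f) (g := g) hF (IsPullback.of_hasPullback g a)
    (show IsPullback (pullback.fst (f ≫ g) a) (fk ≫ pullback.snd g a) (f ≫ g) a by
      rw [pullback.lift_snd]; exact IsPullback.of_hasPullback _ _)
    (pullback.lift_fst _ _ _).symm (x := jX u) (qX ((f' ≫ g').asFiber u))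
    (by rw [← Scheme.Hom.comp_apply, pullback.lift_fst, Scheme.Hom.comp_apply, (f' ≫ g').fiberι_asFiber])
  rw [h1, ← isFlatOverAt_openImmersion fk (fibMap f' g' s) qX qY hqw]
  exact CBC.isFlatOverAt_congr_iso _ ((Scheme.Modules.pullbackComp ι jX).app F ≪≫
    (Scheme.Modules.pullbackCongr (pullback.lift_fst _ _ _).symm).app F ≪≫
    ((Scheme.Modules.pullbackComp qX (pullback.fst (f ≫ g) a)).app F).symm) _

end Groth.Agent.FibCodepth
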