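import Groth.Agent.FibCodepth.FibFlat
import Groth.Agent.S4799
import Groth.Agent.LimTop.ModModel
import Groth.Agent.LimLib.Proper

/-!
# The fibrewise flat locus is constructible
-/

set_option autoImplicit false
set_option linter.style.haveILetI false

universe u

open CategoryTheory Limits AlgebraicGeometry Topology Opposite
open scoped Set.Notation

namespace Groth.Agent.FibCodepth

section Noeth

variable {A : Type u} [CommRing A] [IsNoetherianRing A] {X Y : Scheme.{u}} (f : X ⟶ Y)
  (g : Y ⟶ Spec (CommRingCat.of A)) [LocallyOfFinitePresentation (f ≫ g)] [QuasiCompact (f ≫ g)]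
  [LocallyOfFiniteType g] (F : X.Modules) [F.IsQuasicoherent]

/-- The fibrewise flat locus meets the preimage of a stratum in a constructible set. -/
theorem isConstructible_stratum (hF : CohB1.IsFP F) {D : Type u} [CommRing D] [IsNoetherianRing D]
    (h : Spec (CommRingCat.of D) ⟶ Spec (CommRingCat.of A)) [IsImmersion h] [LocallyOfFinitePresentation h]
    [QuasiCompact h]
    (hfl : FlatMod.IsFlatOver (pullback.snd (f ≫ g) h)
      ((Scheme.Modules.pullback (pullback.fst (f ≫ g) h)).obj F)) :
    IsConstructible ({x | FibFlatAt f g F x} ∩ (f ≫ g) ⁻¹' Set.range h) := by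
  let gX := pullback.fst (f ≫ g) h
  let f' : pullback (f ≫ g) h ⟶ pullback g h :=
    pullback.lift (gX ≫ f) (pullback.snd _ _) (by rw [Category.assoc]; exact pullback.condition)
  have hw : gX ≫ f = f' ≫ pullback.fst g h := (pullback.lift_fst _ _ _).symm
  have hsnd : f' ≫ pullback.snd g h = pullback.snd (f ≫ g) h := pullback.lift_snd _ _ _
  have hX : IsPullback gX (f' ≫ pullback.snd g h) (f ≫ g) h := by
    rw [hsnd]; exact IsPullback.of_hasPullback _ _
  haveI : LocallyOfFinitePresentation (f' ≫ pullback.snd g h) := MorphismProperty.of_isPullback hX inferInstance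
  haveI : QuasiCompact (f' ≫ pullback.snd g h) := MorphismProperty.of_isPullback hX inferInstance
  haveI : IsLocallyNoetherian (pullback (f ≫ g) h) := LocallyOfFiniteType.isLocallyNoetherian (f' ≫ pullback.snd g h)
  haveI : CompactSpace ↥(pullback (f ≫ g) h) := QuasiCompact.compactSpace_of_compactSpace (f' ≫ pullback.snd g h)
  haveI : IsNoetherian (pullback (f ≫ g) h) := ⟨⟩
  haveI : CompactSpace X := QuasiCompact.compactSpace_of_compactSpace (f ≫ g)
  haveI : IsLocallyNoetherian X := LocallyOfFiniteType.isLocallyNoetherian (f ≫ g)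
  haveI : IsNoetherian X := ⟨⟩
  obtain ⟨hqc, hfp⟩ := ConsPairLib.isFP_pullback gX F hF
  haveI : ((Scheme.Modules.pullback gX).obj F).IsQuasicoherent := hqc
  have hfl' : FlatMod.IsFlatOver (f' ≫ pullback.snd g h) ((Scheme.Modules.pullback gX).obj F) := by
    rw [hsnd]; exact hfl
  have hopen : IsOpen {z | FlatMod.IsFlatOverAt f' ((Scheme.Modules.pullback gX).obj F) z} :=
    (S1441.result f' (pullback.snd g h) _ hqc hfp hfl').1
  have heq : {x | FibFlatAt f g F x} ∩ (f ≫ g) ⁻¹' Set.range h =
      gX '' {z | FlatMod.IsFlatOverAt f' ((Scheme.Modules.pullback gX).obj F) z} := by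
    have key : ∀ z, FlatMod.IsFlatOverAt f' ((Scheme.Modules.pullback gX).obj F) z ↔ FibFlatAt f g F (gX z) :=
      fun z => (fibFlatAt_iff_flat hfp hfl' z).symm.trans
        (fibFlatAt_baseChange hF (IsPullback.of_hasPullback g h) hX hw z)
    rw [← Scheme.Pullback.range_fst]
    ext x
    constructor
    · rintro ⟨hx, z, rfl⟩
      exact ⟨z, (key z).2 hx, rfl⟩
    · rintro ⟨z, hz, rfl⟩
      exact ⟨(key z).1 hz, z, rfl⟩
  rw [heq]
  exact gX.isConstructible_image (IsCompact.isConstructible (TopologicalSpace.NoetherianSpace.isCompact _) hopen)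

/-- Over a Noetherian base the fibrewise flat locus is constructible. -/
theorem isConstructible_fibFlat_noetherian (hF : CohB1.IsFP F) : IsConstructible {x | FibFlatAt f g F x} := by
  set E := {x | FibFlatAt f g F x} with hE
  let u := f ≫ g
  have H : ∀ I : Ideal A, IsConstructible (E ∩ u ⁻¹' (PrimeSpectrum.zeroLocus (I : Set A))) := by
    intro I
    induction I using WellFoundedGT.induction with
    | ind I ih =>
      by_cases htop : I = ⊤
      · rw [htop, PrimeSpectrum.zeroLocus_empty_iff_eq_top.2 rfl]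
        show IsConstructible (E ∩ u ⁻¹' (∅ : Set ↥(Spec (CommRingCat.of A))))
        rw [Set.preimage_empty, Set.inter_empty]
        exact IsConstructible.empty
      by_cases hprime : I.IsPrime
      swap
      · obtain ⟨a, ha, b, hb, hab⟩ := (Ideal.not_isPrime_iff.1 hprime).resolve_left htop
        have h : PrimeSpectrum.zeroLocus (I : Set A) =
            PrimeSpectrum.zeroLocus ((I ⊔ Ideal.span {a} : Ideal A) : Set A) ∪
              PrimeSpectrum.zeroLocus ((I ⊔ Ideal.span {b} : Ideal A) : Set A) := by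
          ext q
          simp only [PrimeSpectrum.mem_zeroLocus, Set.mem_union, SetLike.coe_subset_coe, sup_le_iff,
            Ideal.span_singleton_le_iff_mem]
          constructor
          · intro hq
            exact (q.isPrime.mem_or_mem (hq hab)).imp (fun h => ⟨hq, h⟩) fun h => ⟨hq, h⟩
          · rintro (⟨h, -⟩ | ⟨h, -⟩) <;> exact h
        rw [h]
        erw [Set.preimage_union, Set.inter_union_distrib_left]
        exact (ih _ (Submodule.lt_sup_iff_notMem.2 ha)).union (ih _ (Submodule.lt_sup_iff_notMem.2 hb))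
      -- the generic stratum
      let D := A ⧸ I
      let hD : Spec (CommRingCat.of D) ⟶ Spec (CommRingCat.of A) := Spec.map (CommRingCat.ofHom (Ideal.Quotient.mk I))
      haveI : IsClosedImmersion hD := IsClosedImmersion.spec_of_surjective _ Ideal.Quotient.mk_surjective
      obtain ⟨hqcD, hfpD⟩ := ConsPairLib.isFP_pullback (pullback.fst u hD) F hF
      obtain ⟨O, hO, hflO⟩ := @S4799.result _ _ (pullback.snd u hD) inferInstance inferInstance inferInstance
        ((Scheme.Modules.pullback (pullback.fst u hD)).obj F) hqcD hfpD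
      obtain ⟨p, hp⟩ := hO
      obtain ⟨_, ⟨c, rfl⟩, hpc, hcO⟩ := PrimeSpectrum.isTopologicalBasis_basic_opens.exists_subset_of_mem_open hp O.2
      have hc0 : c ≠ 0 := fun h0 => hpc (by rw [h0]; exact zero_mem _)
      obtain ⟨a, rfl⟩ := Ideal.Quotient.mk_surjective c
      have ha : a ∉ I := fun h => hc0 (Ideal.Quotient.eq_zero_iff_mem.2 h)
      let T := Localization.Away (Ideal.Quotient.mk I a)
      haveI : IsNoetherianRing T := IsLocalization.isNoetherianRing (Submonoid.powers (Ideal.Quotient.mk I a)) _ inferInstance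
      let j : Spec (CommRingCat.of T) ⟶ Spec (CommRingCat.of D) := Spec.map (CommRingCat.ofHom (algebraMap D T))
      haveI : IsOpenImmersion j := IsOpenImmersion.of_isLocalization (Ideal.Quotient.mk I a)
      let h := j ≫ hD
      haveI : LocallyOfFiniteType h := inferInstance
      haveI : LocallyOfFinitePresentation h := LocallyOfFinitePresentation.iff_locallyOfFiniteType.2 inferInstance
      have hrange : Set.range h = PrimeSpectrum.zeroLocus (I : Set A) ∩ (PrimeSpectrum.basicOpen a : Set (PrimeSpectrum A)) := by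
        have h1 : Set.range j = (PrimeSpectrum.basicOpen (Ideal.Quotient.mk I a) : Set (PrimeSpectrum D)) :=
          PrimeSpectrum.localization_away_comap_range T (Ideal.Quotient.mk I a)
        have h2 : Set.range hD = PrimeSpectrum.zeroLocus (I : Set A) := by
          refine (range_comap_of_surjective _ _ Ideal.Quotient.mk_surjective).trans ?_
          rw [Ideal.mk_ker]
        show Set.range (hD ∘ j) = _
        rw [Set.range_comp, h1]
        exact (Set.image_preimage_eq_inter_range (f := hD)
          (t := (PrimeSpectrum.basicOpen a : Set (PrimeSpectrum A)))).trans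
          ((congrArg (_ ∩ ·) h2).trans (Set.inter_comm _ _))
      have hfl : FlatMod.IsFlatOver (pullback.snd u h) ((Scheme.Modules.pullback (pullback.fst u h)).obj F) := by
        intro z
        let q : pullback u h ⟶ pullback u hD :=
          pullback.lift (pullback.fst u h) (pullback.snd u h ≫ j) (by rw [Category.assoc]; exact pullback.condition)
        have hsq : IsPullback q (pullback.snd u h) (pullback.snd u hD) j :=
          IsPullback.of_right (by rw [pullback.lift_fst]; exact IsPullback.of_hasPullback u h)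
            (pullback.lift_snd _ _ _) (IsPullback.of_hasPullback u hD)
        refine (CBC.isFlatOverAt_congr_iso _ ((Scheme.Modules.pullbackComp q (pullback.fst u hD)).app F ≪≫
          (Scheme.Modules.pullbackCongr (pullback.lift_fst _ _ _)).app F) z).1 ?_
        refine FDesc.BaseChangeStalk.flatOverAt_baseChange hsq z _ (hflO (q z) (hcO ?_))
        rw [← Scheme.Hom.comp_apply, hsq.w, Scheme.Hom.comp_apply]
        show j (pullback.snd u h z) ∈ (PrimeSpectrum.basicOpen (Ideal.Quotient.mk I a) : Set (PrimeSpectrum D))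
        rw [← PrimeSpectrum.localization_away_comap_range T (Ideal.Quotient.mk I a)]
        exact ⟨_, rfl⟩
      have hstr := isConstructible_stratum f g F hF h hfl
      rw [hrange] at hstr
      have hsplit : E ∩ u ⁻¹' (PrimeSpectrum.zeroLocus (I : Set A)) =
          (E ∩ u ⁻¹' (PrimeSpectrum.zeroLocus (I : Set A) ∩ (PrimeSpectrum.basicOpen a : Set (PrimeSpectrum A)))) ∪
            (E ∩ u ⁻¹' (PrimeSpectrum.zeroLocus ((I ⊔ Ideal.span {a} : Ideal A) : Set A))) := by
        have key : ∀ q : PrimeSpectrum A, q ∈ PrimeSpectrum.zeroLocus (I : Set A) ↔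
            q ∈ PrimeSpectrum.zeroLocus (I : Set A) ∩ (PrimeSpectrum.basicOpen a : Set (PrimeSpectrum A)) ∨
              q ∈ PrimeSpectrum.zeroLocus ((I ⊔ Ideal.span {a} : Ideal A) : Set A) := by
          intro q
          simp only [Set.mem_inter_iff, PrimeSpectrum.mem_zeroLocus, SetLike.coe_subset_coe, sup_le_iff,
            Ideal.span_singleton_le_iff_mem, SetLike.mem_coe, PrimeSpectrum.mem_basicOpen]
          tauto
        ext x
        exact (and_congr_right fun _ => key (u x)).trans and_or_left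
      rw [hsplit]
      exact hstr.union (ih _ (Submodule.lt_sup_iff_notMem.2 ha))
  have h := H ⊥
  rw [show PrimeSpectrum.zeroLocus ((⊥ : Ideal A) : Set A) = Set.univ from PrimeSpectrum.zeroLocus_bot] at h
  exact Set.inter_univ E ▸ (show IsConstructible (E ∩ Set.univ) from h)

end Noeth

section Affine

variable {A : Type u} [CommRing A]

/-- A morphism of schemes of finite presentation over `A`, with a module of finite presentation, has a
Noetherian model. -/
theorem exists_fibFlat_model {X Y : Scheme.{u}} (f : X ⟶ Y) (g : Y ⟶ Spec (CommRingCat.of A))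
    [LocallyOfFinitePresentation g] [QuasiCompact g] [QuasiSeparated g]
    [LocallyOfFinitePresentation f] [QuasiCompact f] [QuasiSeparated f]
    (F : X.Modules) [F.IsQuasicoherent] (hF : CohB1.IsFP F) :
    ∃ (A₀ : Subalgebra ℤ A) (X₀ Y₀ : Scheme.{u}) (f₀ : X₀ ⟶ Y₀) (g₀ : Y₀ ⟶ Spec (CommRingCat.of A₀))
      (qX : X ⟶ X₀) (qY : Y ⟶ Y₀) (F₀ : X₀.Modules),
      A₀.FG ∧ LocallyOfFinitePresentation g₀ ∧ QuasiCompact g₀ ∧ LocallyOfFinitePresentation f₀ ∧ QuasiCompact f₀ ∧
        IsPullback qY g g₀ (Spec.map (CommRingCat.ofHom A₀.val.toRingHom)) ∧ IsPullback qX f f₀ qY ∧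
        F₀.IsQuasicoherent ∧ CohB1.IsFP F₀ ∧ Nonempty ((Scheme.Modules.pullback qX).obj F₀ ≅ F) := by
  classical
  let D := LimLib.fgDiagram ℤ A
  let c := LimLib.fgCone ℤ A
  have hc : IsLimit c := LimLib.isLimitFgCone ℤ A
  haveI : CompactSpace Y := QuasiCompact.compactSpace_of_compactSpace g
  haveI : QuasiSeparatedSpace Y := quasiSeparatedSpace_of_quasiSeparated g
  haveI : CompactSpace X := QuasiCompact.compactSpace_of_compactSpace f
  haveI : QuasiSeparatedSpace X := quasiSeparatedSpace_of_quasiSeparated f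
  obtain ⟨k, Yk, gk, q₀, h₁, h₂, h₃, sq⟩ :=
    @LimLib.hasModel _ _ _ _ _ hc _ _ _ Y g ‹LocallyOfFinitePresentation g› ‹_› ‹_›
  let DY := LimLib.bcDiag D k gk
  let cY := LimLib.bcCone (D := D) (c := c) (i₀ := k) (g₀ := gk) sq
  have hcY : IsLimit cY := LimLib.isLimitBcCone (D := D) (c := c) (i₀ := k) (g₀ := gk) hc sq
  haveI : ∀ (i j : Over k) (a : i ⟶ j), IsAffineHom (DY.map a) := fun _ _ _ => inferInstance
  haveI : ∀ i, CompactSpace (DY.obj i) := fun i => inferInstance
  haveI : ∀ i, QuasiSeparatedSpace (DY.obj i) := fun i => inferInstance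
  obtain ⟨j, Xj, fj, r₀, k₁, k₂, k₃, sqX⟩ :=
    @LimLib.hasModel _ _ _ DY cY hcY _ _ _ X f ‹LocallyOfFinitePresentation f› ‹_› ‹_›
  let cX := LimLib.bcCone (D := DY) (c := cY) (i₀ := j) (g₀ := fj) sqX
  let Fm : cX.pt.Modules := F
  haveI : Fm.IsQuasicoherent := ‹F.IsQuasicoherent›
  obtain ⟨m, -, G, hGq, hG, ⟨e⟩⟩ := LimTop.exists_model (D := LimLib.bcDiag DY j fj) (c := cX)
    (LimLib.isLimitBcCone (D := DY) (c := cY) (i₀ := j) (g₀ := fj) hcY sqX) (i₀ := Over.mk (𝟙 j)) Fm hF
  let A₀ : Subalgebra ℤ A := Algebra.adjoin ℤ (m.left.left.unop : Set A)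
  haveI : LocallyOfFinitePresentation gk := h₁
  haveI : LocallyOfFinitePresentation fj := k₁
  refine ⟨A₀, (LimLib.bcDiag DY j fj).obj m, DY.obj m.left, (LimLib.bcι DY j fj).app m,
    (LimLib.bcι D k gk).app m.left, cX.π.app m, cY.π.app m.left, G,
    ⟨m.left.left.unop, rfl⟩, MorphismProperty.of_isPullback (IsPullback.of_hasPullback gk (D.map m.left.hom)) h₁,
    ?_, MorphismProperty.of_isPullback (IsPullback.of_hasPullback fj (DY.map m.hom)) k₁, ?_,
    LimLib.isPullback_bcCone (D := D) (c := c) (i₀ := k) (g₀ := gk) sq m.left,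
    LimLib.isPullback_bcCone (D := DY) (c := cY) (i₀ := j) (g₀ := fj) sqX m, hGq, hG, ⟨e⟩⟩
  · haveI : CompactSpace ↥Yk := h₂
    haveI : QuasiCompact gk := (quasiCompact_iff_compactSpace gk).2 h₂
    exact MorphismProperty.of_isPullback (IsPullback.of_hasPullback gk (D.map m.left.hom)) ‹QuasiCompact gk›
  · haveI : CompactSpace ↥Xj := k₂
    haveI : QuasiCompact fj := quasiCompact_of_compactSpace fj
    exact MorphismProperty.of_isPullback (IsPullback.of_hasPullback fj (DY.map m.hom)) ‹QuasiCompact fj›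

/-- Over an affine base the fibrewise flat locus is constructible. -/
theorem isConstructible_fibFlat_affine {X Y : Scheme.{u}} (f : X ⟶ Y) (g : Y ⟶ Spec (CommRingCat.of A))
    [LocallyOfFinitePresentation g] [QuasiCompact g] [QuasiSeparated g]
    [LocallyOfFinitePresentation f] [QuasiCompact f] [QuasiSeparated f]
    (F : X.Modules) [F.IsQuasicoherent] (hF : CohB1.IsFP F) : IsConstructible {x | FibFlatAt f g F x} := by
  obtain ⟨A₀, X₀, Y₀, f₀, g₀, qX, qY, F₀, hA₀, _, _, _, _, hY, hX, hq₀, hF₀, ⟨e⟩⟩ := exists_fibFlat_model f g F hF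
  haveI : IsNoetherianRing A₀ := isNoetherianRing_of_fg hA₀
  haveI := hq₀
  have hXg := hX.paste_vert hY
  have h := isConstructible_fibFlat_noetherian f₀ g₀ F₀ hF₀
  obtain ⟨hqc, hfp⟩ := ConsPairLib.isFP_pullback qX F₀ hF₀
  have heq : {x | FibFlatAt f g F x} = qX ⁻¹' {x | FibFlatAt f₀ g₀ F₀ x} := by
    ext x
    refine Iff.trans ?_ (fibFlatAt_baseChange hF₀ hY hXg hX.w x)
    exact CBC.isFlatOverAt_congr_iso _ ((Scheme.Modules.pullback _).mapIso e.symm) _
  rw [heq]
  exact qX.isConstructible_preimage h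

end Affine

/-- EGA IV 11.2.8: the fibrewise flat locus is locally constructible. -/
theorem isLocallyConstructible_fibFlat {X Y S : Scheme.{u}} (f : X ⟶ Y) (g : Y ⟶ S)
    [LocallyOfFinitePresentation (f ≫ g)] [LocallyOfFinitePresentation g] (F : X.Modules) [F.IsQuasicoherent]
    (hF : CohB1.IsFP F) : IsLocallyConstructible {x | FibFlatAt f g F x} := by
  intro x
  obtain ⟨W, hW, hxW, -⟩ := exists_isAffineOpen_mem_and_subset (X := S) (U := ⊤) (x := g (f x)) trivial
  obtain ⟨V, hV, hxV, hVW⟩ := exists_isAffineOpen_mem_and_subset (X := Y) (U := g ⁻¹ᵁ W) (x := f x) hxW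
  obtain ⟨U, hU, hxU, hUV⟩ := exists_isAffineOpen_mem_and_subset (X := X) (U := f ⁻¹ᵁ V) (x := x) hxV
  let A := Γ(S, W)
  let jS : Spec (CommRingCat.of A) ⟶ S := hW.fromSpec
  let g' : (V : Scheme.{u}) ⟶ Spec (CommRingCat.of A) := g.resLE W V hVW ≫ hW.isoSpec.hom
  let f' : (U : Scheme.{u}) ⟶ (V : Scheme.{u}) := f.resLE V U hUV
  haveI : IsAffine (V : Scheme.{u}) := hV
  haveI : IsAffine (U : Scheme.{u}) := hU
  have hwg : V.ι ≫ g = g' ≫ jS := by
    simp only [g', jS, Category.assoc, IsAffineOpen.isoSpec_hom_fromSpec]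
    exact (Scheme.Hom.resLE_comp_ι g hVW).symm
  have hwf : U.ι ≫ f = f' ≫ V.ι := (Scheme.Hom.resLE_comp_ι f hUV).symm
  haveI : LocallyOfFinitePresentation g' :=
    MorphismProperty.of_postcomp (W' := @LocallyOfFiniteType) @LocallyOfFinitePresentation g' jS
      (inferInstance : LocallyOfFiniteType jS) (by rw [← hwg]; infer_instance)
  haveI : LocallyOfFinitePresentation (f' ≫ g') :=
    MorphismProperty.of_postcomp (W' := @LocallyOfFiniteType) @LocallyOfFinitePresentation (f' ≫ g') jS
      (inferInstance : LocallyOfFiniteType jS)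
      (by rw [Category.assoc, ← hwg, ← Category.assoc, ← hwf, Category.assoc]; infer_instance)
  haveI : LocallyOfFinitePresentation f' := GrpScheme.FlatFib.locallyOfFinitePresentation_of_comp f' g'
  obtain ⟨hqc, hfp⟩ := ConsPairLib.isFP_pullback U.ι F hF
  haveI : ((Scheme.Modules.pullback U.ι).obj F).IsQuasicoherent := hqc
  have h := isConstructible_fibFlat_affine f' g' _ hfp
  refine ⟨U, U.2.mem_nhds hxU, U.2, ?_⟩
  have heq : ((U : Set X) ↓∩ {x | FibFlatAt f g F x}) =
      {u : (U : Scheme.{u}) | FibFlatAt f' g' ((Scheme.Modules.pullback U.ι).obj F) u} :=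
    Set.ext fun u => (fibFlatAt_openImmersion hF U.ι V.ι jS f' g' hwf hwg u).symm
  rw [heq]
  exact h

end Groth.Agent.FibCodepth
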