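import Groth.Agent.FibCodepth.FibFlatCons
import Groth.Agent.FlatOpen.RelLocus
import Groth.Agent.FibCodepth.GeomRkScheme

/-!
# Forms of fibrewise flatness
-/

set_option autoImplicit false
set_option linter.style.haveILetI false

universe u

open CategoryTheory Limits AlgebraicGeometry IsLocalRing Topology
open scoped TensorProduct

namespace Groth.Agent.FibCodepth

variable {X Y S : Scheme.{u}} (f : X ⟶ Y) (g : Y ⟶ S)

theorem isPullback_fibMap (s : S) : IsPullback ((f ≫ g).fiberι s) (fibMap f g s) f (g.fiberι s) :=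
  IsPullback.of_bot (isPullback_fibre f g s) (fibMap_fiberι f g s).symm
    (IsPullback.of_hasPullback g (S.fromSpecResidueField s))

/-- The quotient form of fibrewise flatness. -/
theorem flat_quot_iff_fibre (F : X.Modules) (s : S) (x' : (f ≫ g).fiber s) :
    (letI := FlatMod.moduleStalkOver f F ((f ≫ g).fiberι s x');
      Module.Flat (↑(Y.presheaf.stalk (f ((f ≫ g).fiberι s x'))) ⧸ Ideal.map (g.stalkMap (f ((f ≫ g).fiberι s x'))).hom (maximalIdeal ↑(S.presheaf.stalk (g (f ((f ≫ g).fiberι s x'))))))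
        (↑(F.presheaf.stalk ((f ≫ g).fiberι s x')) ⧸ (Ideal.map (g.stalkMap (f ((f ≫ g).fiberι s x'))).hom (maximalIdeal ↑(S.presheaf.stalk (g (f ((f ≫ g).fiberι s x'))))) •
          (⊤ : Submodule ↑(Y.presheaf.stalk (f ((f ≫ g).fiberι s x'))) ↑(F.presheaf.stalk ((f ≫ g).fiberι s x')))))) ↔
    FlatMod.IsFlatOverAt (fibMap f g s) ((Scheme.Modules.pullback ((f ≫ g).fiberι s)).obj F) x' := by
  let ι := (f ≫ g).fiberι s
  let y' := fibMap f g s x'
  have hy : g.fiberι s y' = f (ι x') := by
    rw [← Scheme.Hom.comp_apply, fibMap_fiberι, Scheme.Hom.comp_apply]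
  let A := Y.presheaf.stalk (f (ι x'))
  let A' := (g.fiber s).presheaf.stalk y'
  let C := X.presheaf.stalk (ι x')
  let C' := ((f ≫ g).fiber s).presheaf.stalk x'
  let M := F.presheaf.stalk (ι x')
  let M' := ((Scheme.Modules.pullback ι).obj F).presheaf.stalk x'
  let J : Ideal A := (maximalIdeal (S.presheaf.stalk (g (f (ι x'))))).map (g.stalkMap (f (ι x'))).hom
  let φ := Y.presheaf.stalkSpecializes (specializes_of_eq hy) ≫ (g.fiberι s).stalkMap y'
  obtain ⟨hφs, hφk⟩ := GrpScheme.FlatFib.exists_proj g s y' (f (ι x')) hy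
  obtain ⟨hψs, hψk⟩ := GrpScheme.FlatFib.exists_proj (f ≫ g) s x' (ι x') rfl
  rw [TopCat.Presheaf.stalkSpecializes_refl, Category.id_comp] at hψs hψk
  letI : Algebra A C := (f.stalkMap (ι x')).hom.toAlgebra
  letI : Algebra A A' := φ.hom.toAlgebra
  letI : Algebra A' C' := ((fibMap f g s).stalkMap x').hom.toAlgebra
  letI : Algebra C C' := (ι.stalkMap x').hom.toAlgebra
  letI : Algebra A C' := ((ι.stalkMap x').hom.comp (f.stalkMap (ι x')).hom).toAlgebra
  haveI : IsScalarTower A C C' := IsScalarTower.of_algebraMap_eq fun _ => rfl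
  haveI : IsScalarTower A A' C' := by
    refine IsScalarTower.of_algebraMap_eq' (congrArg CommRingCat.Hom.hom
      (?_ : f.stalkMap (ι x') ≫ ι.stalkMap x' = φ ≫ (fibMap f g s).stalkMap x'))
    rw [← Scheme.Hom.stalkMap_comp, Scheme.Hom.stalkMap_congr_hom _ _ (fibMap_fiberι f g s).symm x', Category.assoc,
      Scheme.Hom.stalkMap_comp]
    rfl
  letI : Module A M := FlatMod.moduleStalkOver f F (ι x')
  haveI : IsScalarTower A C M := IsScalarTower.of_algebraMap_smul fun _ _ => rfl
  letI : Module A' M' := FlatMod.moduleStalkOver (fibMap f g s) _ x'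
  haveI : IsScalarTower A' C' M' := IsScalarTower.of_algebraMap_smul fun _ _ => rfl
  letI : Module A M' := Module.compHom _ (algebraMap A A')
  haveI : IsScalarTower A A' M' := IsScalarTower.of_algebraMap_smul fun _ _ => rfl
  haveI : IsScalarTower A C' M' := IsScalarTower.of_algebraMap_smul fun a m => by
    rw [IsScalarTower.algebraMap_apply A A' C', algebraMap_smul]
    exact (algebraMap_smul A' a m)
  let a := A ⧸ J
  have hk : RingHom.ker (algebraMap A A') = J := hφk
  letI : Algebra a A' := (Ideal.Quotient.lift J (algebraMap A A') fun v hv => hk.ge hv).toAlgebra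
  have hb : Function.Bijective (algebraMap a A') := by
    refine ⟨?_, fun z => ?_⟩
    · refine (RingHom.injective_iff_ker_eq_bot _).2 ((eq_bot_iff).2 fun z hz => ?_)
      obtain ⟨v, rfl⟩ := Ideal.Quotient.mk_surjective z
      exact (Submodule.mem_bot _).2 (Ideal.Quotient.eq_zero_iff_mem.2 (hk.le hz))
    · obtain ⟨v, rfl⟩ := hφs z
      exact ⟨Ideal.Quotient.mk J v, rfl⟩
  letI : Module a M' := Module.compHom _ (algebraMap a A')
  haveI : IsScalarTower a A' M' := IsScalarTower.of_algebraMap_smul fun _ _ => rfl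
  haveI : IsScalarTower A a M' := IsScalarTower.of_algebraMap_smul fun _ _ => rfl
  let I : Ideal C := (maximalIdeal (S.presheaf.stalk ((f ≫ g) (ι x')))).map ((f ≫ g).stalkMap (ι x')).hom
  have hI : J.map (algebraMap A C) = I := by
    show ((maximalIdeal _).map (g.stalkMap _).hom).map (f.stalkMap _).hom = _
    rw [Ideal.map_map, ← CommRingCat.hom_comp, ← Scheme.Hom.stalkMap_comp]
    rfl
  have hkC : RingHom.ker (algebraMap C C') = I := hψk
  let εC : (C ⧸ I) ≃ₐ[C] C' := (Ideal.quotientEquivAlgOfEq C hkC.symm).trans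
    (Ideal.quotientKerAlgEquivOfSurjective (f := Algebra.ofId C C') hψs)
  obtain ⟨e, -⟩ := FDesc.Stalk.exists_stalk_equiv ι F x'
  let eC : (C ⧸ I) ⊗[C] M ≃ₗ[C] C' ⊗[C] M :=
    TensorProduct.congr εC.toLinearEquiv (LinearEquiv.refl C M)
  let eA : (M ⧸ J • (⊤ : Submodule A M)) ≃ₗ[A] M' :=
    (Submodule.quotEquivOfEq _ _ (by rw [← hI, Ideal.smul_restrictScalars, Submodule.restrictScalars_top] :
        (J • ⊤ : Submodule A M) = (I • (⊤ : Submodule C M)).restrictScalars A)).trans
      ((Submodule.Quotient.restrictScalarsEquiv A (I • (⊤ : Submodule C M))).trans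
        ((((TensorProduct.quotTensorEquivQuotSMul M I).symm.trans eC).restrictScalars A).trans
          (e.restrictScalars A)))
  show Module.Flat a (M ⧸ J • (⊤ : Submodule A M)) ↔ Module.Flat A' M'
  rw [← flat_iff_of_bijective (A := a) (A' := A') (M := M') hb]
  constructor
  · intro h
    exact FlatOpen.flat_of_linearEquiv_of_surjective Ideal.Quotient.mk_surjective eA
  · intro h
    exact FlatOpen.flat_of_linearEquiv_of_surjective Ideal.Quotient.mk_surjective eA.symm

/-- Fibrewise flatness at a point of a fibre. -/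
theorem flat_quot_iff_fibFlatAt (F : X.Modules) (x : X) :
    (letI := FlatMod.moduleStalkOver f F x;
      Module.Flat (↑(Y.presheaf.stalk (f x)) ⧸ Ideal.map (g.stalkMap (f x)).hom (maximalIdeal ↑(S.presheaf.stalk (g (f x)))))
        (↑(F.presheaf.stalk x) ⧸ (Ideal.map (g.stalkMap (f x)).hom (maximalIdeal ↑(S.presheaf.stalk (g (f x)))) •
          (⊤ : Submodule ↑(Y.presheaf.stalk (f x)) ↑(F.presheaf.stalk x))))) ↔
    FibFlatAt f g F x := by
  have key : ∀ (s : S) (w : (f ≫ g).fiber s) (z : X), (f ≫ g).fiberι s w = z →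
      ((letI := FlatMod.moduleStalkOver f F z;
        Module.Flat (↑(Y.presheaf.stalk (f z)) ⧸ Ideal.map (g.stalkMap (f z)).hom (maximalIdeal ↑(S.presheaf.stalk (g (f z)))))
          (↑(F.presheaf.stalk z) ⧸ (Ideal.map (g.stalkMap (f z)).hom (maximalIdeal ↑(S.presheaf.stalk (g (f z)))) •
            (⊤ : Submodule ↑(Y.presheaf.stalk (f z)) ↑(F.presheaf.stalk z))))) ↔
      FlatMod.IsFlatOverAt (fibMap f g s) ((Scheme.Modules.pullback ((f ≫ g).fiberι s)).obj F) w) := by
    rintro s w _ rfl
    exact flat_quot_iff_fibre f g F s w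
  exact key _ _ x ((f ≫ g).fiberι_asFiber x)

variable [LocallyOfFinitePresentation (f ≫ g)] [LocallyOfFinitePresentation g] (F : X.Modules) [F.IsQuasicoherent]

/-- The points of the base over which `F_s` is flat over `Y_s`. -/
theorem isLocallyConstructible_base_fibFlat [QuasiCompact (f ≫ g)] (hF : CohB1.IsFP F) :
    IsLocallyConstructible {s : S | ∀ x : X, (f ≫ g) x = s → FibFlatAt f g F x} :=
  EGA43Fib.isLocallyConstructible_setOf_fibre_subset (f ≫ g) (isLocallyConstructible_fibFlat f g F hF)

omit [LocallyOfFinitePresentation g] in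
/-- `F_s` is flat over `Y_s` iff it is so at every point. -/
theorem isFlatOver_fibre_iff [LocallyOfFiniteType g] (hF : CohB1.IsFP F) (s : S) :
    FlatMod.IsFlatOver (pullback.lift (pullback.fst (f ≫ g) (S.fromSpecResidueField s) ≫ f)
          (pullback.snd (f ≫ g) (S.fromSpecResidueField s))
          ((Category.assoc _ _ _).trans pullback.condition) :
        pullback (f ≫ g) (S.fromSpecResidueField s) ⟶ pullback g (S.fromSpecResidueField s))
      ((Scheme.Modules.pullback (pullback.fst (f ≫ g) (S.fromSpecResidueField s))).obj F) ↔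
      ∀ x : X, (f ≫ g) x = s → FibFlatAt f g F x := by
  constructor
  · intro h x hx
    subst hx
    exact h _
  · intro h w
    have hw : (f ≫ g) ((f ≫ g).fiberι s w) = s := fiber_fiberι (f ≫ g) s w
    exact (fibFlatAt_iff hF (IsPullback.of_hasPullback g (S.fromSpecResidueField s))
      (isPullback_fibre f g s) (fibMap_fiberι f g s).symm w rfl).1 (h _ hw)

end Groth.Agent.FibCodepth
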