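import Groth.Agent.FibCodepth.FibVanish
import Groth.Agent.FlatOpen.MapOpen
import Groth.Agent.FlatOpen.Scheme
import Mathlib.RingTheory.Regular.RegularSequence

/-!
# Openness of the locus where a sequence is weakly regular on the fibres (EGA IV 11.1.4, 11.3.8)
-/

set_option autoImplicit false
set_option linter.style.haveILetI false

universe u

open TensorProduct RingTheory.Sequence IsLocalRing CategoryTheory AlgebraicGeometry Topology
open Groth.Agent.AssSch.Stalk

namespace Groth.Agent.FibCodepth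

/-- A semilinear criterion for regularity of an element of a fibre local module. -/
theorem isSMulRegular_fib_iff {R B : Type u} [CommRing R] [CommRing B] [Algebra R B] {M : Type u}
    [AddCommGroup M] [Module B M] (g : B) (x : PrimeSpectrum B) :
    IsSMulRegular (EGA4.FibLocRing R B x.asIdeal ⊗[B] M) g ↔
      ∀ m : M, g • m ∈ (x.asIdeal.under R).map (algebraMap R B) • (⊤ : Submodule B M) →
        ∃ s ∉ x.asIdeal, s • m ∈ (x.asIdeal.under R).map (algebraMap R B) • (⊤ : Submodule B M) := by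
  have key : IsSMulRegular (EGA4.FibLocRing R B x.asIdeal ⊗[B] M) g ↔
      ∀ z : EGA4.FibLocRing R B x.asIdeal ⊗[B] M, g • z = 0 → z = 0 :=
    ⟨fun h z hz => h (show g • z = g • 0 by rw [hz, smul_zero]),
      fun h a b hab => sub_eq_zero.1 (h _ (by rw [smul_sub, show g • a = g • b from hab, sub_self]))⟩
  refine key.trans ⟨?_, ?_⟩
  · intro h m hm
    refine (vanAt_iff_tensor (A := R) m x).2 (h _ ?_)
    rw [← TensorProduct.tmul_smul]
    refine (vanAt_iff_tensor (A := R) (g • m) x).1 ⟨1, ?_, by rwa [one_smul]⟩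
    exact fun h1 => x.isPrime.ne_top ((Ideal.eq_top_iff_one _).2 h1)
  · intro h z hz
    obtain ⟨s, m, hs, hsm⟩ : ∃ (s : B) (m : M), s ∉ x.asIdeal ∧
        s • z = (1 : EGA4.FibLocRing R B x.asIdeal) ⊗ₜ[B] m := by
      clear hz
      induction z with
      | zero => exact ⟨1, 0, fun h1 => x.isPrime.ne_top ((Ideal.eq_top_iff_one _).2 h1), by simp⟩
      | tmul c m =>
        obtain ⟨c, rfl⟩ := Ideal.Quotient.mk_surjective c
        obtain ⟨⟨b, s, hs⟩, hbs⟩ := IsLocalization.surj x.asIdeal.primeCompl c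
        refine ⟨s, b • m, hs, ?_⟩
        rw [TensorProduct.smul_tmul', TensorProduct.tmul_smul, TensorProduct.smul_tmul']
        congr 1
        show Ideal.Quotient.mk _ (s • c) = Ideal.Quotient.mk _ (b • (1 : Localization.AtPrime x.asIdeal))
        rw [Algebra.smul_def, Algebra.smul_def, mul_one, ← hbs, mul_comm]
      | add a b ha hb =>
        obtain ⟨s, m, hs, hsm⟩ := ha
        obtain ⟨t, n, ht, htn⟩ := hb
        refine ⟨s * t, t • m + s • n, x.isPrime.mul_notMem hs ht, ?_⟩
        rw [smul_add, TensorProduct.tmul_add, TensorProduct.tmul_smul, TensorProduct.tmul_smul, ← hsm, ← htn]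
        simp only [smul_smul, mul_comm s t]
    have hgm : (1 : EGA4.FibLocRing R B x.asIdeal) ⊗ₜ[B] (g • m) = 0 := by
      rw [TensorProduct.tmul_smul, ← hsm, smul_comm, hz, smul_zero]
    obtain ⟨t, ht, htm⟩ := (vanAt_iff_tensor (A := R) (g • m) x).2 hgm
    obtain ⟨t', ht', htm'⟩ := h (t • m) (by rwa [smul_comm])
    have h0 : (s : B) • z = 0 := by
      rw [hsm]
      exact (vanAt_iff_tensor (A := R) m x).1 ⟨t' * t, x.isPrime.mul_notMem ht' ht, by rwa [mul_smul]⟩
    have hu : IsUnit (algebraMap B (EGA4.FibLocRing R B x.asIdeal) s) := by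
      rw [IsScalarTower.algebraMap_apply B (Localization.AtPrime x.asIdeal) (EGA4.FibLocRing R B x.asIdeal)]
      exact (IsLocalization.map_units (Localization.AtPrime x.asIdeal) (⟨s, hs⟩ : x.asIdeal.primeCompl)).map _
    exact hu.smul_eq_zero.1 (by rwa [algebraMap_smul])

section Open

variable (R : Type u) {B : Type u} [CommRing R] [CommRing B] [Algebra R B] [Algebra.FinitePresentation R B]

/-- The locus where a module is flat and a sequence is weakly regular on the fibres is open. -/
theorem isOpen_flat_fibWR (l : List B) : ∀ (M : Type u) [AddCommGroup M] [Module R M] [Module B M]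
    [IsScalarTower R B M] [Module.FinitePresentation B M],
    IsOpen {x : PrimeSpectrum B | FlatCA.FlatAt R x.asIdeal M ∧
      IsWeaklyRegular (EGA4.FibLocRing R B x.asIdeal ⊗[B] M) l} := by
  induction l with
  | nil =>
    intro M _ _ _ _ _
    simp only [IsWeaklyRegular.nil, and_true]
    exact FlatOpen.isOpen_flatLocus R B M
  | cons g l ih =>
    intro M _ _ _ _ _
    let u : M →ₗ[B] M := g • LinearMap.id
    haveI : Module.FinitePresentation B (M ⧸ LinearMap.range u) :=
      Module.finitePresentation_of_surjective (Submodule.mkQ _) (Submodule.mkQ_surjective _)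
        (by rw [Submodule.ker_mkQ]; exact Submodule.FG.map _ Module.Finite.fg_top |> (LinearMap.range_eq_map u).symm.subst)
    have hM := FlatOpen.isOpen_flatLocus R B M
    have hu := FlatOpen.isOpen_injective_coker_flat R B u
    have hQ := ih (M ⧸ LinearMap.range u)
    have eQ : QuotSMulTop g M ≃ₗ[B] M ⧸ LinearMap.range u := Submodule.quotEquivOfEq _ _ (by
      ext z
      simp [u, Submodule.mem_smul_pointwise_iff_exists])
    have hiff : ∀ x : PrimeSpectrum B,
        IsWeaklyRegular (EGA4.FibLocRing R B x.asIdeal ⊗[B] M) (g :: l) ↔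
          IsSMulRegular (EGA4.FibLocRing R B x.asIdeal ⊗[B] M) g ∧
            IsWeaklyRegular (EGA4.FibLocRing R B x.asIdeal ⊗[B] (M ⧸ LinearMap.range u)) l := fun x =>
      (isWeaklyRegular_cons_iff _ g l).trans (and_congr_right fun _ =>
        LinearEquiv.isWeaklyRegular_congr ((QuotSMulTop.tensorQuotSMulTopEquivQuotSMulTop g _ _).symm.trans
          (TensorProduct.congr (LinearEquiv.refl B _) eQ)) l)
    convert (hM.inter hu).inter hQ using 1
    ext x
    simp only [Set.mem_ofPred_eq, Set.mem_inter_iff, hiff, isSMulRegular_fib_iff]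
    constructor
    · rintro ⟨hf, hreg, hl⟩
      have h := FlatOpen.injective_coker_flat_of_fibEq R B u x.asIdeal hf fun m hm => hreg m hm
      exact ⟨⟨hf, h⟩, h.1, hl⟩
    · rintro ⟨⟨hf, hC, hinj⟩, -, hl⟩
      exact ⟨hf, fun m hm => FlatOpen.fibEq_of_injective_coker_flat R B u x.asIdeal hC hinj _ m hm, hl⟩

end Open

section Chart

variable {X Y : Scheme.{u}} (f : X ⟶ Y) {V : Y.Opens} (hV : IsAffineOpen V) {U : X.Opens}
  (hU : IsAffineOpen U) (e : U ≤ f ⁻¹ᵁ V) (F : X.Modules) [F.IsQuasicoherent]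

include hV hU in
/-- Weak regularity of germs on the fibre module, read on a chart. -/
theorem weaklyRegular_iff_chart (x : X) (hx : x ∈ U) (l : List Γ(X, U)) :
    letI := (f.appLE V U e).hom.toAlgebra
    IsWeaklyRegular
        (↑(F.presheaf.stalk x) ⧸ (Ideal.map (f.stalkMap x).hom (maximalIdeal ↑(Y.presheaf.stalk (f x))) •
          (⊤ : Submodule ↑(X.presheaf.stalk x) ↑(F.presheaf.stalk x))))
        (l.map (X.presheaf.germ U x hx).hom) ↔
      IsWeaklyRegular (EGA4.FibLocRing Γ(Y, V) Γ(X, U) (hU.primeIdealOf ⟨x, hx⟩).asIdeal ⊗[Γ(X, U)] Γ(F, U)) l := by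
  letI := (f.appLE V U e).hom.toAlgebra
  let q := (hU.primeIdealOf ⟨x, hx⟩).asIdeal
  let T := X.presheaf.stalk x
  letI : Algebra Γ(X, U) T := (X.presheaf.germ U x hx).hom.toAlgebra
  haveI : IsLocalization.AtPrime T q := hU.isLocalization_stalk ⟨x, hx⟩
  let J : Ideal T := Ideal.map (f.stalkMap x).hom (maximalIdeal (Y.presheaf.stalk (f x)))
  let ε : Localization.AtPrime q ≃ₐ[Γ(X, U)] T := IsLocalization.algEquiv q.primeCompl _ _
  have hJ : J = ((q.under Γ(Y, V)).map (algebraMap Γ(Y, V) (Localization.AtPrime q))).map (ε : Localization.AtPrime q →+* T) := by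
    rw [show J = Ideal.map (f.stalkMap x).hom (maximalIdeal (Y.presheaf.stalk (f x))) from rfl]
    rw [FlatOpen.Scheme.maximalIdeal_map_stalkMap f hV hU e x hx, Ideal.map_map, Ideal.map_map]
    refine congrArg (fun φ : Γ(Y, V) →+* T => Ideal.map φ (q.under Γ(Y, V))) (RingHom.ext fun a => ?_)
    rw [RingHom.comp_apply, RingHom.comp_apply, IsScalarTower.algebraMap_apply Γ(Y, V) Γ(X, U) (Localization.AtPrime q)]
    exact (ε.commutes _).symm
  let M := F.presheaf.stalk x
  letI : Module Γ(X, U) M := Module.compHom _ (X.presheaf.germ U x hx).hom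
  haveI : IsScalarTower Γ(X, U) T M := IsScalarTower.of_algebraMap_smul fun _ _ => rfl
  haveI := isLocalizedModule_germLinear F hU x hx
  have hbc : IsBaseChange T (germLinear F x hx) :=
    IsLocalizedModule.isBaseChange q.primeCompl T (germLinear F x hx)
  let ε' : (T ⧸ J) ≃ₐ[Γ(X, U)] EGA4.FibLocRing Γ(Y, V) Γ(X, U) q :=
    (Ideal.quotientEquivAlg _ J ε hJ).symm
  let μ : (M ⧸ J • (⊤ : Submodule T M)) ≃ₗ[Γ(X, U)]
      EGA4.FibLocRing Γ(Y, V) Γ(X, U) q ⊗[Γ(X, U)] Γ(F, U) :=
    ((TensorProduct.quotTensorEquivQuotSMul M J).symm.trans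
      ((AlgebraTensorModule.congr (LinearEquiv.refl T (T ⧸ J)) hbc.equiv.symm).trans
        ((AlgebraTensorModule.cancelBaseChange Γ(X, U) T T (T ⧸ J) Γ(F, U))))).restrictScalars Γ(X, U) ≪≫ₗ
      TensorProduct.congr ε'.toLinearEquiv (LinearEquiv.refl Γ(X, U) Γ(F, U))
  show IsWeaklyRegular (M ⧸ J • (⊤ : Submodule T M)) (l.map (algebraMap Γ(X, U) T)) ↔ _
  rw [isWeaklyRegular_map_algebraMap_iff]
  exact LinearEquiv.isWeaklyRegular_congr μ l

end Chart

/-- EGA IV 11.3.8: where a sequence is weakly regular on the fibres of a flat module is open. -/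
theorem isOpen_fibWR {X Y : Scheme.{u}} (f : X ⟶ Y) [LocallyOfFinitePresentation f] (F : X.Modules)
    [F.IsQuasicoherent] (hF : CohB1.IsFP F) (hflat : FlatMod.IsFlatOver f F) (n : ℕ) (g : Fin n → Γ(X, ⊤)) :
    IsOpen {x : X | IsWeaklyRegular
        (↑(F.presheaf.stalk x) ⧸ (Ideal.map (f.stalkMap x).hom (maximalIdeal ↑(Y.presheaf.stalk (f x))) •
          (⊤ : Submodule ↑(X.presheaf.stalk x) ↑(F.presheaf.stalk x))))
        (List.ofFn fun i => (X.presheaf.germ ⊤ x trivial) (g i))} := by
  refine FlatOpen.Scheme.isOpen_of_charts f _ fun V hV U hU e => ?_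
  letI := (f.appLE V U e).hom.toAlgebra
  haveI : Algebra.FinitePresentation Γ(Y, V) Γ(X, U) := f.finitePresentation_appLE hV hU e
  haveI : SheafOfModules.IsFinitePresentation.{u} F := hF
  letI : Module Γ(Y, V) Γ(F, U) := Module.compHom _ (f.appLE V U e).hom
  haveI : IsScalarTower Γ(Y, V) Γ(X, U) Γ(F, U) := IsScalarTower.of_algebraMap_smul fun _ _ => rfl
  haveI : Module.FinitePresentation Γ(X, U) Γ(F, U) := Props.QFP.finitePresentation_sections_of_isFP F hU
  let l : List Γ(X, U) := (List.ofFn g).map (X.presheaf.map (homOfLE (le_top : U ≤ ⊤)).op).hom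
  refine ⟨_, isOpen_flat_fibWR Γ(Y, V) l Γ(F, U), fun x hx => ?_⟩
  have hl : (List.ofFn fun i => (X.presheaf.germ ⊤ x trivial) (g i)) = l.map (X.presheaf.germ U x hx).hom := by
    rw [List.map_map, List.map_ofFn]
    refine congrArg List.ofFn (funext fun i => ?_)
    exact (TopCat.Presheaf.germ_res_apply X.presheaf (homOfLE (le_top : U ≤ ⊤)) x hx (g i)).symm
  have hfl : FlatCA.FlatAt Γ(Y, V) (hU.primeIdealOf ⟨x, hx⟩).asIdeal Γ(F, U) :=
    (FlatOpen.Scheme.isFlatOverAt_iff f hV hU e x hx F).1 (hflat x)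
  rw [Set.mem_ofPred_eq, Set.mem_ofPred_eq, hl, weaklyRegular_iff_chart f hV hU e F x hx l]
  exact ⟨fun h => ⟨hfl, h⟩, fun h => h.2⟩

end Groth.Agent.FibCodepth
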