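import Groth.Agent.FibCodepth.GenAss
import Groth.Agent.FibCodepth.CompHull
import Groth.Agent.AssSch.Basic

/-!
# Torsion and torsion-free modules on locally integral fibres
-/

set_option autoImplicit false
set_option linter.style.haveILetI false

universe u

open CategoryTheory Limits AlgebraicGeometry Topology TopologicalSpace
open Groth.Agent.AssSch.Stalk Groth.Agent.AssSch.Basic Groth.Agent.PullStalk.Sky

namespace Groth.Agent.FibCodepth

section Integral

variable {T : Scheme.{u}} (M : T.Modules) [M.IsQuasicoherent]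

/-- Below a point with integral local ring lies exactly one maximal point, cut out by the sections whose
germ at the point vanishes. -/
theorem exists_top_below {V : T.Opens} (hV : IsAffineOpen V) (x : T) (hx : x ∈ V)
    [IsDomain (T.presheaf.stalk x)] :
    ∃ (z : T) (hz : z ∈ V), z ⤳ x ∧ (∀ w, w ⤳ x → z ⤳ w) ∧
      ∀ a, a ∈ primeOf hV z hz ↔ T.presheaf.germ V x hx a = 0 := by
  set φ := (T.presheaf.germ V x hx).hom
  haveI : (RingHom.ker φ).IsPrime := RingHom.ker_isPrime φ
  obtain ⟨z, hz, hzK⟩ := exists_point hV (RingHom.ker φ)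
  refine ⟨z, hz, (primeOf_le_iff hV z x hz hx).1 ?_, fun w hw => ?_, fun a => by rw [hzK]; exact RingHom.mem_ker⟩
  · rw [hzK]
    intro a ha
    by_contra h
    exact not_isUnit_zero ((RingHom.mem_ker.1 ha) ▸ (isUnit_germ_iff hV x hx a).2 h)
  · have hwV := hw.mem_open V.2 hx
    refine (primeOf_le_iff hV z w hz hwV).1 ?_
    rw [hzK]
    intro a ha
    letI : Algebra Γ(T, V) (T.presheaf.stalk x) := φ.toAlgebra
    haveI : IsLocalization.AtPrime (T.presheaf.stalk x) (primeOf hV x hx) := hV.isLocalization_stalk ⟨x, hx⟩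
    obtain ⟨h, hh⟩ := (IsLocalization.map_eq_zero_iff (primeOf hV x hx).primeCompl (T.presheaf.stalk x) a).1
      (RingHom.mem_ker.1 ha)
    refine (((hV.primeIdealOf ⟨w, hwV⟩).isPrime.mem_or_mem (hh ▸ Ideal.zero_mem _)).resolve_left fun h' => ?_)
    exact h.2 ((primeOf_le_iff hV w x hwV hx).2 hw h')

variable {M} in
theorem torsion_eq_bot_iff_forall_ass [IsLocallyNoetherian T] (hint : ∀ x : T, IsDomain (T.presheaf.stalk x)) :
    (∀ x : T, Submodule.torsion (T.presheaf.stalk x) (M.presheaf.stalk x) = ⊥) ↔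
      ∀ z ∈ _root_.AssSch.Ass M, ∀ w : T, w ⤳ z → w = z := by
  constructor
  · intro h z hz w hw
    obtain ⟨V, hV, hzV⟩ := exists_affine z
    haveI := hint z
    obtain ⟨v, hv, hvz, hgen, hker⟩ := exists_top_below hV z hzV
    suffices hvz' : v = z by exact (hw.antisymm (hvz' ▸ hgen w hw)).eq
    by_contra hne
    have hnle : ¬ primeOf hV z hzV ≤ primeOf hV v hv := fun hle =>
      hne (eq_of_primeOf_eq hV hv hzV (le_antisymm ((primeOf_le_iff hV v z hv hzV).2 hvz) hle))
    obtain ⟨a, haz, hav⟩ := SetLike.not_le_iff_exists.1 hnle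
    obtain ⟨hmax, t, ht⟩ := hz
    set b := T.presheaf.germ V z hzV a
    have hb : b ∈ IsLocalRing.maximalIdeal (T.presheaf.stalk z) := fun hu => (isUnit_germ_iff hV z hzV a).1 hu haz
    rw [ht] at hb
    obtain ⟨n, hn⟩ := hb
    rw [Submodule.mem_colon_singleton, Submodule.mem_bot] at hn
    have hb0 : b ≠ 0 := fun h0 => hav ((hker a).2 h0)
    have htt : t ∈ Submodule.torsion (T.presheaf.stalk z) (M.presheaf.stalk z) :=
      (Submodule.mem_torsion_iff t).2 ⟨⟨b ^ n, mem_nonZeroDivisors_of_ne_zero (pow_ne_zero n hb0)⟩, hn⟩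
    rw [h z, Submodule.mem_bot] at htt
    refine hmax.ne_top ?_
    rw [ht, htt]
    simp
  · intro h x
    obtain ⟨V, hV, hxV⟩ := exists_affine x
    haveI := hint x
    haveI := isNoetherianRing_of_isAffineOpen hV
    rw [eq_bot_iff]
    intro t ht
    rw [Submodule.mem_bot]
    obtain ⟨⟨a, ha⟩, hat⟩ := (Submodule.mem_torsion_iff t).1 ht
    obtain ⟨g, s, hg, hgs⟩ := exists_germ_smul_eq M hV x hxV t
    letI : Algebra Γ(T, V) (T.presheaf.stalk x) := (T.presheaf.germ V x hxV).hom.toAlgebra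
    haveI : IsLocalization.AtPrime (T.presheaf.stalk x) (primeOf hV x hxV) := hV.isLocalization_stalk ⟨x, hxV⟩
    obtain ⟨⟨b, c⟩, hbc⟩ := IsLocalization.surj (primeOf hV x hxV).primeCompl a
    have hb0 : T.presheaf.germ V x hxV b ≠ 0 := fun h0 => by
      refine nonZeroDivisors.ne_zero ha ?_
      refine ((IsLocalization.map_units (T.presheaf.stalk x) c).mul_left_eq_zero).1 ?_
      exact hbc.trans h0
    have hbs : germM M V x hxV (b • s) = 0 := by
      rw [germM_smul, ← hgs]
      have : T.presheaf.germ V x hxV b = a * algebraMap Γ(T, V) (T.presheaf.stalk x) c := hbc.symm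
      rw [this, smul_smul, mul_comm a, mul_assoc, mul_comm a, ← mul_assoc, mul_smul,
        show a • t = 0 from hat, smul_zero]
    obtain ⟨k, hk, hkbs⟩ := (germM_eq_zero_iff M hV x hxV _).1 hbs
    by_contra ht0
    have hne : germM M V x hxV s ≠ 0 := fun h0 =>
      ht0 (((isUnit_germ_iff hV x hxV g).2 hg).smul_eq_zero.mp (hgs.trans h0))
    have hle : (⊥ : Submodule Γ(T, V) Γ(M, V)).colon {s} ≤ primeOf hV x hxV := by
      intro d hd
      by_contra hdn
      rw [Submodule.mem_colon_singleton, Submodule.mem_bot] at hd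
      exact hne ((germM_eq_zero_iff M hV x hxV s).2 ⟨d, hdn, hd⟩)
    obtain ⟨P, hP, hPle⟩ := Ideal.exists_minimalPrimes_le hle
    haveI := hP.1.1
    have hmem : k * b ∈ P := hP.1.2 (by rw [Submodule.mem_colon_singleton, Submodule.mem_bot, mul_smul]; exact hkbs)
    obtain ⟨y, hy⟩ := Submodule.exists_eq_colon_of_mem_minimalPrimes (x := s) hP
    obtain ⟨z, hz, rfl⟩ := exists_point hV P
    have hass : z ∈ _root_.AssSch.Ass M :=
      (mem_ass_iff M hV z hz).2 (isAssociatedPrime_iff.2 ⟨hP.1.1, y, hy⟩)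
    have hzx : z ⤳ x := (primeOf_le_iff hV z x hz hxV).1 hPle
    obtain ⟨v, hv, hvx, hgen, hker⟩ := exists_top_below hV x hxV
    obtain rfl := h z hass v (hgen z hzx)
    exact hb0 ((hker b).1 (((hV.primeIdealOf ⟨v, hz⟩).isPrime.mem_or_mem hmem).resolve_left
      fun hk' => hk (hPle hk')))

variable {M} in
theorem torsion_eq_top_iff_forall_top (hint : ∀ x : T, IsDomain (T.presheaf.stalk x)) :
    (∀ x : T, Submodule.torsion (T.presheaf.stalk x) (M.presheaf.stalk x) = ⊤) ↔
      ∀ z : T, (∀ w : T, w ⤳ z → w = z) → Subsingleton (M.presheaf.stalk z) := by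
  constructor
  · intro h z hz
    haveI := hint z
    obtain ⟨V, hV, hzV⟩ := exists_affine z
    obtain ⟨v, hv, hvz, hgen, hker⟩ := exists_top_below hV z hzV
    obtain rfl := hz v hvz
    refine subsingleton_of_forall_eq 0 fun t => ?_
    have ht : t ∈ Submodule.torsion (T.presheaf.stalk v) (M.presheaf.stalk v) := h v ▸ Submodule.mem_top
    obtain ⟨⟨a, ha⟩, hat⟩ := (Submodule.mem_torsion_iff t).1 ht
    letI : Algebra Γ(T, V) (T.presheaf.stalk v) := (T.presheaf.germ V v hzV).hom.toAlgebra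
    haveI : IsLocalization.AtPrime (T.presheaf.stalk v) (primeOf hV v hzV) := hV.isLocalization_stalk ⟨v, hzV⟩
    obtain ⟨⟨b, c⟩, hbc⟩ := IsLocalization.surj (primeOf hV v hzV).primeCompl a
    have hu : IsUnit (T.presheaf.germ V v hzV b) := (isUnit_germ_iff hV v hzV b).2 fun hb => by
      refine nonZeroDivisors.ne_zero ha ?_
      refine ((IsLocalization.map_units (T.presheaf.stalk v) c).mul_left_eq_zero).1 ?_
      exact hbc.trans ((hker b).1 hb)
    have hua : IsUnit a := isUnit_of_mul_isUnit_left (hbc ▸ hu)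
    exact hua.smul_eq_zero.1 hat
  · intro h x
    haveI := hint x
    rw [eq_top_iff]
    rintro t -
    obtain ⟨V, hV, hxV⟩ := exists_affine x
    obtain ⟨v, hv, hvx, hgen, hker⟩ := exists_top_below hV x hxV
    obtain ⟨g, s, hg, hgs⟩ := exists_germ_smul_eq M hV x hxV t
    haveI := h v fun w hw => (hw.antisymm (hgen w (hw.trans hvx))).eq
    obtain ⟨b, hb, hbs⟩ := (germM_eq_zero_iff M hV v hv s).1 (Subsingleton.elim _ _)
    refine (Submodule.mem_torsion_iff t).2 ⟨⟨T.presheaf.germ V x hxV b * T.presheaf.germ V x hxV g,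
      mem_nonZeroDivisors_of_ne_zero (mul_ne_zero (fun h0 => hb ((hker b).2 h0))
        ((isUnit_germ_iff hV x hxV g).2 hg).ne_zero)⟩, ?_⟩
    show (T.presheaf.germ V x hxV b * T.presheaf.germ V x hxV g) • t = 0
    rw [mul_smul, hgs, ← germM_smul, hbs]
    exact germM_zero M x hxV

end Integral

variable {X S : Scheme.{u}} (f : X ⟶ S) [LocallyOfFinitePresentation f]

omit [LocallyOfFinitePresentation f] in
/-- The union of the components of dimension `j` of the fibres, as seen on a fibre. -/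
theorem mem_onComp_iff (j : ℕ) {s : S} (z : ↥(f.fiber s)) :
    f.fiberι s z ∈ {x : X | ∃ w : ↥(f.fiber (f.base x)), IsTopIn f Set.univ w ∧ w ⤳ f.asFiber x ∧
      topologicalKrullDim ↥(closure ({w} : Set ↥(f.fiber (f.base x)))) = (j : WithBot ℕ∞)} ↔
    ∃ w : ↥(f.fiber s), IsTopIn f Set.univ w ∧ w ⤳ z ∧
      topologicalKrullDim ↥(closure ({w} : Set ↥(f.fiber s))) = (j : WithBot ℕ∞) := by
  show (∃ w : ↥(f.fiber (f.base (f.fiberι s z))), _) ↔ _
  generalize hx : f.fiberι s z = x
  obtain rfl : f x = s := hx ▸ fiber_fiberι f s z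
  obtain rfl : z = f.asFiber x := (f.fiberι (f x)).isEmbedding.injective (hx.trans (f.fiberι_asFiber x).symm)
  exact Iff.rfl

omit [LocallyOfFinitePresentation f] in
/-- A point is maximal in its fibre iff it lies on a component of its own dimension. -/
theorem forall_eq_iff_exists_top {s : S} {z : ↥(f.fiber s)} {d : ℕ}
    (hd : topologicalKrullDim ↥(closure ({z} : Set ↥(f.fiber s))) = (d : WithBot ℕ∞)) :
    (∀ w : ↥(f.fiber s), w ⤳ z → w = z) ↔ ∃ w : ↥(f.fiber s), IsTopIn f Set.univ w ∧ w ⤳ z ∧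
      topologicalKrullDim ↥(closure ({w} : Set ↥(f.fiber s))) = (d : WithBot ℕ∞) := by
  constructor
  · intro h
    exact ⟨z, ⟨trivial, fun w _ hw => h w hw⟩, specializes_rfl, hd⟩
  · rintro ⟨v, hv, hvz, hvd⟩ w hw
    obtain rfl : z = v := by
      by_contra hne
      have := CohDev.dim_closure_lt hvz.mem_closure hne hvd.le
      exact this.ne hd
    exact hv.2 w trivial hw

/-- The base points over which some associated point of the fibre is not maximal. -/
theorem isLocallyConstructible_ass_top [QuasiCompact f] (F : X.Modules) (hF : CohB1.IsFP F) :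
    IsLocallyConstructible {s : S | ∀ z ∈ _root_.AssSch.Ass ((Scheme.Modules.pullback (f.fiberι s)).obj F),
      ∀ w : ↥(f.fiber s), w ⤳ z → w = z} := by
  let C : ℕ → Set X := fun j => {x : X | ∃ w : ↥(f.fiber (f.base x)), IsTopIn f Set.univ w ∧ w ⤳ f.asFiber x ∧
      topologicalKrullDim ↥(closure ({w} : Set ↥(f.fiber (f.base x)))) = (j : WithBot ℕ∞)}
  let P : ℕ → Set S := fun d => {s : S | ∃ w : ↥(f.fiber s), IsTopIn f (rdLocus f F d ∩ (C d)ᶜ) w ∧
      topologicalKrullDim ↥(closure ({w} : Set ↥(f.fiber s))) = (d : WithBot ℕ∞)}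
  have h := isLocallyConstructible_level P (fun d => isLocallyConstructible_exists_topIn f
    ((isLocallyConstructible_rdLocus f F hF d).inter
      (LimTop.isLocallyConstructible_compl (isLocallyConstructible_onComp f d))) d) (fun s₀ => by
      obtain ⟨V, N, hs₀, hN⟩ := exists_nhd_bound f s₀
      exact ⟨V, N, V.2, hs₀, fun s hs j ⟨w, _, hdim⟩ => hN s hs w j hdim⟩) ∅
  convert h using 1
  ext s
  rw [Set.mem_ofPred_eq, Set.mem_ofPred_eq, Set.eq_empty_iff_forall_notMem]
  constructor
  · rintro hs d ⟨w, hw, hd⟩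
    exact hw.1.2 ((mem_onComp_iff f d w).2 ((forall_eq_iff_exists_top f hd).1
      (hs w ((mem_ass_and_dim_iff f F hF).2 ⟨(hasRd_iff f F d s w).2 hw.1.1, hd⟩).1)))
  · intro hs z hz
    obtain ⟨d, hd⟩ := exists_dim_closure f s z
    by_contra hzE
    have hr := ((mem_ass_and_dim_iff f F hF).1 ⟨hz, hd⟩).1
    refine hs d ⟨z, ⟨⟨(hasRd_iff f F d s z).1 hr, fun hC => hzE
        ((forall_eq_iff_exists_top f hd).2 ((mem_onComp_iff f d z).1 hC))⟩,
      fun w hw hsp => by_contra fun hne => ?_⟩, hd⟩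
    obtain ⟨n, hn⟩ := exists_dim_closure f s w
    have h1 := dim_le_of_hasRd f F ((hasRd_iff f F d s w).2 hw.1)
    have h2 := CohDev.dim_closure_lt hsp.mem_closure (fun h => hne h.symm) hn.le
    rw [hd, ← hn] at h2
    exact h1.not_gt h2

/-- The base points over which the fibre module vanishes at all maximal points. -/
theorem isLocallyConstructible_top_subsingleton [QuasiCompact f] (F : X.Modules) (hF : CohB1.IsFP F) :
    IsLocallyConstructible {s : S | ∀ z : ↥(f.fiber s), (∀ w : ↥(f.fiber s), w ⤳ z → w = z) →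
      Subsingleton (((Scheme.Modules.pullback (f.fiberι s)).obj F).presheaf.stalk z)} := by
  let C : ℕ → Set X := fun j => {x : X | ∃ w : ↥(f.fiber (f.base x)), IsTopIn f Set.univ w ∧ w ⤳ f.asFiber x ∧
      topologicalKrullDim ↥(closure ({w} : Set ↥(f.fiber (f.base x)))) = (j : WithBot ℕ∞)}
  let P : ℕ → Set S := fun d => {s : S | ∃ w : ↥(f.fiber s), IsTopIn f (rdLocus f F d ∩ C d) w ∧
      topologicalKrullDim ↥(closure ({w} : Set ↥(f.fiber s))) = (d : WithBot ℕ∞)}
  have h := isLocallyConstructible_level P (fun d => isLocallyConstructible_exists_topIn f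
    ((isLocallyConstructible_rdLocus f F hF d).inter (isLocallyConstructible_onComp f d)) d) (fun s₀ => by
      obtain ⟨V, N, hs₀, hN⟩ := exists_nhd_bound f s₀
      exact ⟨V, N, V.2, hs₀, fun s hs j ⟨w, _, hdim⟩ => hN s hs w j hdim⟩) ∅
  convert h using 1
  ext s
  rw [Set.mem_ofPred_eq, Set.mem_ofPred_eq, Set.eq_empty_iff_forall_notMem]
  constructor
  · rintro hs d ⟨w, hw, hd⟩
    haveI := hs w ((forall_eq_iff_exists_top f hd).2 ((mem_onComp_iff f d w).1 hw.1.2))
    exact not_subsingleton_iff_nontrivial.2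
      (mem_suppFib_of_mem_ass ((mem_ass_and_dim_iff f F hF).2 ⟨(hasRd_iff f F d s w).2 hw.1.1, hd⟩).1) this
  · intro hs z hz
    obtain ⟨d, hd⟩ := exists_dim_closure f s z
    by_contra hzE
    rw [not_subsingleton_iff_nontrivial] at hzE
    have hass := mem_ass_of_isGenSupp f F hF (ξ := z) ⟨hzE, fun w _ hw => hz w hw⟩
    exact hs d ⟨z, ⟨⟨(hasRd_iff f F d s z).1 ((mem_ass_and_dim_iff f F hF).1 ⟨hass, hd⟩).1,
        (mem_onComp_iff f d z).2 ((forall_eq_iff_exists_top f hd).1 hz)⟩,
      fun w _ hsp => hz w hsp⟩, hd⟩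

end Groth.Agent.FibCodepth
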