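import Groth.Agent.FibCodepth.GenTop

/-!
# Associated points of the fibres near the generic point of the base
-/

set_option autoImplicit false
set_option linter.style.haveILetI false

universe u

open CategoryTheory Limits AlgebraicGeometry Topology TopologicalSpace

namespace Groth.Agent.FibCodepth

variable {X S : Scheme.{u}} (f : X ⟶ S) (F : X.Modules)

/-- The depth of the fibre module at a point of a fibre. -/
noncomputable def fibDepth {s : S} (w : ↥(f.fiber s)) : ℕ∞ :=
  LocCoh.depth ((f.fiber s).presheaf.stalk w)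
    (((Scheme.Modules.pullback (f.fiberι s)).obj F).presheaf.stalk w)

/-- A point of the support of the fibre module of rectified depth `d`. -/
def HasRd (d : ℕ) {s : S} (w : ↥(f.fiber s)) : Prop :=
  w ∈ suppFib f F s ∧ ((fibDepth f F w : ℕ∞) : WithBot ℕ∞) +
    topologicalKrullDim ↥(closure ({w} : Set ↥(f.fiber s))) = (d : WithBot ℕ∞)

/-- The union of the loci of rectified depth `d` of the fibres. -/
def rdLocus (d : ℕ) : Set X := {x : X | HasRd f F d (f.asFiber x)}

theorem hasRd_iff (d : ℕ) (s : S) (w : ↥(f.fiber s)) : HasRd f F d w ↔ f.fiberι s w ∈ rdLocus f F d := by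
  show _ ↔ HasRd f F d (f.asFiber (f.fiberι s w))
  generalize hx : f.fiberι s w = x
  obtain rfl : f x = s := hx ▸ fiber_fiberι f s w
  obtain rfl : w = f.asFiber x := (f.fiberι (f x)).isEmbedding.injective (hx.trans (f.fiberι_asFiber x).symm)
  exact Iff.rfl

variable [LocallyOfFinitePresentation f]

theorem mem_ass_iff_depth (hF : CohB1.IsFP F) (s : S) (w : ↥(f.fiber s)) :
    w ∈ AssSch.Ass ((Scheme.Modules.pullback (f.fiberι s)).obj F) ↔
      w ∈ suppFib f F s ∧ fibDepth f F w = 0 := by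
  obtain ⟨x, hx⟩ : ∃ x, f.fiberι s w = x := ⟨_, rfl⟩
  obtain rfl : f x = s := hx ▸ fiber_fiberι f s w
  obtain rfl : w = f.asFiber x := (f.fiberι (f x)).isEmbedding.injective (hx.trans (f.fiberι_asFiber x).symm)
  obtain ⟨h1, h2⟩ := finite_fibre_stalk f F hF x
  refine (isAssociatedPrime_maximalIdeal_iff (R := (f.fiber (f.base x)).presheaf.stalk (f.asFiber x))).trans ?_
  refine and_congr_left' ?_
  rw [Ne, Module.supportDim_eq_bot_iff_subsingleton, not_subsingleton_iff_nontrivial]
  rfl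

theorem dim_le_of_hasRd {d : ℕ} {s : S} {w : ↥(f.fiber s)} (h : HasRd f F d w) :
    topologicalKrullDim ↥(closure ({w} : Set ↥(f.fiber s))) ≤ (d : WithBot ℕ∞) := by
  obtain ⟨n, hn⟩ := exists_dim_closure f s w
  have h2 := h.2
  rw [hn] at h2 ⊢
  generalize fibDepth f F w = D at h2
  induction D with
  | top => rw [show (n : WithBot ℕ∞) = ((n : ℕ∞) : WithBot ℕ∞) from rfl, ← WithBot.coe_add, top_add,
      show (d : WithBot ℕ∞) = ((d : ℕ∞) : WithBot ℕ∞) from rfl, WithBot.coe_inj] at h2
           exact absurd h2.symm (ENat.natCast_ne_top d)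
  | coe a =>
    have h3 : a + n = d := by exact_mod_cast h2
    exact Nat.cast_le.2 (by omega)

theorem mem_ass_and_dim_iff (hF : CohB1.IsFP F) {d : ℕ} {s : S} {w : ↥(f.fiber s)} :
    (w ∈ AssSch.Ass ((Scheme.Modules.pullback (f.fiberι s)).obj F) ∧
      topologicalKrullDim ↥(closure ({w} : Set ↥(f.fiber s))) = (d : WithBot ℕ∞)) ↔
    (HasRd f F d w ∧ topologicalKrullDim ↥(closure ({w} : Set ↥(f.fiber s))) = (d : WithBot ℕ∞)) := by
  refine and_congr_left fun hd => ?_
  rw [mem_ass_iff_depth f F hF, HasRd, hd]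
  refine and_congr_right fun _ => ?_
  generalize fibDepth f F w = D
  induction D with
  | top =>
    rw [show (d : WithBot ℕ∞) = ((d : ℕ∞) : WithBot ℕ∞) from rfl, ← WithBot.coe_add, top_add, WithBot.coe_inj]
    simp
  | coe a => norm_cast; omega

theorem isLocallyConstructible_rdLocus (hF : CohB1.IsFP F) (d : ℕ) :
    IsLocallyConstructible (rdLocus f F d) :=
  (isLocallyConstructible_suppFib f F hF).inter (isLocallyConstructible_rectifiedDepth_eq f F hF (d : ℕ∞))

omit [LocallyOfFinitePresentation f] in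
theorem mem_closure_of_specializes {s : S} {x : X} {w w' : ↥(f.fiber s)} (h : w' ⤳ w)
    (hw : f.fiberι s w' ∈ closure ({x} : Set X)) : f.fiberι s w ∈ closure ({x} : Set X) :=
  (h.map (f.fiberι s).continuous).mem_closed isClosed_closure hw

/-- Below a point of a closed set there is a top point of its trace on the fibre. -/
theorem exists_isTopIn_specializes {W : Set X} {s : S} {N : ℕ}
    (hN : ∀ (w : ↥(f.fiber s)) (j : ℕ), topologicalKrullDim ↥(closure ({w} : Set ↥(f.fiber s))) = (j : WithBot ℕ∞) → j ≤ N)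
    {w : ↥(f.fiber s)} (hw : f.fiberι s w ∈ W) : ∃ v, IsTopIn f W v ∧ v ⤳ w := by
  classical
  let P : ℕ → Prop := fun j => ∃ v : ↥(f.fiber s), f.fiberι s v ∈ W ∧ v ⤳ w ∧
    topologicalKrullDim ↥(closure ({v} : Set ↥(f.fiber s))) = (j : WithBot ℕ∞)
  obtain ⟨j₀, hj₀⟩ := exists_dim_closure f s w
  have hP : P (Nat.findGreatest P N) := Nat.findGreatest_spec (hN w j₀ hj₀) ⟨w, hw, specializes_rfl, hj₀⟩
  obtain ⟨v, hvW, hvw, hv⟩ := hP
  refine ⟨v, ⟨hvW, fun v' hv'W hsp => by_contra fun hne => ?_⟩, hvw⟩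
  obtain ⟨j', hj'⟩ := exists_dim_closure f s v'
  have hlt := CohDev.dim_closure_lt hsp.mem_closure (fun h => hne h.symm) hj'.le
  rw [hv, Nat.cast_lt] at hlt
  have := Nat.le_findGreatest (P := P) (hN v' j' hj') ⟨v', hv'W, hsp.trans hvw, hj'⟩
  omega

variable [AlgebraicGeometry.IsNoetherian S] [IrreducibleSpace S] [QuasiCompact f]

/-- Near the generic point the top points of a closure stay in any locally constructible set containing
the point. -/
theorem exists_nhd_topIn_mem (x : ↥(f.fiber (genericPoint S))) {Z : Set X} (hZ : IsLocallyConstructible Z)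
    (hx : f.fiberι (genericPoint S) x ∈ Z) :
    ∃ U : S.Opens, genericPoint S ∈ U ∧ ∀ s ∈ U, ∀ w : ↥(f.fiber s),
      IsTopIn f (closure {f.fiberι (genericPoint S) x}) w → f.fiberι s w ∈ Z := by
  set W := closure {f.fiberι (genericPoint S) x}
  have hWZ : IsLocallyConstructible (W ∩ Zᶜ) :=
    (isLocallyConstructible_of_isClosed f isClosed_closure).inter (LimTop.isLocallyConstructible_compl hZ)
  obtain ⟨U, hη, hU⟩ := exists_nhd_topIn_avoid f x (C := closure (W ∩ Zᶜ)) isClosed_closure (fun h => by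
    obtain ⟨q, hq, hqx⟩ := LimTop.exists_specializes_of_mem_closure
      (LimTop.isProConstructible_of_isLocallyConstructible hWZ) h
    exact hq.2 ((hqx.antisymm (specializes_iff_mem_closure.2 hq.1)).eq ▸ hx))
  exact ⟨U, hη, fun s hs w hw => by_contra fun hn => hU s hs w hw (subset_closure ⟨hw.1, hn⟩)⟩

theorem finite_ass (hF : CohB1.IsFP F) :
    (AssSch.Ass ((Scheme.Modules.pullback (f.fiberι (genericPoint S))).obj F)).Finite := by
  classical
  obtain ⟨V, N, hηV, hN⟩ := exists_nhd_bound f (genericPoint S)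
  haveI : LocallyOfFiniteType (f.fiberToSpecResidueField (genericPoint S)) :=
    MorphismProperty.of_isPullback (P := @LocallyOfFiniteType)
      (IsPullback.of_hasPullback f (S.fromSpecResidueField (genericPoint S))) inferInstance
  haveI : IsLocallyNoetherian (f.fiber (genericPoint S)) :=
    LocallyOfFiniteType.isLocallyNoetherian (f.fiberToSpecResidueField (genericPoint S))
  haveI : AlgebraicGeometry.IsNoetherian (f.fiber (genericPoint S)) := {}
  have key : ∀ d, {w : ↥(f.fiber (genericPoint S)) | HasRd f F d w ∧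
      topologicalKrullDim ↥(closure ({w} : Set ↥(f.fiber (genericPoint S)))) = (d : WithBot ℕ∞)}.Finite := by
    intro d
    set L := (f.fiberι (genericPoint S)).base ⁻¹' rdLocus f F d with hL
    haveI : QuasiSober ↥(closure L) := isClosed_closure.isClosedEmbedding_subtypeVal.quasiSober
    have hLc : IsLocallyConstructible L := by
      have h : IsLocallyConstructible (rdLocus f F d) →
          IsLocallyConstructible ((f.fiberι (genericPoint S)).base ⁻¹' rdLocus f F d) :=
        fun h => LimTop.isLocallyConstructible_preimage (f.fiberι (genericPoint S)) h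
      exact h (isLocallyConstructible_rdLocus f F hF d)
    refine Set.Finite.of_finite_image (f := fun w => closure ({w} : Set ↥(f.fiber (genericPoint S)))) ?_
      fun a _ b _ hab => ((specializes_iff_closure_subset.2 hab.ge).antisymm (specializes_iff_closure_subset.2 hab.le)).eq
    refine ((NoetherianSpace.finite_irreducibleComponents (α := ↥(closure L))).image
      (fun T => Subtype.val '' T)).subset ?_
    rintro _ ⟨w, ⟨hw, hwd⟩, rfl⟩
    have hwL : w ∈ L := (hasRd_iff f F d _ w).1 hw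
    refine ⟨closure {(⟨w, subset_closure hwL⟩ : ↥(closure L))}, ⟨isIrreducible_singleton.closure, fun T hT hsub => ?_⟩, ?_⟩
    · obtain ⟨a, ha⟩ := QuasiSober.sober hT.closure isClosed_closure
      have haw : a ⤳ (⟨w, subset_closure hwL⟩ : ↥(closure L)) := ha.specializes (subset_closure (hsub (subset_closure rfl)))
      obtain ⟨q, hq, hqa⟩ := LimTop.exists_specializes_of_mem_closure
        (LimTop.isProConstructible_of_isLocallyConstructible hLc) a.2
      have hqw : q ⤳ w := hqa.trans (haw.map continuous_subtype_val)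
      have hqeq : q = w := by
        by_contra hne
        obtain ⟨n, hn⟩ := exists_dim_closure f _ q
        have h1 := dim_le_of_hasRd f F ((hasRd_iff f F d _ q).2 hq)
        have h2 := CohDev.dim_closure_lt hqw.mem_closure (fun h => hne h.symm) hn.le
        rw [hwd, ← hn] at h2
        exact h1.not_gt h2
      have haeq : a = ⟨w, subset_closure hwL⟩ :=
        Subtype.ext (((haw.map continuous_subtype_val).antisymm (hqeq ▸ hqa)).eq)
      rw [← haeq, ha.def]
      exact subset_closure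
    · rw [IsInducing.subtypeVal.closure_eq_preimage_closure_image, Set.image_singleton]
      refine (Subtype.image_preimage_coe _ _).trans ?_
      exact Set.inter_eq_right.2 (closure_minimal (Set.singleton_subset_iff.2 (subset_closure hwL)) isClosed_closure)
  refine ((Set.finite_Iic N).biUnion fun d _ => key d).subset fun w hw => ?_
  obtain ⟨d, hd⟩ := exists_dim_closure f _ w
  exact Set.mem_biUnion (Set.mem_Iic.2 (hN _ hηV w d hd)) ((mem_ass_and_dim_iff f F hF).1 ⟨hw, hd⟩)

/-- EGA IV 9.8.3: near the generic point the associated points of the fibres are the maximal points of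
the traces of the closures of the associated points of the generic fibre. -/
theorem exists_nhd_ass (hF : CohB1.IsFP F) :
    ∃ U : S.Opens, genericPoint S ∈ U ∧ ∀ s ∈ U,
      (AssSch.Ass ((Scheme.Modules.pullback (f.fiberι s)).obj F) =
        ⋃ x ∈ AssSch.Ass ((Scheme.Modules.pullback (f.fiberι (genericPoint S))).obj F),
          {z | IsTopIn f (closure {f.fiberι (genericPoint S) x}) z}) ∧
      (∀ x ∈ AssSch.Ass ((Scheme.Modules.pullback (f.fiberι (genericPoint S))).obj F),
        ∀ x' ∈ AssSch.Ass ((Scheme.Modules.pullback (f.fiberι (genericPoint S))).obj F), x ≠ x' →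
          Disjoint {z : ↥(f.fiber s) | IsTopIn f (closure {f.fiberι (genericPoint S) x}) z}
            {z | IsTopIn f (closure {f.fiberι (genericPoint S) x'}) z}) ∧
      (∀ x ∈ AssSch.Ass ((Scheme.Modules.pullback (f.fiberι (genericPoint S))).obj F),
        ∀ z : ↥(f.fiber s), IsTopIn f (closure {f.fiberι (genericPoint S) x}) z →
          ((∀ y ∈ AssSch.Ass ((Scheme.Modules.pullback (f.fiberι s)).obj F), y ⤳ z → y = z) ↔
            (∀ y ∈ AssSch.Ass ((Scheme.Modules.pullback (f.fiberι (genericPoint S))).obj F), y ⤳ x → y = x))) := by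
  classical
  obtain ⟨V, N, hηV, hN⟩ := exists_nhd_bound f (genericPoint S)
  set η := genericPoint S
  set A := AssSch.Ass ((Scheme.Modules.pullback (f.fiberι η)).obj F)
  have hA := finite_ass f F hF
  haveI := hA.fintype
  let W : ↥(f.fiber η) → Set X := fun x => closure {f.fiberι η x}
  let dimOf : ↥(f.fiber η) → WithBot ℕ∞ := fun x => topologicalKrullDim ↥(closure ({x} : Set ↥(f.fiber η)))
  -- the three families of conditions
  have h1 : ∀ x : A, ∃ U : S.Opens, η ∈ U ∧ ∀ s ∈ U, ∀ w : ↥(f.fiber s), IsTopIn f (W x) w →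
      topologicalKrullDim ↥(closure ({w} : Set ↥(f.fiber s))) = dimOf x := fun x => exists_nhd_topIn_dim f x.1
  have h2 : ∀ x : A, ∃ U : S.Opens, η ∈ U ∧ ∀ s ∈ U, ∀ w : ↥(f.fiber s), IsTopIn f (W x) w →
      ∀ d : ℕ, dimOf x = (d : WithBot ℕ∞) → f.fiberι s w ∈ rdLocus f F d := by
    intro x
    obtain ⟨d, hd⟩ := exists_dim_closure f η x.1
    obtain ⟨U, hU1, hU2⟩ := exists_nhd_topIn_mem f x.1 (isLocallyConstructible_rdLocus f F hF d)
      ((hasRd_iff f F d η x.1).1 ((mem_ass_and_dim_iff f F hF).1 ⟨x.2, hd⟩).1)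
    refine ⟨U, hU1, fun s hs w hw d' hd' => ?_⟩
    rw [show dimOf x = _ from hd, Nat.cast_inj] at hd'
    exact hd' ▸ hU2 s hs w hw
  have h3 : ∀ p : A × A, ∃ U : S.Opens, η ∈ U ∧ (f.fiberι η p.1 ∉ W p.2 →
      ∀ s ∈ U, ∀ w : ↥(f.fiber s), IsTopIn f (W p.1) w → f.fiberι s w ∉ W p.2) := by
    intro p
    by_cases h : f.fiberι η p.1 ∈ W p.2
    · exact ⟨⊤, trivial, fun h' => absurd h h'⟩
    · obtain ⟨U, hU1, hU2⟩ := exists_nhd_topIn_avoid f p.1.1 (C := W p.2) isClosed_closure h
      exact ⟨U, hU1, fun _ => hU2⟩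
  have h4 : ∀ j : Fin (N + 1), ∃ U : S.Opens, η ∈ U ∧ ∀ s ∈ U, ∀ w : ↥(f.fiber s),
      HasRd f F j w → topologicalKrullDim ↥(closure ({w} : Set ↥(f.fiber s))) = ((j : ℕ) : WithBot ℕ∞) →
        ∃ x : A, dimOf x = ((j : ℕ) : WithBot ℕ∞) ∧ f.fiberι s w ∈ W x := by
    intro j
    let C : Set X := ⋃ x ∈ {x : A | dimOf x = ((j : ℕ) : WithBot ℕ∞)}, W x
    have hC : IsClosed C := (Set.toFinite _).isClosed_biUnion fun _ _ => isClosed_closure
    have hcons := isLocallyConstructible_exists_topIn f (Z := rdLocus f F j ∩ Cᶜ)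
      ((isLocallyConstructible_rdLocus f F hF j).inter
        (LimTop.isLocallyConstructible_compl (isLocallyConstructible_of_isClosed f hC))) j
    obtain ⟨U, hU1, hU2⟩ := exists_opens_of_mem (LimTop.isLocallyConstructible_compl hcons) (by
      rintro ⟨w, hw, hd⟩
      obtain ⟨hass, -⟩ := (mem_ass_and_dim_iff f F hF).2 ⟨(hasRd_iff f F j η w).2 hw.1.1, hd⟩
      exact hw.1.2 (Set.mem_biUnion (x := (⟨w, hass⟩ : A)) hd (subset_closure rfl)))
    refine ⟨U, hU1, fun s hs w hw hd => by_contra fun hne => hU2 hs ⟨w, ⟨⟨(hasRd_iff f F j s w).1 hw, fun hC' => ?_⟩,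
      fun w' hw' hsp => by_contra fun hne' => ?_⟩, hd⟩⟩
    · obtain ⟨x, hx, hwx⟩ := Set.mem_iUnion₂.1 hC'
      exact hne ⟨x, hx, hwx⟩
    · obtain ⟨n, hn⟩ := exists_dim_closure f s w'
      have h1 := dim_le_of_hasRd f F ((hasRd_iff f F j s w').2 hw'.1)
      have h2 := CohDev.dim_closure_lt hsp.mem_closure (fun h => hne' h.symm) hn.le
      rw [hd, ← hn] at h2
      exact h1.not_gt h2
  choose U1 hU1 hU1' using h1
  choose U2 hU2 hU2' using h2
  choose U3 hU3 hU3' using h3
  choose U4 hU4 hU4' using h4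
  let O : Set S := (V : Set S) ∩ (⋂ x, (U1 x : Set S)) ∩ (⋂ x, (U2 x : Set S)) ∩ (⋂ p, (U3 p : Set S)) ∩ ⋂ j, (U4 j : Set S)
  have hO : IsOpen O := (((V.2.inter (isOpen_iInter_of_finite fun x => (U1 x).2)).inter
    (isOpen_iInter_of_finite fun x => (U2 x).2)).inter (isOpen_iInter_of_finite fun p => (U3 p).2)).inter
    (isOpen_iInter_of_finite fun j => (U4 j).2)
  refine ⟨⟨O, hO⟩, ⟨⟨⟨⟨hηV, Set.mem_iInter.2 hU1⟩, Set.mem_iInter.2 hU2⟩, Set.mem_iInter.2 hU3⟩, Set.mem_iInter.2 hU4⟩, ?_⟩
  rintro s ⟨⟨⟨⟨hsV, hs1⟩, hs2⟩, hs3⟩, hs4⟩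
  rw [Set.mem_iInter] at hs1 hs2 hs3 hs4
  have hdisj : ∀ x x' : A, f.fiberι η x ∉ W x' → ∀ z, IsTopIn f (W x) z → f.fiberι s z ∉ W x' :=
    fun x x' h z hz => hU3' (x, x') h s (hs3 _) z hz
  have hne : ∀ x x' : A, x ≠ x' → f.fiberι η x ∉ W x' ∨ f.fiberι η x' ∉ W x := by
    intro x x' h
    by_contra hc
    push Not at hc
    exact h (Subtype.ext ((f.fiberι η).isEmbedding.injective
      ((specializes_iff_mem_closure.2 hc.2).antisymm (specializes_iff_mem_closure.2 hc.1)).eq))
  have htop_ass : ∀ (x : A) z, IsTopIn f (W x) z → z ∈ AssSch.Ass ((Scheme.Modules.pullback (f.fiberι s)).obj F) := by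
    intro x z hz
    obtain ⟨d, hd⟩ := exists_dim_closure f η x.1
    exact ((mem_ass_and_dim_iff f F hF).2
      ⟨(hasRd_iff f F d s z).2 (hU2' x s (hs2 x) z hz d hd), (hU1' x s (hs1 x) z hz).trans hd⟩).1
  have hass_top : ∀ z ∈ AssSch.Ass ((Scheme.Modules.pullback (f.fiberι s)).obj F), ∃ x : A, IsTopIn f (W x) z := by
    intro z hz
    obtain ⟨j, hj⟩ := exists_dim_closure f s z
    have hjN : j < N + 1 := Nat.lt_succ_of_le (hN s hsV z j hj)
    obtain ⟨x, hxd, hzx⟩ := hU4' ⟨j, hjN⟩ s (hs4 _) z ((mem_ass_and_dim_iff f F hF).1 ⟨hz, hj⟩).1 hj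
    obtain ⟨v, hv, hvz⟩ := exists_isTopIn_specializes f (hN s hsV) hzx
    refine ⟨x, ?_⟩
    have hvd := (hU1' x s (hs1 x) v hv).trans hxd
    by_cases hvz' : z = v
    · exact hvz' ▸ hv
    · have := CohDev.dim_closure_lt hvz.mem_closure hvz' hvd.le
      exact absurd hj this.ne
  refine ⟨?_, ?_, ?_⟩
  · ext z
    simp only [Set.mem_iUnion, Set.mem_ofPred_eq, exists_prop]
    constructor
    · intro hz
      obtain ⟨x, hx⟩ := hass_top z hz
      exact ⟨x.1, x.2, hx⟩
    · rintro ⟨x, hx, hz⟩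
      exact htop_ass ⟨x, hx⟩ z hz
  · intro x hx x' hx' hxx'
    rw [Set.disjoint_left]
    intro z hz hz'
    rcases hne ⟨x, hx⟩ ⟨x', hx'⟩ (fun h => hxx' (congrArg Subtype.val h)) with h | h
    · exact hdisj ⟨x, hx⟩ ⟨x', hx'⟩ h z hz hz'.1
    · exact hdisj ⟨x', hx'⟩ ⟨x, hx⟩ h z hz' hz.1
  · intro x hx z hz
    constructor
    · intro h y hy hyx
      by_contra hne'
      have hsub : f.fiberι η x ∈ W y := (hyx.map (f.fiberι η).continuous).mem_closure
      have hz' : f.fiberι s z ∈ W y :=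
        closure_minimal (Set.singleton_subset_iff.2 hsub) isClosed_closure hz.1
      obtain ⟨v, hv, hvz⟩ := exists_isTopIn_specializes f (hN s hsV) hz'
      obtain rfl := h v (htop_ass ⟨y, hy⟩ v hv) hvz
      have hy' : f.fiberι η y ∉ W x := fun h' => hne'
        (hyx.antisymm ((f.fiberι η).isEmbedding.specializes_iff.1 (specializes_iff_mem_closure.2 h'))).eq
      exact hdisj ⟨y, hy⟩ ⟨x, hx⟩ hy' v hv hz.1
    · intro h y hy hyz
      obtain ⟨x', hx'⟩ := hass_top y hy
      by_cases hxx' : f.fiberι η x ∈ W x'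
      · have := h x'.1 x'.2 ((f.fiberι η).isEmbedding.specializes_iff.1 (specializes_iff_mem_closure.2 hxx'))
        refine hz.2 y ?_ hyz
        have hy' := hx'.1
        simp only [W, this] at hy'
        exact hy'
      · exact absurd (mem_closure_of_specializes f hyz hx'.1) (hdisj ⟨x, hx⟩ x' hxx' z hz)

end Groth.Agent.FibCodepth
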