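import Groth.Agent.GeomLoc.Smooth
import Groth.Agent.GeomLoc.Normal
import Groth.Agent.EGA4Lib.Rk
import Groth.Agent.GeomFieldLib.CMTensor
import Groth.Agent.S0601

/-!
# Geometric `(R_k)` and geometric normality over a field, through smooth generizations
-/

set_option autoImplicit false
set_option linter.style.haveILetI false

universe u

open TensorProduct IsLocalRing

namespace Groth.Agent.FibCodepth

variable (k : Type u) [Field k] {A : Type u} [CommRing A] [Algebra k A]

/-- All generizations of height at most `n` are smooth points. -/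
def SmRk (p : Ideal A) (n : ℕ) : Prop :=
  ∀ q : PrimeSpectrum A, q.asIdeal ≤ p → q.asIdeal.height ≤ n → Algebra.IsSmoothAt k q.asIdeal

variable {k}

theorem hasRk_ringEquiv' (n : ℕ) (R S : Type u) [CommRing R] [CommRing S] (e : R ≃+* S)
    (h : LocCoh.HasRk n R) : LocCoh.HasRk n S := by
  intro Q _ hQ
  let P := Q.comap (e : R →+* S)
  let el : Localization.AtPrime P ≃+* Localization.AtPrime Q :=
    IsLocalization.ringEquivOfRingEquiv (M := P.primeCompl) (T := Q.primeCompl) _ _ e (by
      ext y
      refine ⟨fun ⟨z, hz, hzy⟩ => hzy ▸ hz, fun hy => ⟨e.symm y, ?_, e.apply_symm_apply y⟩⟩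
      show ¬ e (e.symm y) ∈ Q
      rwa [e.apply_symm_apply])
  haveI := h P ((RingEquiv.height_comap e Q).le.trans hQ)
  exact IsRegularLocalRing.of_ringEquiv el

theorem hasRk_localization' (n : ℕ) (R : Type u) [CommRing R] (h : LocCoh.HasRk n R) (q : Ideal R)
    [q.IsPrime] : LocCoh.HasRk n (Localization.AtPrime q) := by
  show EGA4.HasRkAt n R q
  rw [EGA4Lib.hasRkAt_iff]
  exact fun P _ hP => h P.asIdeal hP

theorem hasRk_of_forall_loc (n : ℕ) (R : Type u) [CommRing R]
    (h : ∀ (q : Ideal R) [q.IsPrime], LocCoh.HasRk n (Localization.AtPrime q)) : LocCoh.HasRk n R :=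
  fun q _ hq => (EGA4Lib.hasRkAt_iff n q).1 (h q) ⟨q, inferInstance⟩ le_rfl hq

section

variable [Algebra.FinitePresentation k A]

/-- Smoothness of the low generizations gives `(R_n)` over every extension of the field. -/
theorem hasRk_over_of_smRk (p : Ideal A) [p.IsPrime] (n : ℕ) (h : SmRk k p n) (K : Type u) [Field K]
    [Algebra k K] (P : Ideal (A ⊗[k] K)) [P.IsPrime] (hP : P.comap (algebraMap A (A ⊗[k] K)) = p) :
    LocCoh.HasRk n (Localization.AtPrime P) := by
  show EGA4.HasRkAt n _ P
  rw [EGA4Lib.hasRkAt_iff]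
  rintro ⟨P', hP'⟩ hle hht
  show IsRegularLocalRing (Localization.AtPrime P')
  set q := P'.comap (algebraMap A (A ⊗[k] K)) with hq
  haveI : P'.LiesOver q := ⟨rfl⟩
  haveI : IsNoetherianRing A := Algebra.FiniteType.isNoetherianRing k A
  haveI : IsNoetherianRing (K ⊗[k] A) := Algebra.FiniteType.isNoetherianRing K (K ⊗[k] A)
  haveI : IsNoetherianRing (A ⊗[k] K) :=
    isNoetherianRing_of_ringEquiv _ (Algebra.TensorProduct.comm k K A).toRingEquiv
  have hqn : q.height ≤ n := by
    refine le_trans ?_ hht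
    rw [Ideal.height_eq_height_add_of_liesOver_of_hasGoingDown q P']
    exact le_self_add
  haveI : Algebra.IsSmoothAt k q := h ⟨q, inferInstance⟩ (hP ▸ Ideal.comap_mono hle) hqn
  obtain ⟨g, hgq, hg⟩ := Algebra.IsSmoothAt.exists_notMem_smooth k q
  let B := Localization.Away g
  haveI : IsRegularRing (K ⊗[k] B) := by
    have hK : CAlg.IsGeometricallyRegular K K := fun L _ _ _ =>
      IsRegularRing.of_ringEquiv (R := L) (Algebra.TensorProduct.rid K K L).toRingEquiv.symm
    haveI : IsRegularRing (K ⊗[K] (K ⊗[k] B)) := S9408.result K K (K ⊗[k] B) hK K inferInstance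
    exact IsRegularRing.of_ringEquiv (R := K ⊗[K] (K ⊗[k] B)) (Algebra.TensorProduct.lid K (K ⊗[k] B)).toRingEquiv
  haveI : IsRegularRing (B ⊗[k] K) :=
    IsRegularRing.of_ringEquiv (Algebra.TensorProduct.comm k K B).toRingEquiv
  letI := (Algebra.TensorProduct.map (IsScalarTower.toAlgHom k A B) (AlgHom.id k K)).toRingHom.toAlgebra
  haveI : IsScalarTower A (A ⊗[k] K) (B ⊗[k] K) :=
    IsScalarTower.of_algebraMap_eq (R := A) (S := A ⊗[k] K) (A := B ⊗[k] K) fun a => by
      rw [RingHom.algebraMap_toAlgebra, Algebra.TensorProduct.algebraMap_apply]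
      simp [Algebra.TensorProduct.algebraMap_apply]
  haveI := IsLocalization.tensorProduct_tensorProduct k K (Submonoid.powers g) B
    (by ext x; simp [RingHom.algebraMap_toAlgebra])
  obtain ⟨Q, hQ, -, ⟨e⟩⟩ := GeomFieldLib.exists_localization_equiv (T := B ⊗[k] K)
    (Algebra.algebraMapSubmonoid (A ⊗[k] K) (Submonoid.powers g)) P' (by
      rw [Set.disjoint_left]
      rintro _ ⟨a, ⟨m, rfl⟩, rfl⟩ hm
      exact hgq ((inferInstance : q.IsPrime).mem_of_pow_mem m hm))
  exact GeomLoc.isRegularLocalRing_congr _ _ e.symm (IsRegularRing.isRegularLocalRing_localization Q)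

/-- `(R_n)` over all finite purely inseparable extensions makes the low generizations smooth. -/
theorem smRk_of_hasRk_over (p : Ideal A) [p.IsPrime] (n : ℕ)
    (h : ∀ (L : Type u) [Field L] [Algebra k L], Module.Finite k L → IsPurelyInseparable k L →
      ∀ (P : Ideal (A ⊗[k] L)) [P.IsPrime], P.comap (algebraMap A (A ⊗[k] L)) = p →
        LocCoh.HasRk n (Localization.AtPrime P)) :
    SmRk k p n := by
  intro q hqp hqn
  haveI : IsNoetherianRing A := Algebra.FiniteType.isNoetherianRing k A
  haveI : IsNoetherianRing (Localization.AtPrime q.asIdeal) :=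
    IsLocalization.isNoetherianRing q.asIdeal.primeCompl _ inferInstance
  refine GeomLoc.isSmoothAt_of_pi q.asIdeal fun L _ _ hf hp => ?_
  haveI := hf
  refine (GeomLoc.regular_over_iff q.asIdeal L).1 fun P' _ hP' => ?_
  obtain ⟨P, hP'P, hPprime, hP⟩ := Ideal.exists_ideal_over_prime_of_isIntegral (R := A) p P' (hP'.le.trans hqp)
  have hht : P'.height ≤ n := by
    refine le_trans ?_ hqn
    have hmono : StrictMono (PrimeSpectrum.comap (algebraMap A (A ⊗[k] L))) := fun a b hab =>
      Ideal.IsIntegral.comap_lt_comap (R := A) hab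
    have := Order.height_le_height_apply_of_strictMono _ hmono ⟨P', inferInstance⟩
    rw [← PrimeSpectrum.height_eq_orderHeight, ← PrimeSpectrum.height_eq_orderHeight] at this
    rwa [show (PrimeSpectrum.comap (algebraMap A (A ⊗[k] L)) ⟨P', inferInstance⟩).asIdeal = q.asIdeal from hP'] at this
  exact (EGA4Lib.hasRkAt_iff n P).1 (h L hf hp P hP) ⟨P', inferInstance⟩ hP'P hht

/-- Geometric normality over finite extensions is geometric `(R_1)` and `(S_2)`. -/
theorem normal_over_iff_smRk (p : Ideal A) [p.IsPrime] :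
    (∀ (L : Type u) [Field L] [Algebra k L], Module.Finite k L →
      ∀ (P : Ideal (A ⊗[k] L)) [P.IsPrime], P.comap (algebraMap A (A ⊗[k] L)) = p →
        GeomLoc.IsNormalLocal (Localization.AtPrime P)) ↔
      SmRk k p 1 ∧ LocCoh.HasSk 2 (Localization.AtPrime p) (Localization.AtPrime p) := by
  haveI : IsNoetherianRing A := Algebra.FiniteType.isNoetherianRing k A
  let Ap := Localization.AtPrime p
  haveI : IsNoetherianRing Ap := IsLocalization.isNoetherianRing p.primeCompl _ inferInstance
  constructor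
  · intro h
    refine ⟨smRk_of_hasRk_over p 1 fun L _ _ hf _ P _ hP => ?_, ?_⟩
    · haveI := hf
      haveI : IsNoetherianRing (A ⊗[k] L) := Algebra.FiniteType.isNoetherianRing A (A ⊗[k] L)
      haveI : IsNoetherianRing (Localization.AtPrime P) := IsLocalization.isNoetherianRing P.primeCompl _ inferInstance
      exact ((S0601.result _).1 fun Q _ => GeomLoc.isNormalLocal_localization _ (h L hf P hP) Q).1
    · have hn : EGA4.IsNormalRing (k ⊗[k] Ap) := (GeomLoc.normal_over_iff p k).1 (h k inferInstance)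
      have hn' : EGA4.IsNormalRing Ap := EGA4Lib.isNormalRing_of_ringEquiv (Algebra.TensorProduct.lid k Ap).toRingEquiv hn
      exact ((S0601.result Ap).1 fun Q _ => hn' Q).2
  · rintro ⟨hR, hS⟩ L _ _ hf
    haveI := hf
    refine (GeomLoc.normal_over_iff p L).2 ?_
    haveI : IsNoetherianRing (L ⊗[k] Ap) := GeomFieldLib.isNoetherianRing_tensor_finite k L Ap
    refine fun Q _ => (S0601.result (L ⊗[k] Ap)).2 ⟨?_, GeomFieldLib.hasSk_tensor_finite 2 k L Ap hS⟩ Q
    refine hasRk_ringEquiv' 1 _ _ (Algebra.TensorProduct.comm k Ap L).toRingEquiv (hasRk_of_forall_loc 1 _ ?_)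
    exact (GeomLoc.forall_over_iff p L (fun R _ => LocCoh.HasRk 1 R) (hasRk_ringEquiv' 1)
      (fun R _ hR q _ => hasRk_localization' 1 R hR q)).1 fun P _ hP => hasRk_over_of_smRk p 1 hR L P hP

end

end Groth.Agent.FibCodepth
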