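import Groth.Agent.FibCodepth.SmFib
import Groth.Agent.FibCodepth.GeomRk
import Groth.Agent.FibCodepth.Equidim

/-!
# Geometric `(R_n)` in the fibres of an algebra: openness
-/

set_option autoImplicit false
set_option linter.style.haveILetI false

universe u

open TensorProduct IsLocalRing Topology

namespace Groth.Agent.FibCodepth

variable (A : Type u) {B : Type u} [CommRing A] [CommRing B] [Algebra A B]

/-- Some generization in the fibre, of height at most `n` there, is not a smooth point of the fibre;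
the height is read off the transcendence degree and the fibre dimension. -/
def BadRk (n : ℕ) (x : PrimeSpectrum B) : Prop :=
  ∃ (c : ℕ) (z : PrimeSpectrum B), z.asIdeal ≤ x.asIdeal ∧ z.asIdeal.under A = x.asIdeal.under A ∧
    ¬ SmFib A z ∧ z ∈ RelDim.dimLeSet A B (c + n) ∧ TrdegGE A z c

variable {A}

theorem trdegGE_of_le [Algebra.FiniteType A B] {z z' : PrimeSpectrum B} (hle : z'.asIdeal ≤ z.asIdeal)
    (hp : z'.asIdeal.under A = z.asIdeal.under A) {c : ℕ} (h : TrdegGE A z c) : TrdegGE A z' c := by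
  rcases hle.lt_or_eq with hlt | he
  · exact (trdegGE_succ_of_lt hlt hp h).mono (Nat.le_succ c)
  · rwa [PrimeSpectrum.ext he]

theorem localDim_eq_height_add' {k F : Type u} [Field k] [CommRing F] [Algebra k F] [Algebra.FiniteType k F]
    (Q : PrimeSpectrum F) (r : ℕ) (hr : tdeg k Q.asIdeal = r) :
    FlatMor.localDim (PrimeSpectrum F) Q = (Q.asIdeal.height : WithBot ℕ∞) + (r : WithBot ℕ∞) := by
  rw [← IsLocalization.AtPrime.ringKrullDim_eq_height Q.asIdeal (Localization.AtPrime Q.asIdeal)]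
  exact RelDim.localDim_eq_of_equiv Q.asIdeal (RingEquiv.refl _)
    (fun c => IsScalarTower.algebraMap_apply k F Q.asIdeal.ResidueField c) r hr

theorem localDim_eq_height_add [Algebra.FiniteType A B] {p : Ideal A} [p.IsPrime]
    (Q : PrimeSpectrum (p.Fiber B)) (r : ℕ) (hr : tdeg p.ResidueField Q.asIdeal = r) :
    FlatMor.localDim (PrimeSpectrum (p.Fiber B)) Q = (Q.asIdeal.height : WithBot ℕ∞) + (r : WithBot ℕ∞) :=
  localDim_eq_height_add' Q r hr

theorem mem_dimLeSet_iff_fibre (z : PrimeSpectrum B) {p : Ideal A} [p.IsPrime] (hp : z.asIdeal.under A = p)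
    (Q : PrimeSpectrum (p.Fiber B))
    (hQ : Q.asIdeal.comap Algebra.TensorProduct.includeRight.toRingHom = z.asIdeal) (m : ℕ) :
    z ∈ RelDim.dimLeSet A B m ↔ FlatMor.localDim (PrimeSpectrum (p.Fiber B)) Q ≤ (m : WithBot ℕ∞) := by
  subst hp
  exact ⟨fun h => h Q hQ, fun h Q' hQ' => (localDim_eq_of_comap_eq Q' Q (hQ'.trans hQ.symm)).trans_le h⟩

/-- `BadRk` says that geometric `(R_n)` fails for the fibre. -/
theorem badRk_iff_not_smRk [Algebra.FiniteType A B] (n : ℕ) (x : PrimeSpectrum B) {p : Ideal A} [p.IsPrime]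
    (hp : x.asIdeal.under A = p) (Q : PrimeSpectrum (p.Fiber B))
    (hQ : Q.asIdeal.comap Algebra.TensorProduct.includeRight.toRingHom = x.asIdeal) :
    BadRk A n x ↔ ¬ SmRk p.ResidueField Q.asIdeal n := by
  constructor
  · rintro ⟨c, z, hzx, hzp, hns, hdim, ht⟩ h
    obtain ⟨Qz, hQz⟩ := exists_fibre_pt z (hzp.trans hp)
    obtain ⟨r, hcr, hr⟩ := exists_trdeg_fibre z (hzp.trans hp) Qz hQz ht
    refine hns ((smFib_iff A z (hzp.trans hp) Qz hQz).2 (h Qz (fibre_le_of_le Qz Q ((hQz.le.trans hzx).trans hQ.ge)) ?_))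
    have h1 := (localDim_eq_height_add Qz r hr).symm.trans_le ((mem_dimLeSet_iff_fibre z (hzp.trans hp) Qz hQz _).1 hdim)
    generalize Qz.asIdeal.height = h0 at h1 ⊢
    induction h0 with
    | top =>
      exfalso
      rw [show (r : WithBot ℕ∞) = ((r : ℕ∞) : WithBot ℕ∞) from rfl, ← WithBot.coe_add, top_add,
        show ((c + n : ℕ) : WithBot ℕ∞) = (((c + n : ℕ) : ℕ∞) : WithBot ℕ∞) from rfl, WithBot.coe_le_coe,
        top_le_iff] at h1
      exact ENat.natCast_ne_top _ h1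
    | coe h0 =>
      have h2 : h0 + r ≤ c + n := by exact_mod_cast h1
      exact_mod_cast (show h0 ≤ n by omega)
  · intro h
    simp only [SmRk, not_forall, exists_prop] at h
    obtain ⟨q, hqQ, hqn, hns⟩ := h
    let z : PrimeSpectrum B := ⟨q.asIdeal.comap Algebra.TensorProduct.includeRight.toRingHom, inferInstance⟩
    have hzp : z.asIdeal.under A = p :=
      congrArg PrimeSpectrum.asIdeal ((PrimeSpectrum.preimageOrderIsoFiber A B ⟨p, inferInstance⟩).symm q).2
    obtain ⟨r, hr⟩ := exists_tdeg_eq (k := p.ResidueField) q.asIdeal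
    refine ⟨r, z, hQ ▸ Ideal.comap_mono hqQ, hzp.trans hp.symm, fun hs => hns ((smFib_iff A z hzp q rfl).1 hs), ?_,
      trdegGE_of_fibre z hzp q rfl fun t ht => (Nat.cast_inj.1 (hr.symm.trans ht)).le⟩
    rw [mem_dimLeSet_iff_fibre z hzp q rfl, localDim_eq_height_add q r hr]
    generalize q.asIdeal.height = h0 at hqn
    induction h0 with
    | top => exact absurd hqn (by simp)
    | coe h0 =>
      have h2 : h0 ≤ n := by exact_mod_cast hqn
      exact_mod_cast (show h0 + r ≤ r + n by omega)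

theorem exists_assFib_le [Algebra.FiniteType A B] {x : PrimeSpectrum B} {k : ℕ} (hk : 1 ≤ k)
    (hsk : FibSk A B B x k) (z : PrimeSpectrum B) (hzx : z.asIdeal ≤ x.asIdeal)
    (hzp : z.asIdeal.under A = x.asIdeal.under A) :
    ∃ w : PrimeSpectrum B, w.asIdeal ≤ z.asIdeal ∧ w.asIdeal.under A = z.asIdeal.under A ∧ IsAssFib A B B w := by
  letI := Algebra.TensorProduct.rightAlgebra (R := A) (A := (x.asIdeal.under A).ResidueField) (B := B)
  obtain ⟨Q, hQ⟩ := exists_fibre_pt (A := A) x rfl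
  obtain ⟨Qz, hQz⟩ := exists_fibre_pt z hzp
  have hQzQ : Qz ≤ Q := fibre_le_of_le Qz Q ((hQz.le.trans hzx).trans hQ.ge)
  obtain ⟨P, hP, hPQ⟩ := Ideal.exists_minimalPrimes_le (I := (⊥ : Ideal ((x.asIdeal.under A).Fiber B)))
    (J := Qz.asIdeal) bot_le
  haveI := hP.1.1
  let P' : PrimeSpectrum ((x.asIdeal.under A).Fiber B) := ⟨P, inferInstance⟩
  let w : PrimeSpectrum B := ⟨P.comap Algebra.TensorProduct.includeRight.toRingHom, inferInstance⟩
  have hsupp : ∀ y : PrimeSpectrum B, y ∈ Module.support B B := fun y => by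
    rw [Module.mem_support_iff']
    exact ⟨1, fun a ha h => ha (by rw [smul_eq_mul, mul_one] at h; exact h ▸ y.asIdeal.zero_mem)⟩
  refine ⟨w, hQz ▸ Ideal.comap_mono hPQ, ?_, (isAssFib_iff_minimal B Q P' ((show P' ≤ Qz from hPQ).trans hQzQ) x w hQ rfl k hk hsk).2
    ⟨⟨le_trans hPQ hQzQ, hsupp _⟩, fun R _ hle => hP.2 ⟨R.isPrime, bot_le⟩ hle⟩⟩
  exact (congrArg PrimeSpectrum.asIdeal
    ((PrimeSpectrum.preimageOrderIsoFiber A B ⟨x.asIdeal.under A, inferInstance⟩).symm P').2).trans hzp.symm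

/-- EGA IV 12.1.1 (vii): geometric `(R_n)` is open among fibrewise equidimensional `(S_1)` points. -/
theorem isOpen_goodRk [Algebra.FinitePresentation A B] [Module.Flat A B] (n k : ℕ) (hk : 1 ≤ k) :
    IsOpen {x : PrimeSpectrum B | FibSk A B B x k ∧ (∃ j, AssDimsIn A B B {j} x) ∧ ¬ BadRk A n x} := by
  have hD : IsClosed {z : PrimeSpectrum B | ¬ SmFib A z} := (isOpen_smFib (A := A) (B := B)).isClosed_compl
  have h : {x : PrimeSpectrum B | FibSk A B B x k ∧ (∃ j, AssDimsIn A B B {j} x) ∧ ¬ BadRk A n x} =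
      ⋃ j, ({x | FibSk A B B x k} ∩ {x | AssDimsIn A B B {j} x}) ∩ (gset A {z | ¬ SmFib A z} (j - n))ᶜ := by
    ext x
    simp only [Set.mem_iUnion, Set.mem_inter_iff, Set.mem_ofPred_eq, Set.mem_compl_iff]
    have key : ∀ j, FibSk A B B x k → AssDimsIn A B B {j} x →
        (BadRk A n x ↔ x ∈ gset A {z | ¬ SmFib A z} (j - n)) := by
      intro j hsk hj
      rw [mem_gset_iff hD]
      have htop : ∀ w : PrimeSpectrum B, w.asIdeal ≤ x.asIdeal → w.asIdeal.under A = x.asIdeal.under A →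
          ∀ u : PrimeSpectrum B, u.asIdeal ≤ w.asIdeal → u.asIdeal.under A = w.asIdeal.under A → IsAssFib A B B u → TrdegEQ A u j := by
        intro w hwx hwp u huw hup hu
        obtain ⟨m, hm, ht⟩ := hj u (huw.trans hwx) (hup.trans hwp) hu
        rwa [Finset.mem_singleton.1 hm] at ht
      constructor
      · rintro ⟨c, z, hzx, hzp, hns, hdim, ht⟩
        refine ⟨z, hzx, hzp, hns, ht.mono ?_⟩
        by_contra hlt
        obtain ⟨u, huz, hup, hu⟩ := exists_assFib_le hk hsk z hzx hzp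
        exact (not_mem_dimLeSet_iff z (c + n)).2 ⟨u, huz, hup, (htop z hzx hzp u huz hup hu).1.mono (by omega)⟩ hdim
      · rintro ⟨z, hzx, hzp, hns, ht⟩
        refine ⟨j - n, z, hzx, hzp, hns, ?_, ht⟩
        by_contra hn
        obtain ⟨w, hwz, hwp, hw⟩ := (not_mem_dimLeSet_iff z (j - n + n)).1 hn
        obtain ⟨u, huw, hup, hu⟩ := exists_assFib_le hk hsk w (hwz.trans hzx) (hwp.trans hzp)
        exact (htop w (hwz.trans hzx) (hwp.trans hzp) u huw hup hu).2
          ((trdegGE_of_le huw hup hw).mono (by omega))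
    constructor
    · rintro ⟨hsk, ⟨j, hj⟩, hgood⟩
      exact ⟨j, ⟨hsk, hj⟩, fun hx => hgood ((key j hsk hj).2 hx)⟩
    · rintro ⟨j, ⟨hsk, hj⟩, hx⟩
      exact ⟨hsk, ⟨j, hj⟩, fun hb => hx ((key j hsk hj).1 hb)⟩
  rw [h]
  exact isOpen_iUnion fun j => ((isOpen_fibSk B k).inter (isOpen_assLoci B {j} 0).1).inter
    (isClosed_gset hD _).isOpen_compl

end Groth.Agent.FibCodepth
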