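import Groth.Agent.FibCodepth.Fibre
import Groth.Agent.CAlgA.RelSyzygy

/-!
# Openness of the locus where the fibre of a flat module has bounded projective dimension
-/

set_option autoImplicit false
set_option linter.style.haveILetI false

universe u

open TensorProduct IsLocalRing CategoryTheory

namespace Groth.Agent.FibCodepth

variable (A B : Type u) [CommRing A] [CommRing B] [Algebra A B]

/-- The points at which the fibre of `N` has projective dimension at most `e`. -/
def pdSet (N : Type u) [AddCommGroup N] [Module B N] (e : ℕ) : Set (PrimeSpectrum B) :=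
  {q | HasProjectiveDimensionLE
    (ModuleCat.of (EGA4.FibLocRing A B q.asIdeal) (EGA4.FibLocRing A B q.asIdeal ⊗[B] N)) e}

theorem isOpen_pdSet [Algebra.FinitePresentation A B] [Module.Flat A B] (e : ℕ) :
    ∀ (N : Type u) [AddCommGroup N] [Module B N] [Module A N] [IsScalarTower A B N]
      [Module.FinitePresentation B N] [Module.Flat A N], IsOpen (pdSet A B N e) := by
  induction e with
  | zero =>
    intro N _ _ _ _ _ _
    have h : pdSet A B N 0 = Module.freeLocus B N := by
      ext q
      haveI := isLocalRing_fibLocRing (A := A) q.asIdeal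
      rw [pdSet, Set.mem_ofPred_eq, RegLoc.PD.pd_zero_iff, ← free_fib_iff (A := A) q.asIdeal (N := N)]
      refine ⟨fun h => ?_, fun h => Module.Projective.of_free⟩
      haveI : Module.Flat (EGA4.FibLocRing A B q.asIdeal)
          (EGA4.FibLocRing A B q.asIdeal ⊗[B] N) := @Module.Flat.of_projective _ _ _ _ _ h
      haveI : Module.FinitePresentation (EGA4.FibLocRing A B q.asIdeal)
          (EGA4.FibLocRing A B q.asIdeal ⊗[B] N) := inferInstance
      exact Module.free_of_flat_of_isLocalRing
    rw [h]
    exact Module.isOpen_freeLocus
  | succ e ih =>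
    intro N _ _ _ _ _ _
    obtain ⟨r, p, hp, hfp⟩ := CAlgA.RelSyzygy.exists_fp_syzygy A B N
    haveI := hfp
    haveI : Module.Flat A (Fin r → B) := Module.Flat.trans A B (Fin r → B)
    haveI : Module.Flat A (LinearMap.ker p) :=
      CAlgA.RelSyzygy.flat_ker (p.restrictScalars A) hp
    have h : pdSet A B N (e + 1) = pdSet A B (LinearMap.ker p) e := by
      ext q
      exact pd_fib_shift (A := A) q.asIdeal p hp e
    rw [h]
    exact ih _

end Groth.Agent.FibCodepth
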