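import Groth.Agent.FibCodepth.PdLocus
import Groth.Agent.RelDim.CMLocus
import Groth.Agent.AuslBuchs.Basic
import Groth.Agent.Dim.Support
import Groth.Agent.TrdegDim.Basic
import Groth.Agent.Depth.CM
import Mathlib.RingTheory.RegularLocalRing.Polynomial

/-!
# The codepth of the fibres of a flat module over a polynomial algebra is semicontinuous

For `P = A[x₁..xₙ]`, a point `q` with `t = trdeg κ(q)/κ(p)` and a module `N` flat over `A`:
`dim R = n - t` for the fibre local ring `R`, `dim (R ⊗ N) = δ - t` for `δ` the fibre dimension of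
`V(ann N)`, and Auslander–Buchsbaum gives `codepth = pd + δ - n`.
-/

set_option autoImplicit false
set_option linter.style.haveILetI false

universe u

open TensorProduct IsLocalRing CategoryTheory

namespace Groth.Agent.FibCodepth

/-- The fibre of `N` at `q` has codepth at most `k`. -/
def CodepthLE (A B : Type u) [CommRing A] [CommRing B] [Algebra A B] (N : Type u) [AddCommGroup N]
    [Module B N] (q : Ideal B) [q.IsPrime] (k : ℕ) : Prop :=
  haveI := isLocalRing_fibLocRing (A := A) q
  Module.supportDim (EGA4.FibLocRing A B q) (EGA4.FibLocRing A B q ⊗[B] N) ≤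
    ((LocCoh.depth (EGA4.FibLocRing A B q) (EGA4.FibLocRing A B q ⊗[B] N) : ℕ∞) : WithBot ℕ∞) + k

theorem dim_add_trdeg_of_domain {k F : Type u} [Field k] [CommRing F] [IsDomain F] [Algebra k F]
    [Algebra.FiniteType k F] (Q : Ideal F) [Q.IsPrime] {K : Type u} [Field K] [Algebra k K]
    (e : K ≃+* Q.ResidueField)
    (he : ∀ c, e (algebraMap k K c) = algebraMap F Q.ResidueField (algebraMap k F c))
    (r : ℕ) (hr : Algebra.trdeg k K = r) :
    ringKrullDim (Localization.AtPrime Q) + (r : WithBot ℕ∞) = ringKrullDim F := by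
  have hr' : Algebra.trdeg k Q.ResidueField = r := by
    rw [← hr]
    exact (AlgEquiv.ofRingEquiv (f := e) fun c =>
      (he c).trans (IsScalarTower.algebraMap_apply k F Q.ResidueField c).symm).trdeg_eq.symm
  obtain ⟨P₀, hP₀, -, hdim⟩ := TrdegDim.exists_minimalPrime_eq Q r hr'
  have hP₀' : P₀ = ⊥ := by
    rw [IsDomain.minimalPrimes_eq_singleton_bot] at hP₀
    exact hP₀
  subst hP₀'
  rw [IsLocalization.AtPrime.ringKrullDim_eq_height Q (Localization.AtPrime Q), ← hdim,
    ringKrullDim_eq_of_ringEquiv (RingEquiv.quotientBot F)]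

theorem exists_nat_of_add_eq {x : WithBot ℕ∞} {t n : ℕ} (h : x + (t : WithBot ℕ∞) = (n : WithBot ℕ∞)) :
    ∃ m : ℕ, x = m := by
  induction x with
  | bot => simp at h
  | coe a =>
    induction a with
    | top =>
      exfalso
      rw [show (t : WithBot ℕ∞) = ((t : ℕ∞) : WithBot ℕ∞) from rfl, ← WithBot.coe_add, top_add,
        show (n : WithBot ℕ∞) = ((n : ℕ∞) : WithBot ℕ∞) from rfl, WithBot.coe_inj] at h
      exact ENat.natCast_ne_top n h.symm
    | coe m => exact ⟨m, rfl⟩

section Poly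

variable (A : Type u) [CommRing A] (n : ℕ)

local notation "P" => MvPolynomial (Fin n) A

/-- The fibre local rings of a polynomial algebra: regular, of dimension `n - trdeg`. -/
theorem regular_and_dim (q : Ideal P) [q.IsPrime] (p : Ideal A) [p.IsPrime] [q.LiesOver p]
    [Algebra p.ResidueField q.ResidueField] [IsScalarTower A p.ResidueField q.ResidueField]
    (r : ℕ) (hr : Algebra.trdeg p.ResidueField q.ResidueField = r) :
    IsRegularLocalRing (EGA4.FibLocRing A P q) ∧
      ringKrullDim (EGA4.FibLocRing A P q) + (r : WithBot ℕ∞) = (n : WithBot ℕ∞) := by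
  obtain ⟨Q, hQ⟩ := RelDim.exists_over' p q
  obtain ⟨e⟩ := RelDim.nonempty_equiv_fibLocRing p q Q.asIdeal hQ
  let E : p.Fiber P ≃ₐ[p.ResidueField] MvPolynomial (Fin n) p.ResidueField :=
    MvPolynomial.algebraTensorAlgEquiv A p.ResidueField
  haveI : IsRegularRing (p.Fiber P) := IsRegularRing.of_ringEquiv E.symm.toRingEquiv
  haveI : IsRegularLocalRing (Localization.AtPrime Q.asIdeal) :=
    IsRegularRing.isRegularLocalRing_localization Q.asIdeal
  refine ⟨IsRegularLocalRing.of_ringEquiv (R := Localization.AtPrime Q.asIdeal) e.symm, ?_⟩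
  haveI : IsDomain (p.Fiber P) := E.toRingEquiv.toMulEquiv.isDomain _
  obtain ⟨eK, heK⟩ := RelDim.exists_residueFieldEquiv p q Q.asIdeal hQ.symm
  rw [ringKrullDim_eq_of_ringEquiv e, dim_add_trdeg_of_domain Q.asIdeal eK heK r hr,
    ringKrullDim_eq_of_ringEquiv E.toRingEquiv, MvPolynomial.ringKrullDim_of_isNoetherianRing,
    ringKrullDim_eq_zero_of_field]
  simp

end Poly

section Quotient

variable {A B : Type u} [CommRing A] [CommRing B] [Algebra A B]

/-- The fibre local ring of a quotient algebra. -/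
theorem nonempty_fibLocRing_quot (J : Ideal B) (q : Ideal B) [q.IsPrime] (q' : Ideal (B ⧸ J)) [q'.IsPrime]
    (hq : q'.comap (Ideal.Quotient.mk J) = q) :
    Nonempty ((EGA4.FibLocRing A B q ⧸ J.map (algebraMap B (EGA4.FibLocRing A B q))) ≃+*
      EGA4.FibLocRing A (B ⧸ J) q') := by
  subst hq
  let L := Localization.AtPrime (q'.comap (Ideal.Quotient.mk J))
  let L' := Localization.AtPrime q'
  let g : L →+* L' := Localization.localRingHom _ q' (Ideal.Quotient.mk J) rfl
  let K := ((q'.comap (Ideal.Quotient.mk J)).comap (algebraMap A B)).map (algebraMap A L)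
  let K' := (q'.comap (algebraMap A (B ⧸ J))).map (algebraMap A L')
  have hg : ∀ b, g (algebraMap B L b) = algebraMap (B ⧸ J) L' (Ideal.Quotient.mk J b) := fun b =>
    Localization.localRingHom_to_map _ _ _ rfl b
  have hgs : Function.Surjective g := fun z => by
    obtain ⟨⟨x, ⟨s, hs⟩⟩, rfl⟩ := IsLocalization.mk'_surjective q'.primeCompl z
    obtain ⟨x, rfl⟩ := Ideal.Quotient.mk_surjective x
    obtain ⟨s, rfl⟩ := Ideal.Quotient.mk_surjective s
    exact ⟨IsLocalization.mk' L x (⟨s, hs⟩ : (q'.comap (Ideal.Quotient.mk J)).primeCompl),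
      Localization.localRingHom_mk' _ _ _ rfl _ _⟩
  have hker : RingHom.ker g = J.map (algebraMap B L) := by
    refine le_antisymm (fun z hz => ?_) (Ideal.map_le_iff_le_comap.2 fun b hb => ?_)
    · obtain ⟨⟨x, s⟩, rfl⟩ := IsLocalization.mk'_surjective (q'.comap (Ideal.Quotient.mk J)).primeCompl z
      rw [RingHom.mem_ker] at hz
      have hx : algebraMap (B ⧸ J) L' (Ideal.Quotient.mk J x) = 0 := by
        rw [← hg, ← IsLocalization.mk'_spec L x s, map_mul, hz, zero_mul]
      obtain ⟨⟨c, hc⟩, hcx⟩ := (IsLocalization.map_eq_zero_iff q'.primeCompl L' _).1 hx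
      obtain ⟨c, rfl⟩ := Ideal.Quotient.mk_surjective c
      have hcJ : c * x ∈ J := Ideal.Quotient.eq_zero_iff_mem.1 ((map_mul _ c x).trans hcx)
      exact (IsLocalization.mk'_mem_map_algebraMap_iff _ L _ _ _).2 ⟨c, hc, hcJ⟩
    · rw [Ideal.mem_comap, RingHom.mem_ker, hg, Ideal.Quotient.eq_zero_iff_mem.2 hb, map_zero]
  have hK : K.map g = K' := by
    show Ideal.map g (Ideal.map (algebraMap A L) _) = _
    rw [Ideal.map_map]
    have h1 : g.comp (algebraMap A L) = algebraMap A L' := RingHom.ext fun a => by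
      rw [RingHom.comp_apply, IsScalarTower.algebraMap_apply A B L, hg,
        IsScalarTower.algebraMap_apply A (B ⧸ J) L']
      rfl
    rw [h1, Ideal.comap_comap]
    rfl
  let ψ : (L ⧸ K) →+* (L' ⧸ K') := Ideal.quotientMap K' g (Ideal.map_le_iff_le_comap.1 hK.le)
  have hψ : Function.Surjective ψ := Ideal.quotientMap_surjective hgs
  have hψk : RingHom.ker ψ = J.map (algebraMap B (L ⧸ K)) := by
    rw [IsScalarTower.algebraMap_eq B L (L ⧸ K), ← Ideal.map_map, ← hker, Ideal.Quotient.algebraMap_eq]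
    refine le_antisymm (fun z hz => ?_) (Ideal.map_le_iff_le_comap.2 fun x hx => ?_)
    · obtain ⟨z, rfl⟩ := Ideal.Quotient.mk_surjective z
      rw [RingHom.mem_ker, Ideal.quotientMap_mk, Ideal.Quotient.eq_zero_iff_mem, ← hK,
        ← Ideal.mem_comap, Ideal.comap_map_of_surjective' g hgs, Submodule.mem_sup] at hz
      obtain ⟨a, ha, b, hb, rfl⟩ := hz
      rw [map_add, Ideal.Quotient.eq_zero_iff_mem.2 ha, zero_add]
      exact Ideal.mem_map_of_mem _ hb
    · rw [Ideal.mem_comap, RingHom.mem_ker, Ideal.quotientMap_mk, RingHom.mem_ker.1 hx, map_zero]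
  exact ⟨(Ideal.quotEquivOfEq hψk.symm).trans (RingHom.quotientKerEquivOfSurjective hψ)⟩

variable (N : Type u) [AddCommGroup N] [Module B N] [Module.Finite B N]

/-- The support of the fibre is cut out by the annihilator. -/
theorem support_fib (q : Ideal B) [q.IsPrime] :
    Module.support (EGA4.FibLocRing A B q) (EGA4.FibLocRing A B q ⊗[B] N) =
      PrimeSpectrum.zeroLocus
        ((Module.annihilator B N).map (algebraMap B (EGA4.FibLocRing A B q)) :
          Set (EGA4.FibLocRing A B q)) := by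
  rw [Dim.support_tensor B (EGA4.FibLocRing A B q) (EGA4.FibLocRing A B q) N, Module.support_eq_zeroLocus (R := B)]
  ext Q
  have h0 : Q ∈ Module.support (EGA4.FibLocRing A B q) (EGA4.FibLocRing A B q) := by
    rw [Module.mem_support_iff']
    exact ⟨1, fun c hc h => hc (by rw [smul_eq_mul, mul_one] at h; exact h ▸ Q.asIdeal.zero_mem)⟩
  simp only [Set.mem_inter_iff, Set.mem_preimage, PrimeSpectrum.mem_zeroLocus, SetLike.coe_subset_coe,
    h0, true_and, PrimeSpectrum.comap_asIdeal, Ideal.map_le_iff_le_comap]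

end Quotient

section Main

variable {A B : Type u} [CommRing A] [CommRing B] [Algebra A B]

/-- The canonical residue field algebra. -/
@[reducible] noncomputable def resAlg (p : Ideal A) [p.IsPrime] (q : Ideal B) [q.IsPrime]
    [q.LiesOver p] : Algebra p.ResidueField q.ResidueField :=
  (Ideal.ResidueField.mapₐ p q (Algebra.ofId A B) (q.over_def p)).toRingHom.toAlgebra

theorem resAlg_tower (p : Ideal A) [p.IsPrime] (q : Ideal B) [q.IsPrime] [q.LiesOver p] :
    letI := resAlg p q
    IsScalarTower A p.ResidueField q.ResidueField :=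
  letI := resAlg p q
  IsScalarTower.of_algebraMap_eq fun x =>
    ((Ideal.ResidueField.mapₐ p q (Algebra.ofId A B) (q.over_def p)).commutes x).symm

variable (A) in
/-- `z` has transcendence degree at least `c` over its image. -/
def TrdegGE (z : PrimeSpectrum B) (c : ℕ) : Prop :=
  haveI : z.asIdeal.LiesOver (z.asIdeal.under A) := ⟨rfl⟩
  letI := resAlg (z.asIdeal.under A) z.asIdeal
  ∃ t : ℕ, c ≤ t ∧ Algebra.trdeg (z.asIdeal.under A).ResidueField z.asIdeal.ResidueField = t


theorem trdeg_quot (J : Ideal B) (q : Ideal B) [q.IsPrime] (q' : Ideal (B ⧸ J)) [q'.IsPrime]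
    (hq : q'.comap (Ideal.Quotient.mk J) = q) (p : Ideal A) [p.IsPrime] [q.LiesOver p]
    [Algebra p.ResidueField q.ResidueField] [IsScalarTower A p.ResidueField q.ResidueField]
    [Algebra p.ResidueField q'.ResidueField] [IsScalarTower A p.ResidueField q'.ResidueField] :
    Algebra.trdeg p.ResidueField q'.ResidueField = Algebra.trdeg p.ResidueField q.ResidueField := by
  subst hq
  let m := Ideal.ResidueField.mapₐ (q'.comap (Ideal.Quotient.mk J)) q' (Ideal.Quotient.mkₐ A J) rfl
  have hm : ∀ b : B, m (algebraMap B (q'.comap (Ideal.Quotient.mk J)).ResidueField b) =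
      algebraMap (B ⧸ J) q'.ResidueField (Ideal.Quotient.mk J b) := fun b =>
    Ideal.ResidueField.map_algebraMap _ _ _ _ b
  have hbij : Function.Bijective m := by
    refine ⟨m.toRingHom.injective, fun z => ?_⟩
    obtain ⟨x, s, hs, rfl⟩ := IsFractionRing.div_surjective ((B ⧸ J) ⧸ q') z
    obtain ⟨x, rfl⟩ := Ideal.Quotient.mk_surjective x
    obtain ⟨s, rfl⟩ := Ideal.Quotient.mk_surjective s
    obtain ⟨x, rfl⟩ := Ideal.Quotient.mk_surjective x
    obtain ⟨s, rfl⟩ := Ideal.Quotient.mk_surjective s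
    refine ⟨algebraMap B _ x / algebraMap B _ s, ?_⟩
    rw [map_div₀, hm, hm]
    rfl
  have hc : m.toRingHom.comp (algebraMap p.ResidueField (q'.comap (Ideal.Quotient.mk J)).ResidueField) =
      algebraMap p.ResidueField q'.ResidueField := by
    refine Ideal.ResidueField.ringHom_ext (RingHom.ext fun a => ?_)
    simp only [RingHom.comp_apply]
    rw [← IsScalarTower.algebraMap_apply, ← IsScalarTower.algebraMap_apply]
    exact m.commutes a
  exact (AlgEquiv.ofRingEquiv (f := RingEquiv.ofBijective m.toRingHom hbij)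
    (fun c => RingHom.congr_fun hc c)).trdeg_eq.symm

theorem localDim_of_hasFibDim {S : Type u} [CommRing S] [Algebra A S] {q : PrimeSpectrum S} {d : ℕ}
    (hd : RelDim.HasFibDim A S q d) {p : Ideal A} [p.IsPrime] (h : q.asIdeal.under A = p)
    (Q : PrimeSpectrum (p.Fiber S))
    (hQ : Q.asIdeal.comap Algebra.TensorProduct.includeRight.toRingHom = q.asIdeal) :
    FlatMor.localDim (PrimeSpectrum (p.Fiber S)) Q = (d : WithBot ℕ∞) := by
  subst h
  exact hd Q hQ

variable (A) in
/-- The points over which the closed subscheme cut out by `J` has fibre dimension at most `a`. -/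
def quotDimSet (J : Ideal B) (a : ℕ) : Set (PrimeSpectrum B) :=
  {q | ∀ q' : PrimeSpectrum (B ⧸ J), PrimeSpectrum.comap (Ideal.Quotient.mk J) q' = q →
    q' ∈ RelDim.dimLeSet A (B ⧸ J) a}

theorem subsingleton_fib (N : Type u) [AddCommGroup N] [Module B N] [Module.Finite B N] (q : Ideal B)
    [q.IsPrime] (hsupp : (⟨q, inferInstance⟩ : PrimeSpectrum B) ∉ Module.support B N) :
    Subsingleton (EGA4.FibLocRing A B q ⊗[B] N) := by
  rw [← Module.support_eq_empty_iff (R := EGA4.FibLocRing A B q), support_fib, PrimeSpectrum.zeroLocus_empty_iff_eq_top]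
  rw [Module.support_eq_zeroLocus, PrimeSpectrum.mem_zeroLocus, SetLike.coe_subset_coe,
    SetLike.not_le_iff_exists] at hsupp
  obtain ⟨c, hcJ, hcq⟩ := hsupp
  refine Ideal.eq_top_of_isUnit_mem _ (Ideal.mem_map_of_mem _ hcJ) ?_
  rw [IsScalarTower.algebraMap_apply B (Localization.AtPrime q) (EGA4.FibLocRing A B q)]
  exact (IsLocalization.map_units (Localization.AtPrime q) (⟨c, hcq⟩ : q.primeCompl)).map _

theorem isOpen_quotDimSet [Algebra.FiniteType A B] (J : Ideal B) (a : ℕ) : IsOpen (quotDimSet A J a) := by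
  haveI : Algebra.FiniteType A (B ⧸ J) :=
    Algebra.FiniteType.of_surjective (Ideal.Quotient.mkₐ A J) Ideal.Quotient.mk_surjective
  have h : quotDimSet A J a =
      (PrimeSpectrum.comap (Ideal.Quotient.mk J) '' (RelDim.dimLeSet A (B ⧸ J) a)ᶜ)ᶜ := by
    ext q
    simp only [quotDimSet, Set.mem_ofPred_eq, Set.mem_compl_iff, Set.mem_image, not_exists, not_and,
      not_imp_not]
  rw [h, isOpen_compl_iff]
  exact (PrimeSpectrum.isClosedEmbedding_comap_of_surjective _ _ Ideal.Quotient.mk_surjective).isClosedMap _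
    (RelDim.isOpen_dimLeSet A (B ⧸ J) a).isClosed_compl

end Main

section Iff

variable {A : Type u} [CommRing A] {n : ℕ}


variable (N : Type u) [AddCommGroup N] [Module (MvPolynomial (Fin n) A) N] [Module.Finite (MvPolynomial (Fin n) A) N]

/-- The numerical invariants at a point of the support. -/
theorem exists_numbers (q : PrimeSpectrum (MvPolynomial (Fin n) A))
    (hsupp : q ∈ Module.support (MvPolynomial (Fin n) A) N) :
    haveI := isLocalRing_fibLocRing (A := A) q.asIdeal
    ∃ h s t δ : ℕ, h + t = n ∧ s + t = δ ∧ s ≤ h ∧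
      Module.supportDim (EGA4.FibLocRing A (MvPolynomial (Fin n) A) q.asIdeal)
        (EGA4.FibLocRing A (MvPolynomial (Fin n) A) q.asIdeal ⊗[MvPolynomial (Fin n) A] N) = s ∧
      (∀ a, q ∈ quotDimSet A (Module.annihilator (MvPolynomial (Fin n) A) N) a ↔ δ ≤ a) ∧
      (∀ b, q ∈ pdSet A (MvPolynomial (Fin n) A) N b ↔
        ((h - b : ℕ) : ℕ∞) ≤ LocCoh.depth (EGA4.FibLocRing A (MvPolynomial (Fin n) A) q.asIdeal)
          (EGA4.FibLocRing A (MvPolynomial (Fin n) A) q.asIdeal ⊗[MvPolynomial (Fin n) A] N)) ∧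
      ∀ c, TrdegGE A q c ↔ c ≤ t := by
  set J := Module.annihilator (MvPolynomial (Fin n) A) N
  let R := EGA4.FibLocRing A (MvPolynomial (Fin n) A) q.asIdeal
  let M := R ⊗[(MvPolynomial (Fin n) A)] N
  haveI := isLocalRing_fibLocRing (A := A) q.asIdeal
  have hJq : J ≤ q.asIdeal := by
    rw [Module.support_eq_zeroLocus] at hsupp
    exact hsupp
  let p := q.asIdeal.under A
  haveI : q.asIdeal.LiesOver p := ⟨rfl⟩
  letI := resAlg p q.asIdeal
  haveI : IsScalarTower A p.ResidueField q.asIdeal.ResidueField :=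
    IsScalarTower.of_algebraMap_eq fun x =>
      ((Ideal.ResidueField.mapₐ p q.asIdeal (Algebra.ofId A (MvPolynomial (Fin n) A)) (q.asIdeal.over_def p)).commutes x).symm
  obtain ⟨t, ht⟩ := RelDim.exists_trdeg_eq p q.asIdeal
  obtain ⟨hreg, hdimR⟩ := regular_and_dim A n q.asIdeal p t ht
  -- the point of `V(J)`
  obtain ⟨q', hq'⟩ : ∃ q' : PrimeSpectrum ((MvPolynomial (Fin n) A) ⧸ J), PrimeSpectrum.comap (Ideal.Quotient.mk J) q' = q := by
    have : q ∈ Set.range (PrimeSpectrum.comap (Ideal.Quotient.mk J)) := by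
      rw [range_comap_of_surjective _ _ Ideal.Quotient.mk_surjective, Ideal.mk_ker]
      exact hJq
    exact this
  haveI : Algebra.FiniteType A ((MvPolynomial (Fin n) A) ⧸ J) :=
    Algebra.FiniteType.of_surjective (Ideal.Quotient.mkₐ A J) Ideal.Quotient.mk_surjective
  obtain ⟨δ, hδ⟩ := RelDim.exists_hasFibDim (R := A) q'
  have hp' : q'.asIdeal.comap (algebraMap A ((MvPolynomial (Fin n) A) ⧸ J)) = p :=
    (Ideal.comap_comap (algebraMap A (MvPolynomial (Fin n) A)) (Ideal.Quotient.mk J) (I := q'.asIdeal)).symm.trans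
      (congrArg (fun Q : PrimeSpectrum (MvPolynomial (Fin n) A) => Q.asIdeal.comap (algebraMap A (MvPolynomial (Fin n) A))) hq')
  haveI : q'.asIdeal.LiesOver p := ⟨hp'.symm⟩
  letI : Algebra p.ResidueField q'.asIdeal.ResidueField :=
    (Ideal.ResidueField.mapₐ p q'.asIdeal (Algebra.ofId A ((MvPolynomial (Fin n) A) ⧸ J)) hp'.symm).toRingHom.toAlgebra
  haveI : IsScalarTower A p.ResidueField q'.asIdeal.ResidueField :=
    IsScalarTower.of_algebraMap_eq fun x =>
      ((Ideal.ResidueField.mapₐ p q'.asIdeal (Algebra.ofId A ((MvPolynomial (Fin n) A) ⧸ J)) hp'.symm).commutes x).symm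
  have ht' : Algebra.trdeg p.ResidueField q'.asIdeal.ResidueField = t := by
    rw [trdeg_quot J q.asIdeal q'.asIdeal (congrArg PrimeSpectrum.asIdeal hq') p, ht]
  obtain ⟨e⟩ := nonempty_fibLocRing_quot (A := A) J q.asIdeal q'.asIdeal (congrArg PrimeSpectrum.asIdeal hq')
  have hdimM : Module.supportDim R M + (t : WithBot ℕ∞) = (δ : WithBot ℕ∞) := by
    have h1 : Module.supportDim R M = ringKrullDim (EGA4.FibLocRing A ((MvPolynomial (Fin n) A) ⧸ J) q'.asIdeal) := by
      rw [← ringKrullDim_eq_of_ringEquiv (R := R ⧸ J.map (algebraMap _ R)) e, ringKrullDim_quotient, Module.supportDim, support_fib]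
    rw [h1]
    obtain ⟨Q', hQ'⟩ := RelDim.exists_over' p q'.asIdeal
    rw [← RelDim.localDim_eq_fibLocRing p q'.asIdeal Q' hQ' t ht']
    exact localDim_of_hasFibDim hδ hp' Q' hQ'
  have hdimset : ∀ a, q ∈ quotDimSet A J a ↔ δ ≤ a := by
    intro a
    constructor
    · intro h
      obtain ⟨Q', hQ'⟩ := RelDim.exists_over A ((MvPolynomial (Fin n) A) ⧸ J) q'
      have := h q' hq' Q' hQ'
      rw [hδ Q' hQ'] at this
      exact_mod_cast this
    · intro h q'' hq'' Q hQ
      obtain rfl : q'' = q' :=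
        PrimeSpectrum.comap_injective_of_surjective _ Ideal.Quotient.mk_surjective (hq''.trans hq'.symm)
      rw [hδ Q hQ]
      exact_mod_cast h
  haveI := hreg
  obtain ⟨h, hh⟩ : ∃ h : ℕ, ringKrullDim R = h := exists_nat_of_add_eq hdimR
  obtain ⟨s, hs⟩ : ∃ s : ℕ, Module.supportDim R M = s := exists_nat_of_add_eq hdimM
  have hsh : s ≤ h := by
    have := Module.supportDim_le_ringKrullDim R M
    rw [hs, hh] at this
    exact_mod_cast this
  rw [hh] at hdimR
  rw [hs] at hdimM
  have hhn : h + t = n := by exact_mod_cast hdimR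
  have hsδ : s + t = δ := by exact_mod_cast hdimM
  have hdepth : LocCoh.depth R R = (h : ℕ∞) := by
    have hcm : Module.supportDim R R = ((LocCoh.depth R R : ℕ∞) : WithBot ℕ∞) :=
      Depth.isCohenMacaulayModule_self R (h := Depth.isCohenMacaulayLocalRing_of_isRegularLocalRing)
    rw [Module.supportDim_self_eq_ringKrullDim, hh] at hcm
    exact_mod_cast hcm.symm
  have hAB : ∀ b, q ∈ pdSet A (MvPolynomial (Fin n) A) N b ↔ ((h - b : ℕ) : ℕ∞) ≤ LocCoh.depth R M := fun b =>
    (AuslBuchs.le_depth_iff hdepth b h M (RegLoc.Homological.pd_le_dim hh M)).symm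
  refine ⟨h, s, t, δ, hhn, hsδ, hsh, hs, hdimset, hAB, fun c => ⟨?_, fun hc => ⟨t, hc, ht⟩⟩⟩
  rintro ⟨t', hct', ht'⟩
  have := ht.symm.trans ht'
  rw [Nat.cast_inj] at this
  omega

theorem codepthLE_iff (k : ℕ) (q : PrimeSpectrum (MvPolynomial (Fin n) A)) :
    CodepthLE A (MvPolynomial (Fin n) A) N q.asIdeal k ↔ q ∉ Module.support (MvPolynomial (Fin n) A) N ∨
      ∃ a ≤ n, q ∈ quotDimSet A (Module.annihilator (MvPolynomial (Fin n) A) N) a ∧ q ∈ pdSet A (MvPolynomial (Fin n) A) N (n + k - a) := by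
  set J := Module.annihilator (MvPolynomial (Fin n) A) N
  let R := EGA4.FibLocRing A (MvPolynomial (Fin n) A) q.asIdeal
  let M := R ⊗[(MvPolynomial (Fin n) A)] N
  haveI := isLocalRing_fibLocRing (A := A) q.asIdeal
  by_cases hsupp : q ∈ Module.support (MvPolynomial (Fin n) A) N
  swap
  · refine iff_of_true ?_ (Or.inl hsupp)
    haveI : Subsingleton M := subsingleton_fib N q.asIdeal hsupp
    unfold CodepthLE
    rw [Module.supportDim_eq_bot_of_subsingleton]
    exact bot_le
  obtain ⟨h, s, t, δ, hhn, hsδ, hsh, hs, hdimset, hAB, -⟩ := exists_numbers N q hsupp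
  have hcd : CodepthLE A (MvPolynomial (Fin n) A) N q.asIdeal k ↔ ((s - k : ℕ) : ℕ∞) ≤ LocCoh.depth R M := by
    show Module.supportDim R M ≤ ((LocCoh.depth R M : ℕ∞) : WithBot ℕ∞) + k ↔ _
    rw [hs]
    generalize LocCoh.depth R M = d
    induction d with
    | top =>
      refine iff_of_true ?_ le_top
      rw [show (k : WithBot ℕ∞) = ((k : ℕ∞) : WithBot ℕ∞) from rfl, ← WithBot.coe_add, top_add,
        show (s : WithBot ℕ∞) = ((s : ℕ∞) : WithBot ℕ∞) from rfl]
      exact WithBot.coe_le_coe.2 le_top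
    | coe d =>
      rw [Nat.cast_le]
      norm_cast
      omega
  rw [hcd]
  simp only [hsupp, not_true_eq_false, false_or]
  constructor
  · intro h1
    refine ⟨δ, by omega, (hdimset δ).2 le_rfl, (hAB _).2 (le_trans ?_ h1)⟩
    exact Nat.cast_le.2 (by omega)
  · rintro ⟨a, han, ha, hb⟩
    have := (hdimset a).1 ha
    exact le_trans (Nat.cast_le.2 (by omega)) ((hAB _).1 hb)

theorem isOpen_codepthLE_poly [Module A N] [IsScalarTower A (MvPolynomial (Fin n) A) N] [Module.FinitePresentation (MvPolynomial (Fin n) A) N]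
    [Module.Flat A N] (k : ℕ) : IsOpen {q : PrimeSpectrum (MvPolynomial (Fin n) A) | CodepthLE A (MvPolynomial (Fin n) A) N q.asIdeal k} := by
  have h : {q : PrimeSpectrum (MvPolynomial (Fin n) A) | CodepthLE A (MvPolynomial (Fin n) A) N q.asIdeal k} = (Module.support (MvPolynomial (Fin n) A) N)ᶜ ∪
      ⋃ a ∈ Set.Iic n, quotDimSet A (Module.annihilator (MvPolynomial (Fin n) A) N) a ∩ pdSet A (MvPolynomial (Fin n) A) N (n + k - a) := by
    ext q
    simp only [Set.mem_ofPred_eq, codepthLE_iff, Set.mem_union, Set.mem_compl_iff, Set.mem_iUnion,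
      Set.mem_inter_iff, Set.mem_Iic, exists_prop]
  rw [h]
  refine IsOpen.union (isOpen_compl_iff.2 Module.isClosed_support) (isOpen_biUnion fun a _ => ?_)
  exact (isOpen_quotDimSet _ a).inter (isOpen_pdSet A (MvPolynomial (Fin n) A) _ N)

end Iff

end Groth.Agent.FibCodepth
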