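import Groth.Agent.FibCodepth.Poly

/-!
# Openness of the fibrewise (S_k) locus of a flat module over a polynomial algebra
-/

set_option autoImplicit false
set_option linter.style.haveILetI false

universe u

open TensorProduct IsLocalRing CategoryTheory

namespace Groth.Agent.FibCodepth

/-- `(S_k)` for the fibre stalk of `N` at `x`, stated on the generizations of `x` in its fibre. -/
def FibSk (A B : Type u) [CommRing A] [CommRing B] [Algebra A B] (N : Type u) [AddCommGroup N]
    [Module B N] (x : PrimeSpectrum B) (k : ℕ) : Prop :=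
  ∀ z : PrimeSpectrum B, z.asIdeal ≤ x.asIdeal → z.asIdeal.under A = x.asIdeal.under A →
    haveI := isLocalRing_fibLocRing (A := A) z.asIdeal
    min (k : WithBot ℕ∞)
        (Module.supportDim (EGA4.FibLocRing A B z.asIdeal) (EGA4.FibLocRing A B z.asIdeal ⊗[B] N)) ≤
      ((LocCoh.depth (EGA4.FibLocRing A B z.asIdeal) (EGA4.FibLocRing A B z.asIdeal ⊗[B] N) : ℕ∞) :
        WithBot ℕ∞)

section Generic

variable {A B : Type u} [CommRing A] [CommRing B] [Algebra A B]

/-- The transcendence degree of the residue field at a prime of an algebra over a field. -/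
noncomputable def tdeg (k : Type u) {F : Type u} [Field k] [CommRing F] [Algebra k F] (Q : Ideal F)
    [Q.IsPrime] : Cardinal.{u} :=
  Algebra.trdeg k Q.ResidueField

theorem tdeg_eq_of_equiv {k F K : Type u} [Field k] [CommRing F] [Algebra k F] [Field K] [Algebra k K]
    {Q : Ideal F} [Q.IsPrime] (e : K ≃+* Q.ResidueField)
    (he : ∀ c, e (algebraMap k K c) = algebraMap F Q.ResidueField (algebraMap k F c)) :
    tdeg k Q = Algebra.trdeg k K :=
  (AlgEquiv.ofRingEquiv (f := e) fun c =>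
    (he c).trans (IsScalarTower.algebraMap_apply k F Q.ResidueField c).symm).trdeg_eq.symm

theorem exists_top_generization {k F : Type u} [Field k] [CommRing F] [Algebra k F]
    [Algebra.FiniteType k F] (Q : Ideal F) [Q.IsPrime] (r : ℕ) (hr : tdeg k Q = r) :
    ∃ P₀ : PrimeSpectrum F, P₀.asIdeal ≤ Q ∧ ∀ t : ℕ, tdeg k P₀.asIdeal = t →
      (t : WithBot ℕ∞) = (Q.height : WithBot ℕ∞) + r := by
  obtain ⟨P₀, hP₀, hP₀Q, hdim⟩ := TrdegDim.exists_minimalPrime_eq Q r hr
  haveI := hP₀.1.1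
  exact ⟨⟨P₀, inferInstance⟩, hP₀Q, fun t ht =>
    (TrdegDim.ringKrullDim_quotient_eq P₀ t ht).symm.trans hdim⟩

theorem tdeg_le_of_le {k F : Type u} [Field k] [CommRing F] [Algebra k F] [Algebra.FiniteType k F]
    (Q P₀ : Ideal F) [Q.IsPrime] [P₀.IsPrime] (hle : P₀ ≤ Q) (r t : ℕ) (hr : tdeg k Q = r)
    (ht : tdeg k P₀ = t) : (t : WithBot ℕ∞) ≤ (Q.height : WithBot ℕ∞) + r := by
  have h := TrdegDim.ringKrullDim_quotient_le Q P₀ hle r hr
  rwa [TrdegDim.ringKrullDim_quotient_eq P₀ t ht] at h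

theorem exists_fibre_pt (z : PrimeSpectrum B) {p : Ideal A} [p.IsPrime] (hzp : z.asIdeal.under A = p) :
    ∃ Qz : PrimeSpectrum (p.Fiber B),
      Qz.asIdeal.comap Algebra.TensorProduct.includeRight.toRingHom = z.asIdeal := by
  subst hzp
  exact RelDim.exists_over A B z

theorem fibre_le_of_le {p : Ideal A} [p.IsPrime] (Q' Q : PrimeSpectrum (p.Fiber B))
    (h : Q'.asIdeal.comap Algebra.TensorProduct.includeRight.toRingHom ≤
      Q.asIdeal.comap Algebra.TensorProduct.includeRight.toRingHom) : Q' ≤ Q :=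
  (PrimeSpectrum.preimageOrderIsoFiber A B ⟨p, inferInstance⟩).symm.le_iff_le.mp h

theorem localDim_eq_of_comap_eq {p : Ideal A} [p.IsPrime] (Q' Q : PrimeSpectrum (p.Fiber B))
    (h : Q'.asIdeal.comap Algebra.TensorProduct.includeRight.toRingHom =
      Q.asIdeal.comap Algebra.TensorProduct.includeRight.toRingHom) :
    FlatMor.localDim (PrimeSpectrum (p.Fiber B)) Q' = FlatMor.localDim (PrimeSpectrum (p.Fiber B)) Q := by
  rw [(PrimeSpectrum.preimageOrderIsoFiber A B ⟨p, inferInstance⟩).symm.injective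
    (Subtype.ext (PrimeSpectrum.ext h)) (a₁ := Q') (a₂ := Q)]

theorem trdegGE_congr (z : PrimeSpectrum B) {p : Ideal A} [p.IsPrime] (hzp : z.asIdeal.under A = p) (c : ℕ) :
    haveI : z.asIdeal.LiesOver p := ⟨hzp.symm⟩
    letI := resAlg p z.asIdeal
    TrdegGE A z c ↔ ∃ t : ℕ, c ≤ t ∧ Algebra.trdeg p.ResidueField z.asIdeal.ResidueField = t := by
  subst hzp
  exact Iff.rfl

theorem trdegGE_zero [Algebra.FiniteType A B] (z : PrimeSpectrum B) : TrdegGE A z 0 := by
  haveI : z.asIdeal.LiesOver (z.asIdeal.under A) := ⟨rfl⟩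
  letI := resAlg (z.asIdeal.under A) z.asIdeal
  haveI := resAlg_tower (z.asIdeal.under A) z.asIdeal
  obtain ⟨t, ht⟩ := RelDim.exists_trdeg_eq (z.asIdeal.under A) z.asIdeal
  exact ⟨t, Nat.zero_le _, ht⟩

theorem trdegGE_of_fibre [Algebra.FiniteType A B] (z : PrimeSpectrum B) {p : Ideal A} [p.IsPrime]
    (hzp : z.asIdeal.under A = p) (Qz : PrimeSpectrum (p.Fiber B))
    (hQz : Qz.asIdeal.comap Algebra.TensorProduct.includeRight.toRingHom = z.asIdeal) {c : ℕ}
    (h : ∀ t : ℕ, tdeg p.ResidueField Qz.asIdeal = t → c ≤ t) : TrdegGE A z c := by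
  subst hzp
  haveI : z.asIdeal.LiesOver (z.asIdeal.under A) := ⟨rfl⟩
  letI := resAlg (z.asIdeal.under A) z.asIdeal
  haveI := resAlg_tower (z.asIdeal.under A) z.asIdeal
  obtain ⟨t, ht⟩ := RelDim.exists_trdeg_eq (z.asIdeal.under A) z.asIdeal
  obtain ⟨e, he⟩ := RelDim.exists_residueFieldEquiv (z.asIdeal.under A) z.asIdeal Qz.asIdeal hQz.symm
  exact ⟨t, h t ((tdeg_eq_of_equiv e he).trans ht), ht⟩

theorem exists_trdeg_fibre [Algebra.FiniteType A B] (z : PrimeSpectrum B) {p : Ideal A} [p.IsPrime]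
    (hzp : z.asIdeal.under A = p) (Qz : PrimeSpectrum (p.Fiber B))
    (hQz : Qz.asIdeal.comap Algebra.TensorProduct.includeRight.toRingHom = z.asIdeal) {c : ℕ}
    (h : TrdegGE A z c) :
    ∃ t : ℕ, c ≤ t ∧ tdeg p.ResidueField Qz.asIdeal = t := by
  subst hzp
  haveI : z.asIdeal.LiesOver (z.asIdeal.under A) := ⟨rfl⟩
  letI := resAlg (z.asIdeal.under A) z.asIdeal
  haveI := resAlg_tower (z.asIdeal.under A) z.asIdeal
  obtain ⟨t, hct, ht⟩ := h
  obtain ⟨e, he⟩ := RelDim.exists_residueFieldEquiv (z.asIdeal.under A) z.asIdeal Qz.asIdeal hQz.symm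
  exact ⟨t, hct, (tdeg_eq_of_equiv e he).trans ht⟩

theorem trdegGE_quot (J : Ideal B) (z' : PrimeSpectrum (B ⧸ J)) (c : ℕ) :
    TrdegGE A z' c ↔ TrdegGE A (PrimeSpectrum.comap (Ideal.Quotient.mk J) z') c := by
  let z := PrimeSpectrum.comap (Ideal.Quotient.mk J) z'
  let p := z.asIdeal.under A
  have hp : z'.asIdeal.under A = p := (Ideal.comap_comap (algebraMap A B) (Ideal.Quotient.mk J)).symm
  haveI : z.asIdeal.LiesOver p := ⟨rfl⟩
  haveI : z'.asIdeal.LiesOver p := ⟨hp.symm⟩
  letI := resAlg p z.asIdeal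
  haveI := resAlg_tower p z.asIdeal
  letI := resAlg p z'.asIdeal
  haveI := resAlg_tower p z'.asIdeal
  refine (trdegGE_congr z' hp c).trans (exists_congr fun t => and_congr_right fun _ => ?_)
  rw [trdeg_quot J z.asIdeal z'.asIdeal rfl p]

/-- For `c`: the local dimension of the fibre at `x` is at least `c + 1` iff some generization in the
fibre has transcendence degree at least `c + 1`. -/
theorem not_mem_dimLeSet_iff [Algebra.FiniteType A B] (x : PrimeSpectrum B) (c : ℕ) :
    x ∉ RelDim.dimLeSet A B c ↔ ∃ z : PrimeSpectrum B, z.asIdeal ≤ x.asIdeal ∧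
      z.asIdeal.under A = x.asIdeal.under A ∧ TrdegGE A z (c + 1) := by
  let p := x.asIdeal.under A
  haveI : x.asIdeal.LiesOver p := ⟨rfl⟩
  letI := resAlg p x.asIdeal
  haveI := resAlg_tower p x.asIdeal
  obtain ⟨Q, hQ⟩ := RelDim.exists_over A B x
  obtain ⟨r, hr⟩ := RelDim.exists_trdeg_eq p x.asIdeal
  obtain ⟨eK, heK⟩ := RelDim.exists_residueFieldEquiv p x.asIdeal Q.asIdeal hQ.symm
  have hr' : tdeg p.ResidueField Q.asIdeal = r := by
    rw [← hr]
    exact tdeg_eq_of_equiv eK heK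
  have hld : FlatMor.localDim (PrimeSpectrum (p.Fiber B)) Q =
      (Q.asIdeal.height : WithBot ℕ∞) + (r : WithBot ℕ∞) := by
    rw [RelDim.localDim_eq_fibLocRing p x.asIdeal Q hQ r hr]
    obtain ⟨e⟩ := RelDim.nonempty_equiv_fibLocRing p x.asIdeal Q.asIdeal hQ
    rw [ringKrullDim_eq_of_ringEquiv e,
      IsLocalization.AtPrime.ringKrullDim_eq_height Q.asIdeal (Localization.AtPrime Q.asIdeal)]
  constructor
  · intro hx
    have hgt : ¬ FlatMor.localDim (PrimeSpectrum (p.Fiber B)) Q ≤ (c : WithBot ℕ∞) := fun hle => hx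
      fun Q' hQ' => (localDim_eq_of_comap_eq Q' Q (hQ'.trans hQ.symm)).trans_le hle
    obtain ⟨P₀, hP₀Q, hdim⟩ := exists_top_generization Q.asIdeal r hr'
    let z : PrimeSpectrum B :=
      ⟨P₀.asIdeal.comap Algebra.TensorProduct.includeRight.toRingHom, inferInstance⟩
    have hzx : z.asIdeal ≤ x.asIdeal := hQ ▸ Ideal.comap_mono hP₀Q
    have hzp : z.asIdeal.under A = p := by
      exact congrArg PrimeSpectrum.asIdeal
        ((PrimeSpectrum.preimageOrderIsoFiber A B ⟨p, inferInstance⟩).symm P₀).2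
    refine ⟨z, hzx, hzp, trdegGE_of_fibre z hzp P₀ rfl fun t ht => ?_⟩
    have h2 := (hdim t ht).trans hld.symm
    rw [← h2, Nat.cast_le] at hgt
    omega
  · rintro ⟨z, hzx, hzp, hz⟩ hx
    obtain ⟨Qz, hQz⟩ := exists_fibre_pt z hzp
    have hle : Qz ≤ Q := fibre_le_of_le Qz Q ((hQz.le.trans hzx).trans hQ.ge)
    obtain ⟨t, hct, ht⟩ := exists_trdeg_fibre z hzp Qz hQz hz
    have h1 := tdeg_le_of_le Q.asIdeal Qz.asIdeal hle r t hr' ht
    rw [← hld] at h1
    have h2 := h1.trans (hx Q hQ)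
    rw [Nat.cast_le] at h2
    omega

end Generic

section Poly

variable {A : Type u} [CommRing A] {n : ℕ}
variable (N : Type u) [AddCommGroup N] [Module (MvPolynomial (Fin n) A) N]
  [Module A N] [IsScalarTower A (MvPolynomial (Fin n) A) N]
  [Module.FinitePresentation (MvPolynomial (Fin n) A) N] [Module.Flat A N]

variable (A n) in
/-- The closed set of points of dimension `> a` and projective dimension `> b`. -/
def badSet (a b : ℕ) : Set (PrimeSpectrum (MvPolynomial (Fin n) A)) :=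
  Module.support (MvPolynomial (Fin n) A) N ∩
    ((quotDimSet A (Module.annihilator (MvPolynomial (Fin n) A) N) a)ᶜ ∩
      (pdSet A (MvPolynomial (Fin n) A) N b)ᶜ)

theorem isClosed_badSet (a b : ℕ) : IsClosed (badSet A n N a b) :=
  Module.isClosed_support.inter ((isOpen_quotDimSet _ a).isClosed_compl.inter
    (isOpen_pdSet A _ b N).isClosed_compl)

omit [Module A N] [IsScalarTower A (MvPolynomial (Fin n) A) N] [Module.Flat A N] in
theorem supportDim_fib_eq_bot (z : PrimeSpectrum (MvPolynomial (Fin n) A))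
    (hsupp : z ∉ Module.support (MvPolynomial (Fin n) A) N) :
    Module.supportDim (EGA4.FibLocRing A (MvPolynomial (Fin n) A) z.asIdeal)
      (EGA4.FibLocRing A (MvPolynomial (Fin n) A) z.asIdeal ⊗[MvPolynomial (Fin n) A] N) = ⊥ := by
  haveI := subsingleton_fib (A := A) N z.asIdeal hsupp
  exact Module.supportDim_eq_bot_of_subsingleton _ _

omit [Module A N] [IsScalarTower A (MvPolynomial (Fin n) A) N] [Module.Flat A N] in
theorem not_fibSk_iff (x : PrimeSpectrum (MvPolynomial (Fin n) A)) (k : ℕ) :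
    ¬ FibSk A (MvPolynomial (Fin n) A) N x k ↔
      ∃ z : PrimeSpectrum (MvPolynomial (Fin n) A), z.asIdeal ≤ x.asIdeal ∧
        z.asIdeal.under A = x.asIdeal.under A ∧
        ∃ a ≤ n, ∃ b ≤ n, n ≤ a + b + 1 ∧ z ∈ badSet A n N a b ∧ TrdegGE A z (n - k - b) := by
  simp only [FibSk, not_forall, exists_prop]
  refine exists_congr fun z => and_congr_right fun _ => and_congr_right fun _ => ?_
  haveI := isLocalRing_fibLocRing (A := A) z.asIdeal
  let M := EGA4.FibLocRing A (MvPolynomial (Fin n) A) z.asIdeal ⊗[MvPolynomial (Fin n) A] N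
  by_cases hsupp : z ∈ Module.support (MvPolynomial (Fin n) A) N
  swap
  · refine iff_of_false ?_ fun ⟨a, _, b, _, _, hz, _⟩ => hsupp hz.1
    rw [not_not]
    refine le_trans (min_le_right _ _) ?_
    rw [supportDim_fib_eq_bot N z hsupp]
    exact bot_le
  obtain ⟨h, s, t, δ, hhn, hsδ, hsh, hs, hdimset, hAB, htr⟩ := exists_numbers N z hsupp
  rw [hs]
  have hd : ∀ m : ℕ, ((m : WithBot ℕ∞) ≤ ((LocCoh.depth (EGA4.FibLocRing A (MvPolynomial (Fin n) A) z.asIdeal) M : ℕ∞) :
      WithBot ℕ∞)) ↔ ((m : ℕ∞) ≤ LocCoh.depth (EGA4.FibLocRing A (MvPolynomial (Fin n) A) z.asIdeal) M) :=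
    fun m => WithBot.coe_le_coe
  have hmin : min (k : WithBot ℕ∞) (s : WithBot ℕ∞) = ((min k s : ℕ) : WithBot ℕ∞) := by
    rcases le_total k s with hks | hks
    · rw [min_eq_left hks, min_eq_left (by exact_mod_cast hks)]
    · rw [min_eq_right hks, min_eq_right (by exact_mod_cast hks)]
  rw [hmin, hd]
  generalize hD : LocCoh.depth (EGA4.FibLocRing A (MvPolynomial (Fin n) A) z.asIdeal) M = D at hAB ⊢
  simp only [badSet, Set.mem_inter_iff, hsupp, true_and, Set.mem_compl_iff, hdimset, htr, hAB, hD]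
  induction D with
  | top => simp
  | coe d =>
    simp only [Nat.cast_le]
    constructor
    · intro hlt
      exact ⟨δ - 1, by omega, h - d - 1, by omega, by omega, ⟨by omega, by omega⟩, by omega⟩
    · rintro ⟨a, -, b, -, hab, ⟨ha, hb⟩, ht⟩
      omega

/-- Points in the fibre of a closed set with a generization of large transcendence degree. -/
theorem exists_generization_of_mem (a b c : ℕ) (x : PrimeSpectrum (MvPolynomial (Fin n) A))
    (hx : x ∈ (if c = 0 then badSet A n N a b else badSet A n N a b ∩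
      (quotDimSet A (PrimeSpectrum.vanishingIdeal (badSet A n N a b)) (c - 1))ᶜ)) :
    ∃ z : PrimeSpectrum (MvPolynomial (Fin n) A), z.asIdeal ≤ x.asIdeal ∧
      z.asIdeal.under A = x.asIdeal.under A ∧ z ∈ badSet A n N a b ∧ TrdegGE A z c := by
  rcases Nat.eq_zero_or_pos c with rfl | hc
  · rw [if_pos rfl] at hx
    exact ⟨x, le_rfl, rfl, hx, trdegGE_zero x⟩
  · rw [if_neg hc.ne'] at hx
    set I := PrimeSpectrum.vanishingIdeal (badSet A n N a b)
    haveI : Algebra.FiniteType A (MvPolynomial (Fin n) A ⧸ I) :=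
      Algebra.FiniteType.of_surjective (Ideal.Quotient.mkₐ A I) Ideal.Quotient.mk_surjective
    obtain ⟨x', hx'x, hx'⟩ : ∃ x' : PrimeSpectrum (MvPolynomial (Fin n) A ⧸ I),
        PrimeSpectrum.comap (Ideal.Quotient.mk I) x' = x ∧
          x' ∉ RelDim.dimLeSet A (MvPolynomial (Fin n) A ⧸ I) (c - 1) := by
      have := hx.2
      simp only [quotDimSet, Set.mem_compl_iff, Set.mem_ofPred_eq, not_forall, exists_prop] at this
      exact this
    obtain ⟨z', hz', hzp', ht⟩ := (not_mem_dimLeSet_iff x' (c - 1)).1 hx'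
    refine ⟨PrimeSpectrum.comap (Ideal.Quotient.mk I) z', ?_, ?_, ?_, ?_⟩
    · rw [← hx'x]; exact Ideal.comap_mono hz'
    · rw [← hx'x]
      exact (Ideal.comap_comap _ _).trans (hzp'.trans (Ideal.comap_comap _ _).symm)
    · rw [← (isClosed_badSet N a b).closure_eq, ← PrimeSpectrum.zeroLocus_vanishingIdeal_eq_closure,
        PrimeSpectrum.mem_zeroLocus]
      intro f hf
      show Ideal.Quotient.mk I f ∈ z'.asIdeal
      rw [Ideal.Quotient.eq_zero_iff_mem.2 hf]
      exact zero_mem _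
    · rw [trdegGE_quot I z'] at ht
      rwa [Nat.sub_add_cancel hc] at ht

theorem mem_of_generization (a b c : ℕ) (x z : PrimeSpectrum (MvPolynomial (Fin n) A))
    (hzx : z.asIdeal ≤ x.asIdeal) (hzp : z.asIdeal.under A = x.asIdeal.under A)
    (hz : z ∈ badSet A n N a b) (ht : TrdegGE A z c) :
    x ∈ (if c = 0 then badSet A n N a b else badSet A n N a b ∩
      (quotDimSet A (PrimeSpectrum.vanishingIdeal (badSet A n N a b)) (c - 1))ᶜ) := by
  have hx : x ∈ badSet A n N a b :=
    ((PrimeSpectrum.le_iff_specializes z x).1 hzx).mem_closed (isClosed_badSet N a b) hz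
  rcases Nat.eq_zero_or_pos c with rfl | hc
  · rwa [if_pos rfl]
  · rw [if_neg hc.ne']
    refine ⟨hx, fun hdim => ?_⟩
    set I := PrimeSpectrum.vanishingIdeal (badSet A n N a b)
    haveI : Algebra.FiniteType A (MvPolynomial (Fin n) A ⧸ I) :=
      Algebra.FiniteType.of_surjective (Ideal.Quotient.mkₐ A I) Ideal.Quotient.mk_surjective
    have hlift : ∀ w ∈ badSet A n N a b, ∃ w' : PrimeSpectrum (MvPolynomial (Fin n) A ⧸ I),
        PrimeSpectrum.comap (Ideal.Quotient.mk I) w' = w := fun w hw => by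
      have : w ∈ Set.range (PrimeSpectrum.comap (Ideal.Quotient.mk I)) := by
        rw [range_comap_of_surjective _ _ Ideal.Quotient.mk_surjective, Ideal.mk_ker]
        exact fun f hf => (PrimeSpectrum.mem_vanishingIdeal _ _).1 hf w hw
      exact this
    obtain ⟨x', hx'⟩ := hlift x hx
    obtain ⟨z', hz'⟩ := hlift z hz
    refine (not_mem_dimLeSet_iff x' (c - 1)).2 ⟨z', ?_, ?_, ?_⟩ (hdim x' hx')
    · have h1 : PrimeSpectrum.comap (Ideal.Quotient.mk I) z' ≤ PrimeSpectrum.comap (Ideal.Quotient.mk I) x' := by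
        rw [hz', hx']; exact hzx
      exact (Ideal.comap_le_comap_iff_of_surjective (Ideal.Quotient.mk I) Ideal.Quotient.mk_surjective _ _).1 h1
    · rw [← hz', ← hx'] at hzp
      exact (Ideal.comap_comap _ _).symm.trans (hzp.trans (Ideal.comap_comap _ _))
    · rw [trdegGE_quot I z', hz', Nat.sub_add_cancel hc]
      exact ht

/-- The fibrewise `(S_k)` locus is open. -/
theorem isOpen_fibSk_poly (k : ℕ) :
    IsOpen {x : PrimeSpectrum (MvPolynomial (Fin n) A) | FibSk A (MvPolynomial (Fin n) A) N x k} := by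
  let I : ℕ → ℕ → Ideal (MvPolynomial (Fin n) A) := fun a b =>
    PrimeSpectrum.vanishingIdeal (badSet A n N a b)
  let S : ℕ → ℕ → Set (PrimeSpectrum (MvPolynomial (Fin n) A)) := fun a b =>
    if n - k - b = 0 then badSet A n N a b
    else badSet A n N a b ∩ (quotDimSet A (I a b) (n - k - b - 1))ᶜ
  have hS : ∀ a b, IsClosed (S a b) := fun a b => by
    simp only [S]
    split
    · exact isClosed_badSet N a b
    · exact (isClosed_badSet N a b).inter (isOpen_quotDimSet _ _).isClosed_compl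
  have h : {x : PrimeSpectrum (MvPolynomial (Fin n) A) | FibSk A (MvPolynomial (Fin n) A) N x k} =
      (⋃ a ∈ Set.Iic n, ⋃ b ∈ {b | b ≤ n ∧ n ≤ a + b + 1}, S a b)ᶜ := by
    ext x
    rw [Set.mem_ofPred_eq, Set.mem_compl_iff, iff_not_comm, not_fibSk_iff]
    simp only [Set.mem_iUnion, Set.mem_Iic, Set.mem_ofPred_eq, exists_prop]
    constructor
    · intro hx
      obtain ⟨a, ha, b, ⟨hb, hab⟩, hx⟩ := hx
      obtain ⟨z, hzx, hzp, hz, ht⟩ := exists_generization_of_mem N a b (n - k - b) x hx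
      exact ⟨z, hzx, hzp, a, ha, b, hb, hab, hz, ht⟩
    · rintro ⟨z, hzx, hzp, a, ha, b, hb, hab, hz, ht⟩
      exact ⟨a, ha, b, ⟨hb, hab⟩, mem_of_generization N a b (n - k - b) x z hzx hzp hz ht⟩
  rw [h, isOpen_compl_iff]
  exact (Set.finite_Iic n).isClosed_biUnion fun a _ =>
    ((Set.finite_Iic n).subset fun b hb => hb.1).isClosed_biUnion fun b _ => hS a b

end Poly

end Groth.Agent.FibCodepth
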