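import Groth.Agent.FibCodepth.GeomRkScheme
import Groth.Agent.FibCodepth.SuppComp
import Groth.Agent.FibCodepth.CompHull
import Groth.Agent.LocCoh.Connected
import Groth.Agent.PtTop.Catenary
import Groth.Agent.Depth.CM
import Groth.Agent.Omega.SmoothSerre
import Groth.Agent.HomShEval.Reflexive
import Groth.Agent.ConsPropLib.BaseChange
import Groth.Agent.FlatOpen.EquiDim
import Groth.Agent.S0603
import Groth.Prelude.Def_RelCanon

/-!
# Neighbourhoods of `(S_k)`-points: pure relative dimension and codimensions in the fibres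
-/

set_option autoImplicit false
set_option linter.style.haveILetI false

universe u

open CategoryTheory Limits AlgebraicGeometry IsLocalRing Topology TensorProduct Groth.Agent.VarDim

namespace Groth.Agent.FibCodepth.SkNhd

theorem skAt_structureModule_iff {X : Scheme.{u}} (k : ℕ) (x : X) :
    RelCanon.SkAt k (Coh.structureModule X) x ↔ LocCoh.HasSk k (X.presheaf.stalk x) (X.presheaf.stalk x) :=
  ⟨Omega.SmoothSerre.hasSk_congr (HomShEval.Reflexive.structureStalkEquiv x).symm k,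
    Omega.SmoothSerre.hasSk_congr (HomShEval.Reflexive.structureStalkEquiv x) k⟩

theorem isUniversallyCatenary_field (K : Type u) [Field K] : CAlg.IsUniversallyCatenary K := by
  haveI : IsRegularLocalRing K := inferInstance
  haveI := Depth.isCohenMacaulayLocalRing_of_isRegularLocalRing (R := K)
  haveI : LocCoh.IsCohenMacaulayRing K := Depth.isCohenMacaulayRing_of_isCohenMacaulayLocalRing
  exact S0603.result K

theorem isCatenary_stalk {K : Type u} [Field K] {Z : Scheme.{u}} (g : Z ⟶ Spec (CommRingCat.of K))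
    [LocallyOfFiniteType g] (z : Z) : CAlg.IsCatenary (Z.presheaf.stalk z) := by
  obtain ⟨U, hU, hz, -⟩ := exists_isAffineOpen_mem_and_subset (U := (⊤ : Z.Opens)) (x := z) trivial
  have e : U ≤ g ⁻¹ᵁ ⊤ := fun _ _ => trivial
  let ψ : K →+* Γ(Z, U) := (g.appLE ⊤ U e).hom.comp (Scheme.ΓSpecIso (CommRingCat.of K)).inv.hom
  letI := ψ.toAlgebra
  have hft : ψ.FiniteType := (g.finiteType_appLE (isAffineOpen_top _) hU e).comp
    (RingHom.FiniteType.of_surjective _
      (ConcreteCategory.bijective_of_isIso (Scheme.ΓSpecIso (CommRingCat.of K)).inv).2)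
  haveI : Algebra.FiniteType K Γ(Z, U) := hft
  letI : Algebra Γ(Z, U) (Z.presheaf.stalk z) := (Z.presheaf.germ U z hz).hom.toAlgebra
  haveI : IsLocalization.AtPrime (Z.presheaf.stalk z) (hU.primeIdealOf ⟨z, hz⟩).asIdeal :=
    hU.isLocalization_stalk ⟨z, hz⟩
  exact PtTop.Catenary.isCatenary_of_isLocalization (hU.primeIdealOf ⟨z, hz⟩).asIdeal.primeCompl _
    ((isUniversallyCatenary_field K).2 _ inferInstance)

theorem supportDim_localizedModule_self (R : Type u) [CommRing R] (p : Ideal R) [p.IsPrime] :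
    Module.supportDim (Localization.AtPrime p) (LocalizedModule p.primeCompl R) = (p.height : WithBot ℕ∞) := by
  rw [← IsLocalization.AtPrime.ringKrullDim_eq_height p (Localization.AtPrime p)]
  exact Module.supportDim_self_eq_ringKrullDim (Localization.AtPrime p)

theorem isEquidim_of_hasSk {R : Type u} [CommRing R] [IsLocalRing R] [IsNoetherianRing R]
    (hcat : CAlg.IsCatenary R) {k : ℕ} (hk : 2 ≤ k) (h : LocCoh.HasSk k R R) : EGA4.IsEquidim R := by
  refine fun p hp => LocCoh.ringKrullDim_quotient_minimalPrime hcat (fun q hq => ?_) p hp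
  have h1 := h q.asIdeal
  rw [supportDim_localizedModule_self] at h1
  have h2 : ((2 : ℕ∞) : WithBot ℕ∞) ≤ min ((k : ℕ∞) : WithBot ℕ∞) (q.asIdeal.height : WithBot ℕ∞) :=
    le_min (WithBot.coe_le_coe.2 (by exact_mod_cast hk)) (WithBot.coe_le_coe.2 hq)
  exact WithBot.coe_le_coe.1 (h2.trans h1)

section Restrict

variable {X Y : Scheme.{u}} (f : X ⟶ Y) (U : X.Opens) (s : Y)

theorem isOpenImmersion_fiberMap : IsOpenImmersion (MoreMor.fiberMap U.ι f s) :=
  MorphismProperty.of_isPullback (P := @IsOpenImmersion) (ConsPropLib.isPullback_fiberMap U.ι f s)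
    inferInstance

theorem fiberι_fiberMap (w : ↥((U.ι ≫ f).fiber s)) :
    f.fiberι s (MoreMor.fiberMap U.ι f s w) = U.ι ((U.ι ≫ f).fiberι s w) := by
  rw [← Scheme.Hom.comp_apply, ← Scheme.Hom.comp_apply, ConsPropLib.fiberMap_ι]

/-- The local rings of the fibres of the restriction to an open. -/
theorem nonempty_stalk_ringEquiv (w : ↥((U.ι ≫ f).fiber s)) :
    Nonempty ((f.fiber s).presheaf.stalk (MoreMor.fiberMap U.ι f s w) ≃+*
      ((U.ι ≫ f).fiber s).presheaf.stalk w) := by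
  haveI := isOpenImmersion_fiberMap f U s
  exact ⟨(asIso ((MoreMor.fiberMap U.ι f s).stalkMap w)).commRingCatIsoToRingEquiv⟩

theorem max_fiberMap {w : ↥((U.ι ≫ f).fiber s)} (hw : FlatOpen.EquiDim.Max w) :
    FlatOpen.EquiDim.Max (MoreMor.fiberMap U.ι f s w) := by
  haveI := isOpenImmersion_fiberMap f U s
  intro v hv
  obtain ⟨v', rfl⟩ := hv.mem_open (MoreMor.fiberMap U.ι f s).isOpenEmbedding.isOpen_range ⟨w, rfl⟩
  rw [hw v' ((MoreMor.fiberMap U.ι f s).isEmbedding.specializes_iff.1 hv)]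

/-- Restricting to an open does not change the dimensions of the points of the fibres. -/
theorem dimPt_fiberMap [LocallyOfFiniteType f] (w : ↥((U.ι ≫ f).fiber s)) :
    (letI := (U.ι ≫ f).fiberOverSpecResidueField s; dimPt (Y.residueField s) ((U.ι ≫ f).fiber s) w) =
      (letI := f.fiberOverSpecResidueField s;
        dimPt (Y.residueField s) (f.fiber s) (MoreMor.fiberMap U.ι f s w)) := by
  have h1 := CycLib.trdeg_fibre (U.ι ≫ f) s w
  have h2 := CycLib.trdeg_fibre f s (MoreMor.fiberMap U.ι f s w)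
  set x := (U.ι ≫ f).fiberι s w
  have key : ∀ z : X, z = U.ι x →
      @Algebra.trdeg (Y.residueField (f z)) (X.residueField z) _ _ (f.residueFieldMap z).hom.toAlgebra =
        @Algebra.trdeg (Y.residueField ((U.ι ≫ f) x)) ((U : Scheme.{u}).residueField x) _ _
          ((U.ι ≫ f).residueFieldMap x).hom.toAlgebra := by
    rintro _ rfl
    letI := (f.residueFieldMap (U.ι x)).hom.toAlgebra
    letI := ((U.ι ≫ f).residueFieldMap x).hom.toAlgebra
    haveI : FaithfulSMul (Y.residueField ((U.ι ≫ f) x)) ((U : Scheme.{u}).residueField x) :=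
      (faithfulSMul_iff_algebraMap_injective _ _).2 (RingHom.injective _)
    refine CycLib.trdeg_congr (RingEquiv.refl _)
      (RingEquiv.ofBijective _ (RadPtLib.residueFieldMap_bijective U.ι x)) fun a => ?_
    show (U.ι.residueFieldMap x).hom ((f.residueFieldMap (U.ι x)).hom a) =
      ((U.ι ≫ f).residueFieldMap x).hom a
    rw [Scheme.residueFieldMap_comp]
    rfl
  have h3 := (key _ (fiberι_fiberMap f U s w))
  rw [h2, h1] at h3
  exact_mod_cast h3.symm

end Restrict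

variable {Y T : Scheme.{u}} (f : Y ⟶ T) [LocallyOfFiniteType f]

theorem topDim_eq_dimPt (s : T) (z : ↥(f.fiber s)) :
    topologicalKrullDim ↥(closure ({z} : Set ↥(f.fiber s))) =
      (letI := f.fiberOverSpecResidueField s;
        (dimPt (T.residueField s) (f.fiber s) z : WithBot ℕ∞)) := by
  letI := f.fiberOverSpecResidueField s
  haveI : LocallyOfFiniteType ((f.fiber s) ↘ Spec (CommRingCat.of (T.residueField s))) :=
    CycLib.locallyOfFiniteType_fiberToSpecResidueField f s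
  rw [CycLib.topologicalKrullDim_closure, height_eq_dimPt (T.residueField s)]
  rfl

omit [LocallyOfFiniteType f] in
/-- The two indexations of a point of the restriction. -/
theorem exists_fibre_point (U : Y.Opens) {z : Y} (hz : z ∈ U) :
    ∃ w : ↥((U.ι ≫ f).fiber (f z)), MoreMor.fiberMap U.ι f (f z) w = f.asFiber z := by
  refine ⟨(U.ι ≫ f).asFiber ⟨z, hz⟩, (f.fiberι (f z)).isEmbedding.injective ?_⟩
  rw [f.fiberι_asFiber]
  refine (fiberι_fiberMap f U (f z) _).trans ?_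
  exact congrArg U.ι ((U.ι ≫ f).fiberι_asFiber ⟨z, hz⟩)

theorem exists_nhd [IsLocallyNoetherian T] [Flat f] (k : ℕ) (hk : 2 ≤ k) (y : Y)
    (hy : RelCanon.SkAt k (Coh.structureModule (f.fiber (f y))) (f.asFiber y))
    (Z : Set Y) (hZ : IsClosed Z) (hyZ : y ∈ Z) (c : WithBot ℕ∞)
    (hc : ∀ z : Y, f z = f y → z ∈ Z → z ⤳ y →
      c ≤ ringKrullDim ((f.fiber (f z)).presheaf.stalk (f.asFiber z))) :
    ∃ U : Y.Opens, y ∈ U ∧ RelCanon.IsSkMor (U.ι ≫ f) k ∧
      (∃ e : ℕ, Cyc.HasRelDim (U.ι ≫ f) e) ∧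
      ∀ z : Y, z ∈ U → z ∈ Z → c ≤ ringKrullDim ((f.fiber (f z)).presheaf.stalk (f.asFiber z)) := by
  classical
  haveI : LocallyOfFinitePresentation f := LocallyOfFinitePresentation.iff_locallyOfFiniteType.mpr ‹_›
  obtain ⟨V, W, hV, hW, e, hyW⟩ := FlatSect.exists_chart f y
  letI := (f.appLE V W e).hom.toAlgebra
  haveI : Algebra.FinitePresentation Γ(T, V) Γ(Y, W) := f.finitePresentation_appLE hV hW e
  haveI : Module.Flat Γ(T, V) Γ(Y, W) := f.flat_appLE hV hW e
  haveI : IsLocallyNoetherian (f.fiber (f y)) :=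
    LocallyOfFiniteType.isLocallyNoetherian (f.fiberToSpecResidueField (f y))
  have hsk := (skAt_structureModule_iff k _).1 hy
  have heq : EGA4.IsEquidim ((f.fiber (f y)).presheaf.stalk (f.asFiber y)) :=
    isEquidim_of_hasSk (isCatenary_stalk (K := T.residueField (f y)) (f.fiberToSpecResidueField (f y)) _) hk hsk
  obtain ⟨hfs, j, hj⟩ := (equidim_and_sk_ring_iff_chart f hV hW e k (by omega) (f y) (f.asFiber y) y
    (f.fiberι_asFiber y) hyW).1 ⟨heq, hsk⟩
  obtain ⟨O, hO, hOm⟩ := exists_open_of_primeIdealOf hW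
    ((isOpen_fibSk (A := Γ(T, V)) Γ(Y, W) k).inter (isOpen_assLoci (A := Γ(T, V)) Γ(Y, W) {j} 0).1)
  let U₁ : Y.Opens := ⟨O, hO⟩ ⊓ W
  have hyU₁ : y ∈ U₁ := ⟨(hOm y hyW).2 ⟨hfs, hj⟩, hyW⟩
  -- (S_k) at the points of `U₁`
  have hSk : ∀ (U : Y.Opens), U ≤ U₁ → RelCanon.IsSkMor (U.ι ≫ f) k := by
    refine fun U hU => ⟨inferInstance, inferInstance, fun x => (skAt_structureModule_iff k _).2 ?_⟩
    obtain ⟨ε⟩ := nonempty_stalk_ringEquiv f U _ ((U.ι ≫ f).asFiber x)
    refine Omega.SmoothSerre.hasSk_ringEquiv ε k ?_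
    set v := MoreMor.fiberMap U.ι f ((U.ι ≫ f) x) ((U.ι ≫ f).asFiber x)
    have hv : f.fiberι _ v = U.ι x :=
      (fiberι_fiberMap f U _ _).trans (congrArg U.ι ((U.ι ≫ f).fiberι_asFiber x))
    have hvU : U.ι x ∈ U₁ := hU x.2
    exact ((equidim_and_sk_ring_iff_chart f hV hW e k (by omega) _ v (U.ι x) hv hvU.2).2
      ⟨((hOm _ hvU.2).1 hvU.1).1, j, ((hOm _ hvU.2).1 hvU.1).2⟩).2
  -- all maximal points of the fibres have dimension `j`
  have hmaxdim : ∀ (U : Y.Opens), U ≤ U₁ → ∀ (s : T) (w : ↥((U.ι ≫ f).fiber s)), FlatOpen.EquiDim.Max w →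
      (letI := (U.ι ≫ f).fiberOverSpecResidueField s;
        dimPt (T.residueField s) ((U.ι ≫ f).fiber s) w) = j := by
    intro U hU s w hw
    set v := MoreMor.fiberMap U.ι f s w
    have hv : f.fiberι s v ∈ U₁ := by
      rw [fiberι_fiberMap]; exact hU ((U.ι ≫ f).fiberι s w).2
    set q := hW.primeIdealOf ⟨f.fiberι s v, hv.2⟩
    have hass : IsAssFib Γ(T, V) Γ(Y, W) Γ(Y, W) q := by
      refine isAssFib_of_minimal Γ(Y, W) q ?_ fun z' hle hp _ => ?_
      · rw [Module.mem_support_iff_of_finite, Module.annihilator_eq_bot.2 inferInstance]; exact bot_le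
      · obtain ⟨v', hv', hsp, rfl⟩ := exists_fibre_of_prime f hV hW e v rfl hv.2 z' hle hp
        obtain rfl := max_fiberMap f U s hw v' hsp
        rfl
    obtain ⟨m, hm, ht⟩ := ((hOm _ hv.2).1 hv.1).2 q le_rfl rfl hass
    rw [Finset.mem_singleton] at hm
    subst hm
    have h1 := topDim_closure_fibre f hV hW e s v _ rfl hv.2 m ht
    rw [topDim_eq_dimPt] at h1
    rw [dimPt_fiberMap]
    exact_mod_cast h1
  have hrel : ∀ (U : Y.Opens), U ≤ U₁ → Cyc.HasRelDim (U.ι ≫ f) j := by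
    intro U hU s
    letI := (U.ι ≫ f).fiberOverSpecResidueField s
    haveI : LocallyOfFiniteType (((U.ι ≫ f).fiber s) ↘ Spec (CommRingCat.of (T.residueField s))) :=
      CycLib.locallyOfFiniteType_fiberToSpecResidueField (U.ι ≫ f) s
    exact (FlatOpen.EquiDim.irreducibleComponents_dimPt_iff (T.residueField s) j).2 (hmaxdim U hU s)
  -- the dimension formula on `U₁`
  have hform : ∀ z ∈ U₁, ∃ a b : ℕ, ringKrullDim ((f.fiber (f z)).presheaf.stalk (f.asFiber z)) = (a : WithBot ℕ∞) ∧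
      topologicalKrullDim ↥(closure ({f.asFiber z} : Set ↥(f.fiber (f z)))) = (b : WithBot ℕ∞) ∧ a + b = j := by
    intro z hz
    obtain ⟨w, hw⟩ := exists_fibre_point f U₁ hz
    letI := (U₁.ι ≫ f).fiberOverSpecResidueField (f z)
    haveI : LocallyOfFiniteType (((U₁.ι ≫ f).fiber (f z)) ↘ Spec (CommRingCat.of (T.residueField (f z)))) :=
      CycLib.locallyOfFiniteType_fiberToSpecResidueField (U₁.ι ≫ f) (f z)
    obtain ⟨n, hn, hnj, -⟩ := FlatOpen.EquiDim.coheight_add_dimPt (T.residueField (f z))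
      (hmaxdim U₁ le_rfl (f z)) w
    refine ⟨n, _, ?_, (topDim_eq_dimPt f (f z) (f.asFiber z)).trans rfl, ?_⟩
    · obtain ⟨ε⟩ := nonempty_stalk_ringEquiv f U₁ (f z) w
      rw [← hw, ringKrullDim_eq_of_ringEquiv ε, ringKrullDim_stalk_eq_coheight, hn]
      rfl
    · rw [← hw, ← dimPt_fiberMap]
      exact hnj
  by_cases hcbot : c = ⊥
  · exact ⟨U₁, hyU₁, hSk U₁ le_rfl, ⟨j, hrel U₁ le_rfl⟩, fun z _ _ => hcbot ▸ bot_le⟩
  obtain ⟨ay, by', hay, hby, habj⟩ := hform y hyU₁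
  have hcy := hc y rfl hyZ specializes_rfl
  rw [hay] at hcy
  obtain ⟨n, rfl⟩ : ∃ n : ℕ, c = (n : WithBot ℕ∞) := by
    obtain ⟨c', rfl⟩ := WithBot.ne_bot_iff_exists.1 hcbot
    obtain ⟨n, rfl⟩ := ENat.ne_top_iff_exists.1
      (ne_top_of_le_ne_top (ENat.natCast_ne_top ay) (WithBot.coe_le_coe.1 hcy))
    exact ⟨n, rfl⟩
  have hn_le : n ≤ ay := by exact_mod_cast hcy
  let G : Set (PrimeSpectrum Γ(Y, W)) := gset Γ(T, V) (hW.fromSpec ⁻¹' Z) (j - n + 1)
  have hWcl : IsClosed (hW.fromSpec ⁻¹' Z) := hZ.preimage hW.fromSpec.continuous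
  obtain ⟨O', hO', hO'm⟩ := exists_open_of_primeIdealOf hW
    (isClosed_gset (A := Γ(T, V)) hWcl (j - n + 1)).isOpen_compl
  have hZiff : ∀ (x : Y) (hx : x ∈ W), hW.primeIdealOf ⟨x, hx⟩ ∈ hW.fromSpec ⁻¹' Z ↔ x ∈ Z := fun x hx => by
    show hW.fromSpec (hW.primeIdealOf ⟨x, hx⟩) ∈ Z ↔ x ∈ Z
    rw [hW.fromSpec_primeIdealOf]
  let U : Y.Opens := U₁ ⊓ ⟨O', hO'⟩
  refine ⟨U, ⟨hyU₁, (hO'm y hyW).2 fun hG => ?_⟩, hSk U inf_le_left, ⟨j, hrel U inf_le_left⟩, fun z hz hzZ => ?_⟩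
  · obtain ⟨z', hle, hp, hz'Z, ht⟩ := (mem_gset_iff hWcl _ _).1 hG
    obtain ⟨x', hx', hxx⟩ := AssSch.Basic.exists_point hW z'.asIdeal
    obtain rfl : hW.primeIdealOf ⟨x', hx'⟩ = z' := PrimeSpectrum.ext hxx
    have hsp : x' ⤳ y := (primeIdealOf_le_iff hW hyW hx').1 hle
    have hfx : f x' = f y := (primeIdealOf_under_eq_iff f hV hW e hyW hx').1 hp
    have hx'U : x' ∈ U₁ := hsp.mem_open U₁.2 hyU₁
    have hx'Z : x' ∈ Z := (hZiff x' hx').1 hz'Z
    obtain ⟨a, b, ha, hb, hab⟩ := hform x' hx'U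
    have h1 := hc x' hfx hx'Z hsp
    rw [ha, Nat.cast_le] at h1
    obtain ⟨t, htt⟩ := trdegEQ_unique_exists (A := Γ(T, V)) (hW.primeIdealOf ⟨x', hx'⟩)
    have h2 := (topDim_closure_fibre f hV hW e _ (f.asFiber x') x' (f.fiberι_asFiber x') hx' t htt).symm.trans hb
    rw [Nat.cast_inj] at h2
    obtain ⟨t', ht'1, -⟩ := id ht
    have h3 : j - n + 1 ≤ t := by_contra fun hlt => htt.2 (ht.mono (by omega))
    omega
  · obtain ⟨a, b, ha, hb, hab⟩ := hform z hz.1
    rw [ha, Nat.cast_le]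
    have hzW : z ∈ W := hz.1.2
    obtain ⟨t, htt⟩ := trdegEQ_unique_exists (A := Γ(T, V)) (hW.primeIdealOf ⟨z, hzW⟩)
    have h2 := (topDim_closure_fibre f hV hW e _ (f.asFiber z) z (f.fiberι_asFiber z) hzW t htt).symm.trans hb
    rw [Nat.cast_inj] at h2
    by_contra hlt
    refine (hO'm z hzW).1 hz.2 ((mem_gset_iff hWcl _ _).2
      ⟨_, le_rfl, rfl, (hZiff z hzW).2 hzZ, htt.1.mono (by omega)⟩)

end Groth.Agent.FibCodepth.SkNhd
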