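import Groth.Agent.FibCodepth.BaseChange
import Groth.Agent.FlatOpen.SmoothAt

/-!
# Points at which the fibre is smooth
-/

set_option autoImplicit false
set_option linter.style.haveILetI false

universe u

open TensorProduct IsLocalRing

namespace Groth.Agent.FibCodepth

section Def

variable (A : Type u) {B : Type u} [CommRing A] [CommRing B] [Algebra A B]

/-- The fibre through `z` is smooth at `z` over the residue field of its image. -/
def SmFib (z : PrimeSpectrum B) : Prop :=
  ∀ Q : PrimeSpectrum ((z.asIdeal.under A).Fiber B),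
    Q.asIdeal.comap Algebra.TensorProduct.includeRight.toRingHom = z.asIdeal →
      Algebra.IsSmoothAt (z.asIdeal.under A).ResidueField Q.asIdeal

theorem smFib_iff (z : PrimeSpectrum B) {p : Ideal A} [p.IsPrime] (hp : z.asIdeal.under A = p)
    (Q : PrimeSpectrum (p.Fiber B))
    (hQ : Q.asIdeal.comap Algebra.TensorProduct.includeRight.toRingHom = z.asIdeal) :
    SmFib A z ↔ Algebra.IsSmoothAt p.ResidueField Q.asIdeal := by
  subst hp
  refine ⟨fun h => h Q hQ, fun h Q' hQ' => ?_⟩
  have : Q' = Q := le_antisymm (fibre_le_of_le Q' Q (hQ'.trans hQ.symm).le) (fibre_le_of_le Q Q' (hQ.trans hQ'.symm).le)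
  exact EtStruct.isSmoothAt_congr (congrArg PrimeSpectrum.asIdeal this.symm) h

end Def

section Closed

open FlatOpen.SmoothAt in
/-- The fibre is smooth at `z` iff the closed fibre of the local homomorphism is formally smooth. -/
theorem closedMap_formallySmooth_iff_smFib {A B A' B' : Type u} [CommRing A] [CommRing B] [CommRing A']
    [CommRing B'] [Algebra A B] [Algebra.FiniteType A B] (z : PrimeSpectrum B) [Algebra A A'] [Algebra B B']
    [Algebra A B'] [IsScalarTower A B B'] [Algebra A' B'] [IsScalarTower A A' B']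
    [IsLocalization.AtPrime A' (z.asIdeal.under A)] [IsLocalization.AtPrime B' z.asIdeal] [IsLocalRing A']
    [IsLocalRing B'] [IsLocalHom (algebraMap A' B')] :
    (closedMap (algebraMap A' B')).FormallySmooth ↔ SmFib A z := by
  let p := z.asIdeal.under A
  obtain ⟨Q, hQ⟩ := RelDim.exists_over A B z
  rw [smFib_iff A z (p := p) rfl Q hQ]
  haveI : z.asIdeal.LiesOver p := ⟨rfl⟩
  obtain ⟨ψ, hψs, hψk, hψa⟩ := RelDim.exists_localRingHom_fibre p z.asIdeal Q.asIdeal hQ
  let εB : B' ≃ₐ[B] Localization.AtPrime z.asIdeal := IsLocalization.algEquiv z.asIdeal.primeCompl _ _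
  let εA : A' ≃ₐ[A] Localization.AtPrime p := IsLocalization.algEquiv p.primeCompl _ _
  let ψ' : B' →+* Localization.AtPrime Q.asIdeal := ψ.comp εB.toRingEquiv.toRingHom
  have hψ's : Function.Surjective ψ' := hψs.comp εB.surjective
  have hm : maximalIdeal A' = p.map (algebraMap A A') :=
    (IsLocalization.AtPrime.map_eq_maximalIdeal p A').symm
  have hk : RingHom.ker ψ' = (maximalIdeal A').map (algebraMap A' B') := by
    rw [hm, Ideal.map_map, ← IsScalarTower.algebraMap_eq, ← RingHom.comap_ker, hψk]
    show Ideal.comap (RingEquiv.toRingHom εB.toRingEquiv) _ = _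
    refine (Ideal.map_symm εB.toRingEquiv).symm.trans ?_
    rw [Ideal.map_map]
    refine (Ideal.map_map _ (εB.toRingEquiv.symm : Localization.AtPrime z.asIdeal →+* B')).trans ?_
    congr 1
    refine RingHom.ext fun a => ?_
    show εB.symm (algebraMap B (Localization.AtPrime z.asIdeal) (algebraMap A B a)) = algebraMap A B' a
    rw [εB.symm.commutes, ← IsScalarTower.algebraMap_apply]
  let e1 : (B' ⧸ (maximalIdeal A').map (algebraMap A' B')) ≃+* Localization.AtPrime Q.asIdeal :=
    (Ideal.quotEquivOfEq hk.symm).trans (RingHom.quotientKerEquivOfSurjective hψ's)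
  let e0 : ResidueField A' ≃+* p.ResidueField := ResidueField.mapEquiv εA.toRingEquiv
  have key : e1.toRingHom.comp (closedMap (algebraMap A' B')) =
      (algebraMap p.ResidueField (Localization.AtPrime Q.asIdeal)).comp e0.toRingHom := by
    refine Ideal.Quotient.ringHom_ext (IsLocalization.ringHom_ext p.primeCompl (RingHom.ext fun a => ?_))
    show ψ (εB (algebraMap A' B' (algebraMap A A' a))) =
      algebraMap p.ResidueField (Localization.AtPrime Q.asIdeal) (residue (Localization.AtPrime p) (εA (algebraMap A A' a)))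
    rw [← IsScalarTower.algebraMap_apply A A' B', IsScalarTower.algebraMap_apply A B B', εB.commutes, hψa,
      εA.commutes, show residue (Localization.AtPrime p) (algebraMap A _ a) = algebraMap A p.ResidueField a from rfl,
      IsScalarTower.algebraMap_apply p.ResidueField (p.Fiber B) (Localization.AtPrime Q.asIdeal)]
    congr 1
    rw [← IsScalarTower.algebraMap_apply A p.ResidueField (p.Fiber B)]
    exact (Algebra.TensorProduct.includeRight : B →ₐ[A] p.Fiber B).commutes a
  have hR := RingHom.FormallySmooth.respectsIso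
  show _ ↔ Algebra.FormallySmooth p.ResidueField (Localization.AtPrime Q.asIdeal)
  rw [← RingHom.formallySmooth_algebraMap]
  constructor
  · intro h
    have h1 := hR.1 (T := Localization.AtPrime Q.asIdeal) _ e1 h
    rw [key] at h1
    have h2 := hR.2 _ e0.symm h1
    rwa [RingHom.comp_assoc, RingEquiv.toRingHom_eq_coe, RingEquiv.toRingHom_eq_coe,
      RingEquiv.comp_symm, RingHom.comp_id] at h2
  · intro h
    have h1 := hR.2 _ e0 h
    rw [← key] at h1
    have h2 := hR.1 (T := B' ⧸ (maximalIdeal A').map (algebraMap A' B')) _ e1.symm h1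
    have e : e1.symm.toRingHom.comp (e1.toRingHom.comp (closedMap (algebraMap A' B'))) = closedMap (algebraMap A' B') :=
      RingHom.ext fun x => e1.symm_apply_apply _
    exact e ▸ h2

variable {A B : Type u} [CommRing A] [CommRing B] [Algebra A B] [Algebra.FinitePresentation A B]

/-- For a flat algebra, smoothness at a point is smoothness of the fibre there. -/
theorem isSmoothAt_iff_smFib (z : PrimeSpectrum B) (hflat : Module.Flat A (Localization.AtPrime z.asIdeal)) :
    Algebra.IsSmoothAt A z.asIdeal ↔ SmFib A z := by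
  let p := z.asIdeal.under A
  haveI : z.asIdeal.LiesOver p := ⟨rfl⟩
  letI := Localization.AtPrime.algebraOfLiesOver p z.asIdeal
  let Ap := Localization.AtPrime p
  let Bz := Localization.AtPrime z.asIdeal
  haveI : Module.Flat Ap Bz := (Module.flat_iff_of_isLocalization Ap p.primeCompl Bz).mpr hflat
  haveI : IsLocalHom (algebraMap Ap Bz) := Localization.isLocalHom_localRingHom _ _ _ _
  rw [← closedMap_formallySmooth_iff_smFib (A' := Ap) (B' := Bz) z]
  constructor
  · intro h
    haveI : Algebra.FormallySmooth A Bz := h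
    haveI : Algebra.FormallySmooth Ap Bz := Algebra.FormallySmooth.localization_base p.primeCompl
    exact FlatOpen.SmoothAt.closedMap_formallySmooth_iff.mpr inferInstance
  · intro h
    haveI : Algebra.FormallySmooth Ap Bz :=
      FlatOpen.SmoothAt.formallySmooth_of_closedFibre (R := A) (C := B) p z.asIdeal (A := Ap) (B := Bz) h
    haveI : Algebra.FormallySmooth A Ap := Algebra.FormallySmooth.of_isLocalization p.primeCompl
    exact Algebra.FormallySmooth.comp A Ap Bz

/-- For a flat algebra the points of smooth fibre form an open set. -/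
theorem isOpen_smFib [Module.Flat A B] : IsOpen {z : PrimeSpectrum B | SmFib A z} := by
  have h : {z : PrimeSpectrum B | SmFib A z} = Algebra.smoothLocus A B := by
    ext z
    exact (isSmoothAt_iff_smFib z (Module.Flat.trans A B _)).symm
  rw [h]
  exact Algebra.isOpen_smoothLocus

end Closed

section Field

variable {k K F : Type u} [Field k] [Field K] [Algebra k K] [CommRing F] [Algebra k F]

attribute [local instance] Algebra.TensorProduct.rightAlgebra in
theorem isSmoothAt_tensor_iff [Algebra.FinitePresentation k F] (Q : Ideal (K ⊗[k] F)) [Q.IsPrime] :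
    Algebra.IsSmoothAt K Q ↔ Algebra.IsSmoothAt k (Q.comap (algebraMap F (K ⊗[k] F))) := by
  constructor
  · intro h
    exact EtStruct.isSmoothAt_of_flat_baseChange Q
  · intro h
    obtain ⟨g, hg, hsm⟩ := Algebra.IsSmoothAt.exists_notMem_smooth k (Q.comap (algebraMap F (K ⊗[k] F)))
    haveI := hsm
    let Fg := Localization.Away g
    letI : Algebra (K ⊗[k] F) (K ⊗[k] Fg) :=
      (Algebra.TensorProduct.map (AlgHom.id K K) (IsScalarTower.toAlgHom k F Fg)).toRingHom.toAlgebra
    haveI : IsScalarTower K (K ⊗[k] F) (K ⊗[k] Fg) :=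
      IsScalarTower.of_algebraMap_eq (R := K) (S := K ⊗[k] F) (A := K ⊗[k] Fg) fun c => by
        rw [RingHom.algebraMap_toAlgebra]
        simp [Algebra.TensorProduct.algebraMap_apply]
    haveI : IsLocalization.Away (algebraMap F (K ⊗[k] F) g) (K ⊗[k] Fg) := by
      have h1 := IsLocalization.tensorProduct_tensorProduct_right k K (Submonoid.powers g) Fg
        (by ext c; simp [RingHom.algebraMap_toAlgebra])
      rwa [Submonoid.map_powers] at h1
    obtain ⟨Q', hQ'⟩ : (⟨Q, inferInstance⟩ : PrimeSpectrum (K ⊗[k] F)) ∈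
        Set.range (PrimeSpectrum.comap (algebraMap (K ⊗[k] F) (K ⊗[k] Fg))) := by
      rw [PrimeSpectrum.localization_away_comap_range (K ⊗[k] Fg) (algebraMap F (K ⊗[k] F) g)]
      exact hg
    have hQQ : Q'.asIdeal.comap (algebraMap (K ⊗[k] F) (K ⊗[k] Fg)) = Q := congrArg PrimeSpectrum.asIdeal hQ'
    haveI : Algebra.FormallySmooth K (Localization.AtPrime Q'.asIdeal) := by
      haveI : Algebra.FormallySmooth (K ⊗[k] Fg) (Localization.AtPrime Q'.asIdeal) :=
        Algebra.FormallySmooth.of_isLocalization Q'.asIdeal.primeCompl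
      exact Algebra.FormallySmooth.comp K (K ⊗[k] Fg) _
    haveI := IsLocalization.isLocalization_isLocalization_atPrime_isLocalization
      (Submonoid.powers (algebraMap F (K ⊗[k] F) g)) (Localization.AtPrime Q'.asIdeal) Q'.asIdeal
    refine EtStruct.isSmoothAt_congr hQQ ?_
    exact Algebra.FormallySmooth.of_equiv (R := K) (A := Localization.AtPrime Q'.asIdeal) ((IsLocalization.algEquiv (Q'.asIdeal.comap (algebraMap (K ⊗[k] F) (K ⊗[k] Fg))).primeCompl
      (Localization.AtPrime Q'.asIdeal) (Localization.AtPrime (Q'.asIdeal.comap (algebraMap (K ⊗[k] F) (K ⊗[k] Fg))))).restrictScalars K)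

theorem isSmoothAt_comap_algEquiv {T T' : Type u} [CommRing T] [CommRing T'] [Algebra K T] [Algebra K T']
    (e : T ≃ₐ[K] T') (Q : Ideal T') [Q.IsPrime] :
    Algebra.IsSmoothAt K (Q.comap (e : T →+* T')) ↔ Algebra.IsSmoothAt K Q :=
  Algebra.FormallySmooth.iff_of_equiv
    (IsLocalization.algEquivOfAlgEquiv _ _ e (M := (Q.comap (e : T →+* T')).primeCompl) (T := Q.primeCompl) (by
      ext x
      simp only [Submonoid.mem_map]
      refine ⟨?_, fun hx => ⟨e.symm x, ?_, e.apply_symm_apply x⟩⟩
      · rintro ⟨y, hy, rfl⟩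
        exact hy
      · show ¬ e (e.symm x) ∈ Q
        rw [e.apply_symm_apply]
        exact hx))

end Field

section Invariance

/-- Smoothness of the fibre can be tested after any field extension of the residue field. -/
theorem isSmoothAt_iff_smFib_of_field {A B K : Type u} [CommRing A] [CommRing B] [Algebra A B]
    [Algebra.FiniteType A B] [Field K] [Algebra A K] (z : PrimeSpectrum B)
    (hker : RingHom.ker (algebraMap A K) = z.asIdeal.under A) (Q : Ideal (K ⊗[A] B)) [Q.IsPrime]
    (hQ : Q.comap Algebra.TensorProduct.includeRight.toRingHom = z.asIdeal) :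
    Algebra.IsSmoothAt K Q ↔ SmFib A z := by
  let p := z.asIdeal.under A
  let j : p.ResidueField →ₐ[A] K := Ideal.ResidueField.liftₐ p (Algebra.ofId A K) hker.ge fun a ha =>
    isUnit_iff_ne_zero.2 fun h0 => ha (hker.le h0)
  letI : Algebra p.ResidueField K := j.toRingHom.toAlgebra
  haveI : IsScalarTower A p.ResidueField K := IsScalarTower.of_algebraMap_eq fun a => (j.commutes a).symm
  let e : K ⊗[p.ResidueField] (p.Fiber B) ≃ₐ[K] K ⊗[A] B :=
    Algebra.TensorProduct.cancelBaseChange A p.ResidueField K K B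
  letI := Algebra.TensorProduct.rightAlgebra (R := p.ResidueField) (A := K) (B := p.Fiber B)
  let Q' : Ideal (K ⊗[p.ResidueField] (p.Fiber B)) := Q.comap (e : _ →+* K ⊗[A] B)
  let Q₀ : PrimeSpectrum (p.Fiber B) := ⟨Q'.comap (algebraMap (p.Fiber B) _), inferInstance⟩
  have hQ₀ : Q₀.asIdeal.comap Algebra.TensorProduct.includeRight.toRingHom = z.asIdeal := by
    refine Eq.trans ?_ hQ
    ext b
    show e ((1 : K) ⊗ₜ[p.ResidueField] ((1 : p.ResidueField) ⊗ₜ[A] b)) ∈ Q ↔ _
    rw [Algebra.TensorProduct.cancelBaseChange_tmul, one_smul]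
    rfl
  haveI : Algebra.FinitePresentation p.ResidueField (p.Fiber B) :=
    Algebra.FinitePresentation.of_finiteType.1 inferInstance
  rw [smFib_iff A z (p := p) rfl Q₀ hQ₀, ← isSmoothAt_tensor_iff (k := p.ResidueField) (K := K) Q',
    isSmoothAt_comap_algEquiv]

variable (A₀ A : Type u) {P₀ P : Type u} [CommRing A₀] [CommRing A] [CommRing P₀] [CommRing P] [Algebra A₀ A]
  [Algebra A₀ P₀] [Algebra A P] [Algebra P₀ P] [Algebra A₀ P] [IsScalarTower A₀ A P] [IsScalarTower A₀ P₀ P]
  [Algebra.IsPushout A₀ A P₀ P] [Algebra.FiniteType A₀ P₀]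

/-- Smoothness of the fibre is unchanged by base change. -/
theorem smFib_baseChange (z : PrimeSpectrum P) :
    SmFib A z ↔ SmFib A₀ (PrimeSpectrum.comap (algebraMap P₀ P) z) := by
  let p := z.asIdeal.under A
  obtain ⟨Q, hQ⟩ := exists_fibre_pt (A := A) z rfl
  let e : p.Fiber P ≃ₐ[p.ResidueField] p.ResidueField ⊗[A₀] P₀ :=
    (Algebra.TensorProduct.congr (AlgEquiv.refl : p.ResidueField ≃ₐ[p.ResidueField] p.ResidueField)
      (Algebra.IsPushout.equiv A₀ A P₀ P).symm).trans
      (Algebra.TensorProduct.cancelBaseChange A₀ A p.ResidueField p.ResidueField P₀)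
  let Q₁ : Ideal (p.ResidueField ⊗[A₀] P₀) := Q.asIdeal.comap (e.symm : _ →+* p.Fiber P)
  rw [smFib_iff A z (p := p) rfl Q hQ, ← isSmoothAt_comap_algEquiv e.symm]
  refine isSmoothAt_iff_smFib_of_field _ ?_ Q₁ ?_
  · rw [under_comap A₀ A, IsScalarTower.algebraMap_eq A₀ A p.ResidueField, ← RingHom.comap_ker,
      Ideal.ker_algebraMap_residueField]
  · refine Eq.trans ?_ (congrArg (Ideal.comap (algebraMap P₀ P)) hQ)
    ext s
    have he : e ((1 : p.ResidueField) ⊗ₜ[A] algebraMap P₀ P s) = (1 : p.ResidueField) ⊗ₜ[A₀] s := by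
      show Algebra.TensorProduct.cancelBaseChange A₀ A p.ResidueField p.ResidueField P₀
        ((1 : p.ResidueField) ⊗ₜ[A] (Algebra.IsPushout.equiv A₀ A P₀ P).symm (algebraMap P₀ P s)) = _
      rw [Algebra.IsPushout.equiv_symm_algebraMap_right, Algebra.TensorProduct.cancelBaseChange_tmul, one_smul]
    show e.symm ((1 : p.ResidueField) ⊗ₜ[A₀] s) ∈ Q.asIdeal ↔ (1 : p.ResidueField) ⊗ₜ[A] algebraMap P₀ P s ∈ Q.asIdeal
    rw [← he, e.symm_apply_apply]

end Invariance

end Groth.Agent.FibCodepth
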